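import Groth.Agent.NodeFam.NodeDim
import Groth.Agent.DiffLib.BaseChange
import Groth.Agent.LC.CanonComplete
import Mathlib.RingTheory.MvPowerSeries.NoZeroDivisors

/-!
# The two sides of an ordinary double point
-/

set_option autoImplicit false
set_option linter.style.haveILetI false

universe u

open IsLocalRing MvPowerSeries

namespace Groth.Agent.CurveGor

open Groth.Agent NodeFam

variable {K : Type u} [Field K]

/-- The axes of the node: two primes with zero intersection, spanning the origin. -/
theorem isPrime_axis (l : Fin 2) :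
    (Ideal.span {Ideal.Quotient.mk (nodeIdeal K) (X l)}).IsPrime := by
  have h1 : (Ideal.span {(X l : PS2 K)}).IsPrime := by
    let e : Fin 1 ↪ Fin 2 := ⟨fun _ => 1 - l, fun a b _ => Subsingleton.elim a b⟩
    have hk : Ideal.span {(X l : PS2 K)} = RingHom.ker (killCompl (R := K) e) := by
      ext f
      rw [Ideal.mem_span_singleton, MvPowerSeries.X_dvd_iff, RingHom.mem_ker]
      constructor
      · intro h
        refine MvPowerSeries.ext fun d => ?_
        obtain ⟨m, rfl⟩ : ∃ m, d = Finsupp.single 0 m :=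
          ⟨d 0, Finsupp.ext fun i => by rw [Fin.eq_zero i, Finsupp.single_eq_same]⟩
        rw [coeff_axis_killCompl, map_zero]
        refine h _ (Finsupp.single_eq_of_ne ?_)
        fin_cases l <;> decide
      · intro h d hd
        have hd' : d = Finsupp.single (1 - l) (d (1 - l)) := Finsupp.ext fun i => by
          by_cases hi : i = 1 - l
          · subst hi; rw [Finsupp.single_eq_same]
          · rw [Finsupp.single_eq_of_ne hi]
            obtain rfl : i = l := by revert hi; fin_cases l <;> fin_cases i <;> decide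
            exact hd
        rw [hd', ← coeff_axis_killCompl K f (1 - l), h, map_zero]
    rw [hk]
    haveI : IsDomain (MvPowerSeries (Fin 1) K) := NoZeroDivisors.to_isDomain _
    exact RingHom.ker_isPrime _
  rw [← Set.image_singleton, ← Ideal.map_span]
  refine Ideal.map_isPrime_of_surjective Ideal.Quotient.mk_surjective ?_
  rw [Ideal.mk_ker]
  refine (Ideal.span_singleton_le_iff_mem _).2 ?_
  fin_cases l
  · exact Ideal.mem_span_singleton.2 (dvd_mul_right _ _)
  · exact Ideal.mem_span_singleton.2 (dvd_mul_left _ _)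

theorem axis_inf :
    Ideal.span {Ideal.Quotient.mk (nodeIdeal K) (X 0)} ⊓ Ideal.span {Ideal.Quotient.mk (nodeIdeal K) (X 1)} = ⊥ := by
  haveI := isReduced_nodeQuot K
  refine le_bot_iff.1 fun a ha => ?_
  obtain ⟨u, rfl⟩ := Ideal.mem_span_singleton'.1 ha.1
  obtain ⟨v, hv⟩ := Ideal.mem_span_singleton'.1 ha.2
  refine Ideal.mem_bot.2 (IsReduced.eq_zero _ ⟨2, ?_⟩)
  rw [sq]
  nth_rw 2 [← hv]
  rw [mul_mul_mul_comm, ← map_mul, Ideal.Quotient.eq_zero_iff_mem.2 (Ideal.mem_span_singleton_self _), mul_zero]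

variable {A : Type u} [CommRing A] [IsLocalRing A] [IsNoetherianRing A] [Algebra K A]

/-- Two mutually annihilating ideals of an ordinary double point span the maximal ideal. -/
theorem sup_eq_maximalIdeal_of_odp (h : Curv2.IsOrdDoublePt K A) {I J : Ideal A}
    (hI : I ≤ maximalIdeal A) (hJ : J ≤ maximalIdeal A) (hIJ : Submodule.annihilator J = I)
    (hJI : Submodule.annihilator I = J) : I ⊔ J = maximalIdeal A := by
  obtain ⟨e, -⟩ := h
  let C := AdicCompletion (maximalIdeal A) A
  haveI := LC.Canon.faithfullyFlat_completion (R := A)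
  let φ : A →+* NodeQuot K := e.toRingHom.comp (algebraMap A C)
  letI : Algebra A (NodeQuot K) := φ.toAlgebra
  let el : C ≃ₐ[A] NodeQuot K := AlgEquiv.ofRingEquiv (f := e) fun _ => rfl
  haveI : Module.FaithfullyFlat A (NodeQuot K) := Module.FaithfullyFlat.of_linearEquiv _ _ el.symm.toLinearEquiv
  let f := algebraMap A (NodeQuot K)
  have e1 : Submodule.annihilator (J.map f) = I.map f := by
    rw [DiffLib.annihilator_map_of_flat J (IsNoetherian.noetherian J), hIJ]
  have e2 : Submodule.annihilator (I.map f) = J.map f := by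
    rw [DiffLib.annihilator_map_of_flat I (IsNoetherian.noetherian I), hJI]
  let P := Ideal.span {Ideal.Quotient.mk (nodeIdeal K) (X 0 : PS2 K)}
  let P' := Ideal.span {Ideal.Quotient.mk (nodeIdeal K) (X 1 : PS2 K)}
  have hm : maximalIdeal A ≠ ⊤ := (maximalIdeal.isMaximal A).ne_top
  have hne : ∀ T : Ideal A, T ≤ maximalIdeal A → T.map f ≠ ⊤ := fun T hT hTt => hm (top_le_iff.1 (le_trans
    (le_of_eq (by rw [← Ideal.comap_map_eq_self_of_faithfullyFlat (B := NodeQuot K) T]; exact (by rw [hTt, Ideal.comap_top]))) hT))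
  have hprod : I.map f * J.map f = ⊥ := by
    rw [← e1]
    exact Submodule.annihilator_mul (J.map f)
  have h0 := axis_inf (K := K)
  have hnot : ∀ T T' : Ideal A, T' ≤ maximalIdeal A → Submodule.annihilator (T.map f) = T'.map f →
      ¬ (T.map f ≤ P ∧ T.map f ≤ P') := fun T T' hT' he hh => by
    refine hne T' hT' ?_
    rw [← he, show T.map f = ⊥ from le_bot_iff.1 ((le_inf hh.1 hh.2).trans h0.le), Submodule.annihilator_bot]
  have split : ∀ T : Ideal (NodeQuot K), T.IsPrime → I.map f ≤ T ∨ J.map f ≤ T := fun T hT =>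
    hT.mul_le.1 (hprod ▸ bot_le)
  have hann : ∀ T Q Q' : Ideal (NodeQuot K), Q ⊓ Q' = ⊥ → T ≤ Q → Q' ≤ Submodule.annihilator T :=
    fun T Q Q' hQ hT a ha => Submodule.mem_annihilator.2 fun b hb => by
      rw [smul_eq_mul]
      exact Ideal.mem_bot.1 (hQ ▸ (⟨Ideal.mul_mem_left _ _ (hT hb), Ideal.mul_mem_right _ _ ha⟩ :
        a * b ∈ Q ∧ a * b ∈ Q'))
  have h1 : P ⊔ P' ≤ I.map f ⊔ J.map f := by
    rcases split P (isPrime_axis 0) with a | a <;> rcases split P' (isPrime_axis 1) with b | b
    · exact absurd ⟨a, b⟩ (hnot I J hJ e2)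
    · exact sup_le ((hann _ _ _ (by rwa [inf_comm]) b).trans (e1.le.trans le_sup_left))
        ((hann _ _ _ h0 a).trans (e2.le.trans le_sup_right))
    · exact sup_le ((hann _ _ _ (by rwa [inf_comm]) b).trans (e2.le.trans le_sup_right))
        ((hann _ _ _ h0 a).trans (e1.le.trans le_sup_left))
    · exact absurd ⟨a, b⟩ (hnot J I hI e1)
  have hmax : (maximalIdeal A).map f ≤ P ⊔ P' := by
    have ho : P ⊔ P' = nodeOrigin K := by
      rw [nodeOrigin, vars_eq, Ideal.map_span, Set.image_pair, ← Ideal.span_union]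
      rfl
    rw [ho]
    haveI := (nodeCrit_origin K).isMaximal
    rw [Ideal.map_le_iff_le_comap]
    refine (IsLocalRing.eq_maximalIdeal (R := A) ?_).ge
    have hc : ((nodeOrigin K).comap e.toRingHom).IsMaximal :=
      Ideal.comap_isMaximal_of_surjective _ e.surjective
    haveI : IsLocalHom (algebraMap A C) := AdicCompletion.algebraMap_isLocalHom_of_fg (IsNoetherian.noetherian _)
    show ((nodeOrigin K).comap (e.toRingHom.comp (algebraMap A C))).IsMaximal
    rw [← Ideal.comap_comap, IsLocalRing.eq_maximalIdeal hc,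
      ((IsLocalRing.local_hom_TFAE (algebraMap A C)).out 0 4 rfl rfl).1 ‹IsLocalHom (algebraMap A C)›]
    infer_instance
  refine le_antisymm (sup_le hI hJ) ?_
  rw [← Ideal.comap_map_eq_self_of_faithfullyFlat (B := NodeQuot K) (I ⊔ J), ← Ideal.map_le_iff_le_comap,
    Ideal.map_sup]
  exact hmax.trans h1

end Groth.Agent.CurveGor
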