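import Groth.Agent.CurveGor.Criterion
import Groth.Agent.TFOneX.Beta
import Groth.Agent.RedComap5.Basic
import Groth.Agent.S1536
import Groth.Agent.S2501
import Groth.Agent.S2535

/-!
# Connected subcurves as ideals; global invariants
-/

set_option autoImplicit false
set_option linter.style.haveILetI false
set_option linter.unusedSectionVars false
set_option backward.isDefEq.respectTransparency false
set_option backward.isDefEq.respectTransparency.types false
set_option maxHeartbeats 1000000
set_option synthInstance.maxHeartbeats 200000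

universe u

open CategoryTheory CategoryTheory.Limits AlgebraicGeometry TopologicalSpace Opposite

noncomputable section

namespace Groth.Agent.CurveGor

open Groth.Agent TFOneX

variable {X : Scheme.{u}}
variable {k : Type u} [Field k] [X.Over (Spec (CommRingCat.of k))] [IsProper (X ↘ Spec (CommRingCat.of k))]

include k in
/-- A connected one-dimensional reduced closed subscheme is a connected union of components. -/
theorem exists_of_subcurve (hdim : topologicalKrullDim X = 1) (J : X.IdealSheafData)
    [AlgebraicGeometry.IsReduced J.subscheme] [ConnectedSpace J.subscheme]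
    (hJ : topologicalKrullDim J.subscheme = 1) :
    ∃ (Y : Set X) (hY : IsClosed Y), J = vI Y hY ∧ IsCompUnion Y ∧ _root_.IsConnected Y := by
  haveI := CurveCohLib.isNoetherian_of_proper (k := k) (X := X)
  haveI : IsNoetherian J.subscheme :=
    { __ := LocallyOfFiniteType.isLocallyNoetherian J.subschemeι
      __ := QuasiCompact.compactSpace_of_compactSpace J.subschemeι }
  have hr : Set.range J.subschemeι = (J.support : Set X) := J.range_subschemeι
  refine ⟨J.support, J.support.isClosed, RedComap5.eq_vanishingIdeal J, fun x hx => ?_, ?_⟩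
  · obtain ⟨y, rfl⟩ : x ∈ Set.range J.subschemeι := hr.symm ▸ hx
    obtain ⟨y', hy', hsp⟩ := NormAmpleX.exists_generic_specializes y
    refine ⟨J.subschemeι y', ?_, hr ▸ Set.mem_range_self y', hsp.map J.subschemeι.continuous⟩
    by_contra hg
    refine CurveDual.notMem_gen hJ ?_ hy'
    have hcl := TFOneX.isClosed_singleton_of_notMem hdim.le hg
    have : ({y'} : Set J.subscheme) = J.subschemeι ⁻¹' {J.subschemeι y'} :=
      Set.ext fun z => ⟨fun h => congrArg _ h, fun h => J.subschemeι.isClosedEmbedding.injective h⟩
    rw [this]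
    exact hcl.preimage J.subschemeι.continuous
  · rw [← hr]
    exact isConnected_range J.subschemeι.continuous

theorem connectedSpace_subscheme {Y : Set X} (hY : IsClosed Y) (hc : _root_.IsConnected Y) :
    ConnectedSpace (vI Y hY).subscheme := by
  refine connectedSpace_iff_univ.2 ⟨?_, (vI Y hY).subschemeι.isClosedEmbedding.isInducing.isPreconnected_image.1 ?_⟩
  · obtain ⟨y, hy⟩ := hc.nonempty
    obtain ⟨z, -⟩ : y ∈ Set.range (vI Y hY).subschemeι :=
      (range_subschι Y hY).symm ▸ hy
    exact ⟨z, trivial⟩
  · rw [Set.image_univ]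
    exact (range_subschι Y hY).symm ▸ hc.isPreconnected

include k in
theorem dim_subscheme (hdim : topologicalKrullDim X ≤ 1)
    (hgen : ∀ x ∈ genericPoints (X : Type u), ¬ IsClosed ({x} : Set X))
    {Y : Set X} (hY : IsClosed Y) (hc : IsCompUnion Y) (hne : Y.Nonempty) :
    topologicalKrullDim (vI Y hY).subscheme = 1 := by
  haveI := CurveCohLib.isNoetherian_of_proper (k := k) (X := X)
  let Z := (vI Y hY).subscheme
  let ι := (vI Y hY).subschemeι
  haveI : IsNoetherian Z :=
    { __ := LocallyOfFiniteType.isLocallyNoetherian ι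
      __ := QuasiCompact.compactSpace_of_compactSpace ι }
  have hle : topologicalKrullDim Z ≤ 1 := ι.isClosedEmbedding.isInducing.topologicalKrullDim_le.trans hdim
  refine le_antisymm hle ?_
  by_contra hlt
  obtain ⟨x, hx⟩ := hne
  obtain ⟨η, hη, hηY, -⟩ := hc x hx
  obtain ⟨z, hz⟩ : η ∈ Set.range ι := (range_subschι Y hY).symm ▸ hηY
  refine hgen η hη ?_
  have h0 : topologicalKrullDim Z ≤ 0 := by
    rcases h : topologicalKrullDim Z with _ | n
    · exact bot_le
    · rw [h] at hlt hle
      rcases n with _ | n
      · exact absurd hle (by decide)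
      · have : n < 1 := by
          by_contra hn
          exact hlt (WithBot.coe_le_coe.2 (WithTop.coe_le_coe.2 (not_lt.1 hn)))
        obtain rfl : n = 0 := by omega
        exact le_rfl
  have h0' : topologicalKrullDim (Set.univ : Set Z) ≤ 0 :=
    (Topology.IsEmbedding.subtypeVal.isInducing.topologicalKrullDim_le).trans h0
  have hc' := Euler.closure_eq_self_of_dim_le_zero (X := Z) isClosed_univ h0' (Set.mem_univ z)
  rw [← hz, ← Set.image_singleton]
  refine ι.isClosedEmbedding.isClosedMap _ ?_
  rw [← hc']
  exact isClosed_closure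

/-- The Euler characteristic of the subscheme. -/
theorem euler_subscheme (J : X.IdealSheafData) :
    @Curv2.euler k _ J.subscheme ⟨J.subschemeι ≫ (X ↘ (Spec (CommRingCat.of k)))⟩
      (Coh.structureModule J.subscheme) = Curv2.euler k X (ClSub.quotMod J) := by
  haveI := CurveCohLib.isNoetherian_of_proper (k := k) (X := X)
  letI : J.subscheme.Over (Spec (CommRingCat.of k)) := ⟨J.subschemeι ≫ (X ↘ (Spec (CommRingCat.of k)))⟩
  refine finsum_congr fun n => ?_
  obtain ⟨l⟩ := PnCoh.exists_linearEquiv_push k J.subschemeι rfl
    (QCoh.isQCoh_structureModule (X := J.subscheme)) n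
  rw [l.finrank_eq]

/-- `k_Y` in the form of the statements. -/
theorem kY_eq (Y : Set X) (hY : IsClosed Y) :
    (Module.finrank k (Coh.HH X (ClSub.quotMod ((vI Y hY) ⊔ (Scheme.IdealSheafData.vanishingIdeal
      ⟨closure (((vI Y hY).support : Set X)ᶜ), isClosed_closure⟩))) 0) : ℤ) = kY k Y hY := by
  have h : (⟨closure (((vI Y hY).support : Set X)ᶜ), isClosed_closure⟩ : Closeds X) =
      ⟨closure Yᶜ, isClosed_closure⟩ := Closeds.ext (by
    show closure (((vI Y hY).support : Set X)ᶜ) = closure Yᶜ
    rw [Scheme.IdealSheafData.coe_support_vanishingIdeal]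
    rfl)
  rw [h]
  rfl

theorem kY_nonneg (Y : Set X) (hY : IsClosed Y) : 0 ≤ kY k Y hY := Int.natCast_nonneg _

section Global

variable [AlgebraicGeometry.IsReduced X]

include k in
theorem notClosed_of_generic [ConnectedSpace X] (hdim : topologicalKrullDim X = 1) :
    ∀ x ∈ genericPoints (X : Type u), ¬ IsClosed ({x} : Set X) := fun x hx hcl => by
  haveI := CurveCohLib.isNoetherian_of_proper (k := k) (X := X)
  exact CurveDual.notMem_gen hdim hcl hx

/-- `χ(O) = 1 - g` over an algebraically closed field. -/
theorem euler_structure_eq [IsAlgClosed k] [ConnectedSpace X] (hdim : topologicalKrullDim X ≤ 1) :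
    Curv2.euler k X (Coh.structureModule X) = 1 - (Curv2.genus k X : ℤ) := by
  haveI : AlgebraicGeometry.IsReduced (FBase.bc (X ↘ Spec (CommRingCat.of k)) k) := by
    haveI : IsIso (Spec.map (CommRingCat.ofHom (algebraMap k k))) :=
      inferInstanceAs (IsIso (Spec.map (𝟙 (CommRingCat.of k))))
    exact isReduced_of_isOpenImmersion (pullback.fst (X ↘ Spec (CommRingCat.of k))
      (Spec.map (CommRingCat.ofHom (algebraMap k k))))
  haveI := S2535.result (Ω := k) (X ↘ Spec (CommRingCat.of k))
  haveI := S2501.result (X ↘ Spec (CommRingCat.of k))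
  rw [NefH1.euler_eq k hdim QCoh.isQCoh_structureModule, S1536.result k X]
  rfl

/-- The whole curve as a subcurve. -/
theorem chiY_univ : chiY k (Set.univ : Set X) isClosed_univ = Curv2.euler k X (Coh.structureModule X) := by
  haveI := CurveCohLib.isNoetherian_of_proper (k := k) (X := X)
  obtain ⟨e⟩ := exists_iso_quot isRkOne_structure
    (isQuotOn_quot isClosed_univ fun (x : X) _ => let ⟨η, hη, hsp⟩ := NormAmpleX.exists_generic_specializes x; ⟨η, hη, trivial, hsp⟩)
    (isQuotOn_id QCoh.isCoh_structureModule' isTorsionFree_structure isRkOne_structure)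
  exact CurveCohLib.euler_congr (k := k) e

/-- The degree of `ω`. -/
theorem deg_dualizing (hdim : topologicalKrullDim X ≤ 1)
    (hgen : ∀ x ∈ genericPoints (X : Type u), ¬ IsClosed ({x} : Set X))
    {ω : X.Modules} {t : Coh.HH X ω 1 →ₗ[k] k} (hω : Canon.IsRDualOver k X 1 ω t) (hωi : PicF.IsInvertible ω) :
    Curv2.deg k X ω 1 = -2 * Curv2.euler k X (Coh.structureModule X) := by
  haveI := CurveCohLib.isNoetherian_of_proper (k := k) (X := X)
  have h := CurveDual.euler_structure hdim
    (fun x hx => one_le_depth_closed isTorsionFree_structure hgen x hx) hω (CurveDeg.isCoh_of_isInvertible hωi)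
  unfold Curv2.deg
  rw [Nat.cast_one, one_mul]
  omega

end Global

end Groth.Agent.CurveGor
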