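import Groth.Agent.CurveGor.Split

/-!
# Nonvanishing `H¹` gives a connected subcurve of small degree
-/

set_option autoImplicit false
set_option linter.style.haveILetI false
set_option linter.unusedSectionVars false
set_option backward.isDefEq.respectTransparency false
set_option backward.isDefEq.respectTransparency.types false
set_option maxHeartbeats 1000000
set_option synthInstance.maxHeartbeats 200000

universe u

open CategoryTheory CategoryTheory.Limits AlgebraicGeometry TopologicalSpace Opposite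

noncomputable section

namespace Groth.Agent.CurveGor

open Groth.Agent TFOneX

variable {X : Scheme.{u}} [IsNoetherian X] [AlgebraicGeometry.IsReduced X]

omit [AlgebraicGeometry.IsReduced X] in
theorem finite_genericPoints : (genericPoints (X : Type u)).Finite :=
  Set.Finite.of_finite_image
    ((TopologicalSpace.NoetherianSpace.finite_irreducibleComponents (α := X)).subset
      (by rintro _ ⟨η, hη, rfl⟩; exact hη))
    (f := fun η => closure ({η} : Set X)) (fun _ _ _ _ h => (inseparable_iff_closure_eq.2 h).eq)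

variable {k : Type u} [Field k] [X.Over (Spec (CommRingCat.of k))] [IsProper (X ↘ Spec (CommRingCat.of k))]

/-- The euler characteristic of a finite-support module is nonnegative. -/
theorem euler_nonneg_of_finite_support {T : X.Modules} (hT : Coh.IsCoh T)
    (hs : ∀ x ∈ CohB1.support T, IsClosed ({x} : Set X)) : 0 ≤ Curv2.euler k X T := by
  rw [CurveCohLib.euler_eq_finrank_zero (k := k) hT hs]
  exact Int.natCast_nonneg _

/-- An injection with finite cokernel raises the Euler characteristic. -/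
theorem euler_le_of_mono {A B : X.Modules} (hA : Coh.IsCoh A) (hB : Coh.IsCoh B) (f : A ⟶ B) [Mono f]
    (hs : ∀ x ∈ CohB1.support (cokernel f), IsClosed ({x} : Set X)) :
    Curv2.euler k X A ≤ Curv2.euler k X B := by
  have hS := CurveSlope.shortExact_cokernel_of_mono f
  have hQ : Coh.IsCoh (cokernel f) := QCoh.isCoh_cokernel hA.1 hB f
  have e := CurveCohLib.euler_additive (k := k) hS hA hB hQ
  dsimp only at e
  have := euler_nonneg_of_finite_support (k := k) hQ hs
  omega

omit [AlgebraicGeometry.IsReduced X] [AlgebraicGeometry.IsNoetherian X] in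
/-- At a point where the stalk map is onto the cokernel vanishes. -/
theorem notMem_support_cokernel {A B : X.Modules} (f : A ⟶ B) {x : X} (h : Function.Surjective (sm f x)) :
    x ∉ CohB1.support (cokernel f) := notMem_support_iff.2 <| subsingleton_of_forall_eq 0 fun b => by
  obtain ⟨c, rfl⟩ := surjective_sm (cokernel.π f) x b
  obtain ⟨a, rfl⟩ := h c
  show sm (cokernel.π f) x (sm f x a) = 0
  rw [← sm_comp, cokernel.condition, sm_zero]

variable (hdim : topologicalKrullDim X ≤ 1)
  (hgen : ∀ x ∈ genericPoints (X : Type u), ¬ IsClosed ({x} : Set X))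
  {ω : X.Modules} {t : Coh.HH X ω 1 →ₗ[k] k} (hω : Canon.IsRDualOver k X 1 ω t) (hωi : PicF.IsInvertible ω)

omit [AlgebraicGeometry.IsNoetherian X] in
/-- A nonzero map between one-dimensional stalks is injective. -/
theorem injective_sm_of_ne {A B : X.Modules} (hA : TFOne.IsRkOne X A) (φ : A ⟶ B) {η : X}
    (hη : η ∈ genericPoints (X : Type u)) (hne : ∃ a, sm φ η a ≠ 0) : Function.Injective (sm φ η) := by
  letI := (NormAmpleX.isField_stalk_of_generic hη).toField
  obtain ⟨e⟩ := hA η hη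
  obtain ⟨a, ha⟩ := hne
  refine (injective_iff_map_eq_zero _).2 fun b hb => by_contra fun hb0 => ha ?_
  have hb0' : e b ≠ 0 := fun h => hb0 (e.map_eq_zero_iff.1 h)
  have hc : a = (e a * (e b)⁻¹) • b := e.injective (by
    rw [LinearEquiv.map_smul, smul_eq_mul, mul_assoc, inv_mul_cancel₀ hb0', mul_one])
  rw [hc, LinearMap.map_smul, hb, smul_zero]

omit [AlgebraicGeometry.IsNoetherian X] in
/-- An injective map between one-dimensional stalks is surjective. -/
theorem surjective_of_injective {B : X.Modules} (hB : TFOne.IsRkOne X B) {A : X.Modules} (φ : A ⟶ B) {η : X}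
    (hη : η ∈ genericPoints (X : Type u)) (hne : ∃ a, sm φ η a ≠ 0) : Function.Surjective (sm φ η) := by
  letI := (NormAmpleX.isField_stalk_of_generic hη).toField
  obtain ⟨e⟩ := hB η hη
  obtain ⟨a, ha⟩ := hne
  intro b
  have ha' : e (sm φ η a) ≠ 0 := fun h => ha (e.map_eq_zero_iff.1 h)
  refine ⟨(e b * (e (sm φ η a))⁻¹) • a, e.injective ?_⟩
  rw [LinearMap.map_smul, LinearEquiv.map_smul, smul_eq_mul, mul_assoc, inv_mul_cancel₀ ha', mul_one]

/-- The ideal of the other half, twisted, inside `ω`: the generic behaviour of a map into it. -/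
theorem bijective_into_ideal_twist {M : X.Modules} (hM : PicF.IsInvertible M) {Y : Set X} (hY : IsClosed Y)
    {G H : X.Modules} (g : G ⟶ H) (ι' : H ⟶ M) [Mono ι'] {C : X.Modules} (π' : M ⟶ C) [Epi π']
    (hw : ι' ≫ π' = 0) (hsC : CohB1.support C = closure Yᶜ) {η : X} (hη : η ∈ genericPoints (X : Type u))
    (hne : η ∈ Y → ∃ a, sm (g ≫ ι') η a ≠ 0) : Function.Surjective (sm g η) := by
  intro v
  by_cases hηY : η ∈ Y
  · obtain ⟨a, ha⟩ := surjective_of_injective (isRkOne_of_isInvertible hM) (g ≫ ι') hη (hne hηY) (sm ι' η v)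
    exact ⟨a, injective_sm ι' η (by rw [← sm_comp]; exact ha)⟩
  · refine ⟨0, injective_sm ι' η ?_⟩
    rw [map_zero, map_zero, sm_eq_zero_of_comp ι' π' hw η
      (bijective_at (isRkOne_of_isInvertible hM) π' hη (hsC.symm ▸ (mem_compl_iff hY hη).2 hηY)).1 v]

include hdim hgen hω hωi in
/-- The twisted ideal of the other half, as a kernel. -/
theorem exists_twist_data {Y : Set X} (hY : IsClosed Y) (hc : IsCompUnion Y) :
    ∃ (H C : X.Modules) (ι' : H ⟶ ω) (π' : ω ⟶ C) (_ : Mono ι') (_ : Epi π') (hw : ι' ≫ π' = 0),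
      (ShortComplex.mk ι' π' hw).Exact ∧ Coh.IsCoh C ∧ TorSh.IsTorsionFree C ∧
        CohB1.support C = closure Yᶜ ∧ Coh.IsCoh H ∧ Curv2.euler k X H = -chiY k Y hY := by
  have hωc : Coh.IsCoh ω := CurveDeg.isCoh_of_isInvertible hωi
  haveI := H23.Chern.isEquivalence_ten hωi
  haveI : (SheafHomX.ten ω).IsEquivalence :=
    Functor.isEquivalence_of_iso ((KFlatLib.tensorBiFlipIso X).app ω).symm
  obtain ⟨hpC, hcC, htC, hsC⟩ := isQuotOn_quot isClosed_closure (isCompUnion_compl hY)
  haveI := hpC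
  let ι' : (SheafHomX.ten ω).obj (ClSub.idealMod (cI Y)) ⟶ ω :=
    (SheafHomX.ten ω).map (ClSub.idealModι (cI Y)) ≫ (SheafHomX.tenUnitIso ω).hom
  let π' : ω ⟶ (SheafHomX.ten ω).obj (ClSub.quotMod (cI Y)) :=
    (SheafHomX.tenUnitIso ω).inv ≫ (SheafHomX.ten ω).map (ClSub.toSubscheme (cI Y))
  haveI : Mono (ClSub.idealModι (cI Y)) := inferInstanceAs (Mono (kernel.ι _))
  have hw : ι' ≫ π' = 0 := by
    simp only [ι', π', Category.assoc, Iso.hom_inv_id_assoc]
    rw [← Functor.map_comp, ClSub.idealModι, kernel.condition, Functor.map_zero]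
  have hex : (ShortComplex.mk ι' π' hw).Exact := by
    refine ShortComplex.exact_of_iso ?_
      (((DivisorExt.ideal_shortExact (cI Y)).exact).map (SheafHomX.ten ω))
    exact ShortComplex.isoMk (Iso.refl _) (SheafHomX.tenUnitIso ω) (Iso.refl _)
      (Category.id_comp _)
      (by
        show (SheafHomX.tenUnitIso ω).hom ≫ π' = (SheafHomX.ten ω).map (ClSub.toSubscheme (cI Y)) ≫ 𝟙 _
        rw [Category.comp_id, Iso.hom_inv_id_assoc])
  exact ⟨_, _, ι', π', inferInstanceAs (Mono (_ ≫ _)), inferInstanceAs (Epi (_ ≫ _)), hw, hex,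
    ParShLib.isCoh_tensorMod hcC hωc, twist_torsionFree hωi htC, (twist_support hωi _).trans hsC,
    ParShLib.isCoh_tensorMod (NormalLib.isCoh_idealMod _) hωc, euler_ideal_twist hdim hgen hω hωi hY hc⟩

include hdim hgen hω hωi in
/-- The quotient of a module carrying a map into `ω` on its locus of nonvanishing. -/
theorem le_of_hom {L : X.Modules} (hLrk : TFOne.IsRkOne X L) (φ : L ⟶ ω) {Y : Set X} (hY : IsClosed Y)
    (hc : IsCompUnion Y) (hYφ : ∀ η ∈ genericPoints (X : Type u), η ∈ Y ↔ ∃ a, sm φ η a ≠ 0)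
    {G : X.Modules} {π : L ⟶ G} (hG : TFOne.IsQuotOn X L Y G π) :
    Curv2.euler k X G + chiY k Y hY ≤ 0 := by
  have hωc : Coh.IsCoh ω := CurveDeg.isCoh_of_isInvertible hωi
  have hωt := isTorsionFree_of_isInvertible hωi
  obtain ⟨hp, hGc, hGt, hGs⟩ := hG
  haveI := hp
  -- descend to the quotient
  have hk : kernel.ι π ≫ φ = 0 := hom_eq_zero hωc.1 hωt _ fun η hη _ a => by
    by_cases hηY : η ∈ Y
    · rw [sm_comp, sm_eq_zero_of_comp (kernel.ι π) π (kernel.condition _) η
        (bijective_at hLrk π hη (hGs.symm ▸ hηY)).1 a, map_zero]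
    · rw [sm_comp]
      exact by_contra fun h => hηY ((hYφ η hη).2 ⟨_, h⟩)
  let g₀ : G ⟶ ω := Abelian.epiDesc π φ hk
  have hg₀ : π ≫ g₀ = φ := Abelian.comp_epiDesc _ _ _
  -- into the twisted ideal of the other half
  obtain ⟨H, C, ι', π', hι, hπ, hw, hex, hCc, hCt, hTs, hHc, he⟩ :=
    exists_twist_data hdim hgen hω hωi hY hc
  haveI := hι; haveI := hπ
  have hz : g₀ ≫ π' = 0 := by
    rw [← cancel_epi π, comp_zero, reassoc_of% hg₀]
    refine hom_eq_zero hCc.1 hCt _
      fun η hη hηs a => ?_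
    rw [hTs, mem_compl_iff hY hη] at hηs
    rw [sm_comp, show sm φ η a = 0 from by_contra fun h => hηs ((hYφ η hη).2 ⟨_, h⟩), map_zero]
  let g : G ⟶ H := hex.lift g₀ hz
  have hg : g ≫ ι' = g₀ := hex.lift_f g₀ hz
  have hne : ∀ η ∈ genericPoints (X : Type u), η ∈ Y → ∃ a, sm (g ≫ ι') η a ≠ 0 := fun η hη hηY => by
    obtain ⟨a, ha⟩ := (hYφ η hη).1 hηY
    exact ⟨sm π η a, by rw [hg, ← sm_comp, hg₀]; exact ha⟩
  haveI : Mono g := Preadditive.mono_of_cancel_zero _ fun {T} z hzz =>
    hom_eq_zero hGc.1 hGt z fun η hη hs a => by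
      have hbi := bijective_at hLrk π hη hs
      obtain ⟨b, hb⟩ := hbi.2 (sm z η a)
      have hinj := injective_sm_of_ne hLrk φ hη ((hYφ η hη).1 (hGs ▸ hs))
      have h0 : sm φ η b = 0 := by
        rw [← hg₀, sm_comp, hb, ← sm_comp, ← hg, ← Category.assoc, hzz, zero_comp, sm_zero]
      rw [← hb, hinj (h0.trans (map_zero _).symm), map_zero]
  have hle := euler_le_of_mono (k := k) hGc hHc g fun x hx => isClosed_singleton_of_notMem hdim fun hη =>
    notMem_support_cokernel g (bijective_into_ideal_twist hωi hY g ι' π' hw hTs hη (hne x hη)) hx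
  omega

include hdim hgen hω hωi in
/-- Nonvanishing `H¹` is witnessed on a connected subcurve. -/
theorem exists_connected_of_H1 {L : X.Modules} (hLc : Coh.IsCoh L) (hLt : TorSh.IsTorsionFree L)
    (hLrk : TFOne.IsRkOne X L) (h1 : ¬ Subsingleton (Coh.HH X L 1)) :
    ∃ (Y : Set X) (hY : IsClosed Y), IsCompUnion Y ∧ _root_.IsConnected Y ∧
      ∀ (G : X.Modules) (π : L ⟶ G), TFOne.IsQuotOn X L Y G π → Curv2.euler k X G + chiY k Y hY ≤ 0 := by
  classical
  obtain ⟨φ, hφ⟩ : ∃ φ : L ⟶ ω, φ ≠ 0 := by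
    by_contra hcon
    exact h1 (CurveDual.subsingleton_H1_of_hom hω hLc.1 fun φ => by_contra fun h => hcon ⟨φ, h⟩)
  let S : Set X := {η | η ∈ genericPoints (X : Type u) ∧ ∃ a, sm φ η a ≠ 0}
  let Y₀ : Set X := ⋃ η ∈ S, closure ({η} : Set X)
  have hY₀ : IsClosed Y₀ :=
    (finite_genericPoints.subset fun η hη => hη.1).isClosed_biUnion fun _ _ => isClosed_closure
  have hc₀ : IsCompUnion Y₀ := fun x hx => by
    obtain ⟨η, hη, hxη⟩ := Set.mem_iUnion₂.1 hx
    exact ⟨η, hη.1, Set.mem_iUnion₂.2 ⟨η, hη, subset_closure rfl⟩, specializes_iff_mem_closure.2 hxη⟩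
  have hmem : ∀ η ∈ genericPoints (X : Type u), η ∈ Y₀ ↔ ∃ a, sm φ η a ≠ 0 := fun η hη => by
    constructor
    · intro h
      obtain ⟨η', hη', hηη⟩ := Set.mem_iUnion₂.1 h
      rw [← NormAmpleX.eq_of_specializes_generic hη (specializes_iff_mem_closure.2 hηη)]
      exact hη'.2
    · exact fun h => Set.mem_iUnion₂.2 ⟨η, ⟨hη, h⟩, subset_closure rfl⟩
  have hne : Y₀.Nonempty := by
    by_contra hcon
    refine hφ (hom_eq_zero (CurveDeg.isCoh_of_isInvertible hωi).1 (isTorsionFree_of_isInvertible hωi) φ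
      fun η hη _ a => by_contra fun h => hcon ⟨η, (hmem η hη).2 ⟨a, h⟩⟩)
  have key : ∀ (n : ℕ) (Y : Set X) (hY : IsClosed Y), (genericPoints (X : Type u) ∩ Y).ncard ≤ n →
      IsCompUnion Y → Y.Nonempty →
      (∀ (G : X.Modules) (π : L ⟶ G), TFOne.IsQuotOn X L Y G π → Curv2.euler k X G + chiY k Y hY ≤ 0) →
      ∃ (Y : Set X) (hY : IsClosed Y), IsCompUnion Y ∧ _root_.IsConnected Y ∧
        ∀ (G : X.Modules) (π : L ⟶ G), TFOne.IsQuotOn X L Y G π → Curv2.euler k X G + chiY k Y hY ≤ 0 := by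
    intro n
    induction n with
    | zero =>
      intro Y hY hn hc hne _
      obtain ⟨x, hx⟩ := hne
      obtain ⟨η, hη, hηY, -⟩ := hc x hx
      have := (Set.ncard_pos (finite_genericPoints.inter_of_left Y)).2 ⟨η, hη, hηY⟩
      omega
    | succ n ih =>
      intro Y hY hn hc hne hle
      by_cases hconn : _root_.IsPreconnected Y
      · exact ⟨Y, hY, hc, ⟨hne, hconn⟩, hle⟩
      rw [isPreconnected_iff_subset_of_fully_disjoint_closed hY] at hconn
      simp only [not_forall, not_or] at hconn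
      obtain ⟨u, v, hu, hv, hsub, hd, hnu, hnv⟩ := hconn
      have hA : IsClosed (Y ∩ u) := hY.inter hu
      have hB : IsClosed (Y ∩ v) := hY.inter hv
      have hAB : Disjoint (Y ∩ u) (Y ∩ v) := hd.mono Set.inter_subset_right Set.inter_subset_right
      have hU : Y = Y ∩ u ∪ Y ∩ v := by rw [← Set.inter_union_distrib_left, Set.inter_eq_left.2 hsub]
      have hcA : IsCompUnion (Y ∩ u) := isCompUnion_left hA hB hAB (hU ▸ hc)
      have hcB : IsCompUnion (Y ∩ v) := isCompUnion_left hB hA hAB.symm (by rwa [Set.union_comm, ← hU])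
      have hnA : (Y ∩ u).Nonempty := by
        obtain ⟨y, hy, hyv⟩ := Set.not_subset.1 hnv
        exact ⟨y, hy, (hsub hy).resolve_right hyv⟩
      have hnB : (Y ∩ v).Nonempty := by
        obtain ⟨y, hy, hyu⟩ := Set.not_subset.1 hnu
        exact ⟨y, hy, (hsub hy).resolve_left hyu⟩
      have hlt : ∀ {P Q : Set X}, IsCompUnion Q → Q.Nonempty → Disjoint P Q → P ⊆ Y → Q ⊆ Y →
          (genericPoints (X : Type u) ∩ P).ncard ≤ n := fun {P Q} hQ hQn hPQ hPY hQY => by
        obtain ⟨x, hx⟩ := hQn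
        obtain ⟨η, hη, hηQ, -⟩ := hQ x hx
        have hss : genericPoints (X : Type u) ∩ P ⊂ genericPoints (X : Type u) ∩ Y :=
          ⟨Set.inter_subset_inter_right _ hPY, fun h => hPQ.ne_of_mem (h ⟨hη, hQY hηQ⟩).2 hηQ rfl⟩
        have := Set.ncard_lt_ncard hss (finite_genericPoints.inter_of_left Y)
        omega
      obtain ⟨GA, πA, hGA⟩ := exists_quotOn hLc hLt hLrk hA hcA
      obtain ⟨GB, πB, hGB⟩ := exists_quotOn hLc hLt hLrk hB hcB
      obtain ⟨GU, πU, hGU⟩ := exists_quotOn hLc hLt hLrk hY hc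
      have e1 := euler_quot_union (k := k) hLrk hA hB hAB (πU := πU) (hU ▸ hGU) hGA hGB
      have e2 : chiY k Y hY = chiY k (Y ∩ u) hA + chiY k (Y ∩ v) hB :=
        euler_quot_union (k := k) isRkOne_structure hA hB hAB (GU := ClSub.quotMod (vI Y hY)) (πU := ClSub.toSubscheme (vI Y hY)) (by rw [← hU]; exact isQuotOn_quot hY hc)
          (isQuotOn_quot hA hcA) (isQuotOn_quot hB hcB)
      have h := hle GU πU hGU
      rcases le_or_gt (Curv2.euler k X GA + chiY k (Y ∩ u) hA) 0 with hle' | hgt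
      · refine ih (Y ∩ u) hA (hlt hcB hnB hAB Set.inter_subset_left Set.inter_subset_left) hcA hnA
          fun G π hG => ?_
        obtain ⟨e⟩ := exists_iso_quot hLrk hG hGA
        rw [CurveCohLib.euler_congr (k := k) e]
        exact hle'
      · refine ih (Y ∩ v) hB (hlt hcA hnA hAB.symm Set.inter_subset_left Set.inter_subset_left) hcB hnB
          fun G π hG => ?_
        obtain ⟨e⟩ := exists_iso_quot hLrk hG hGB
        rw [CurveCohLib.euler_congr (k := k) e]
        omega
  exact key _ Y₀ hY₀ le_rfl hc₀ hne fun G π hG => le_of_hom hdim hgen hω hωi hLrk φ hY₀ hc₀ hmem hG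

include hdim hgen hω hωi in
/-- For invertible modules: `deg_Y L ≤ deg_Y ω - k_Y`. -/
theorem exists_connected_deg {L : X.Modules} (hL : PicF.IsInvertible L) (h1 : ¬ Subsingleton (Coh.HH X L 1)) :
    ∃ (Y : Set X) (hY : IsClosed Y), IsCompUnion Y ∧ _root_.IsConnected Y ∧
      degOn k L 1 Y hY + 2 * chiY k Y hY ≤ 0 := by
  obtain ⟨Y, hY, hc, hcon, h⟩ := exists_connected_of_H1 hdim hgen hω hωi (CurveDeg.isCoh_of_isInvertible hL)
    (isTorsionFree_of_isInvertible hL) (isRkOne_of_isInvertible hL) h1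
  refine ⟨Y, hY, hc, hcon, ?_⟩
  have := h _ _ (isQuotOn_twist hL hY hc)
  rw [euler_quot_invertible hL hY hc (isQuotOn_twist hL hY hc)] at this
  omega

include hdim hgen hω hωi in
/-- For submodules of colength `c` of invertible modules. -/
theorem exists_connected_deg_sub {L N : X.Modules} (hN : PicF.IsInvertible N) (hLc : Coh.IsCoh L) (j : L ⟶ N)
    [Mono j] (hs : ∀ x ∈ CohB1.support (cokernel j), IsClosed ({x} : Set X))
    (h1 : ¬ Subsingleton (Coh.HH X L 1)) :
    ∃ (Y : Set X) (hY : IsClosed Y), IsCompUnion Y ∧ _root_.IsConnected Y ∧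
      degOn k N 1 Y hY + 2 * chiY k Y hY ≤ (Module.finrank k (Coh.HH X (cokernel j) 0) : ℤ) := by
  have hNc : Coh.IsCoh N := CurveDeg.isCoh_of_isInvertible hN
  have hbij : ∀ η ∈ genericPoints (X : Type u), Function.Bijective (sm j η) := fun η hη =>
    ⟨injective_sm j η, fun b => by
      have h0 : η ∉ CohB1.support (cokernel j) := fun h => hgen η hη (hs η h)
      exact ((ShortComplex.moduleCat_exact_iff _).1
        ((ShortComplex.exact_of_g_is_cokernel (ShortComplex.mk j (cokernel.π j) (cokernel.condition j))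
          (cokernelIsCokernel j)).map (DerSch.stalkFunctor X η))) b (eq_zero_of_notMem h0 _)⟩
  have hLt : TorSh.IsTorsionFree L := fun x => by
    haveI : Module.IsTorsionFree (X.presheaf.stalk x) ((DerSch.stalkFunctor X x).obj N : Type u) :=
      isTorsionFree_of_isInvertible hN x
    exact Function.Injective.moduleIsTorsionFree (sm j x) (injective_sm j x) (fun r m => (sm j x).map_smul r m)
  have hLrk : TFOne.IsRkOne X L := fun η hη => by
    obtain ⟨e⟩ := isRkOne_of_isInvertible hN η hη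
    exact ⟨(LinearEquiv.ofBijective (sm j η) (hbij η hη)).trans e⟩
  obtain ⟨Y, hY, hc, hcon, h⟩ := exists_connected_of_H1 hdim hgen hω hωi hLc hLt hLrk h1
  refine ⟨Y, hY, hc, hcon, ?_⟩
  obtain ⟨G, π, hG⟩ := exists_quotOn hLc hLt hLrk hY hc
  have hle := h G π hG
  have hQ := isQuotOn_twist hN hY hc
  obtain ⟨hp, hGc, hGt, hGs⟩ := hG
  obtain ⟨hpN, hNYc, hNYt, hNYs⟩ := hQ
  haveI := hp; haveI := hpN
  let πN := (SheafHomX.tenUnitIso N).inv ≫ (SheafHomX.ten N).map (ClSub.toSubscheme (vI Y hY))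
  have hk : kernel.ι π ≫ (j ≫ πN) = 0 := hom_eq_zero hNYc.1 hNYt _ fun η hη hηs a => by
    rw [sm_comp, sm_eq_zero_of_comp (kernel.ι π) π (kernel.condition _) η
      (bijective_at hLrk π hη (hGs.symm ▸ hNYs ▸ hηs)).1 a, map_zero]
  let g := Abelian.epiDesc π (j ≫ πN) hk
  have hg : π ≫ g = j ≫ πN := Abelian.comp_epiDesc _ _ _
  haveI : Mono g := Preadditive.mono_of_cancel_zero _ fun {T} z hzz =>
    hom_eq_zero hGc.1 hGt z fun η hη hs' a => by
      obtain ⟨b, hb⟩ := surjective_sm π η (sm z η a)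
      have h0 : sm πN η (sm j η b) = 0 := by
        rw [← sm_comp, ← hg, sm_comp, hb, ← sm_comp, hzz, sm_zero]
      have hinjN := (bijective_at (isRkOne_of_isInvertible hN) πN hη (hNYs.symm ▸ hGs ▸ hs')).1
      rw [← hb, (hbij η hη).1 ((hinjN (h0.trans (map_zero _).symm)).trans (map_zero _).symm), map_zero]
  let T := cokernel j
  let ψ : T ⟶ cokernel g := cokernel.desc j (πN ≫ cokernel.π g)
    (by rw [← Category.assoc, ← hg, Category.assoc, cokernel.condition, comp_zero])
  haveI : Epi ψ := by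
    haveI : Epi (cokernel.π j ≫ ψ) := by rw [cokernel.π_desc]; infer_instance
    exact epi_of_epi (cokernel.π j) ψ
  have hTc : Coh.IsCoh T := QCoh.isCoh_cokernel hLc.1 hNc j
  have hcg : Coh.IsCoh (cokernel g) := QCoh.isCoh_cokernel hGc.1 hNYc g
  have e1 := CurveCohLib.euler_additive (k := k) (CurveSlope.shortExact_cokernel_of_mono g) hGc hNYc hcg
  have e2 := CurveCohLib.euler_additive (k := k) (CurveSlope.shortExact_kernel_of_epi ψ)
    (QCoh.isCoh_kernel hTc hcg ψ) hTc hcg
  have e3 := euler_nonneg_of_finite_support (k := k) (QCoh.isCoh_kernel hTc hcg ψ)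
    fun x hx => hs x (support_subset_of_mono (kernel.ι ψ) hx)
  have e4 := CurveCohLib.euler_eq_finrank_zero (k := k) hTc hs
  have e5 := euler_quot_invertible (k := k) hN hY hc ⟨hpN, hNYc, hNYt, hNYs⟩
  dsimp only at e1 e2
  dsimp only [T] at *
  linarith

end Groth.Agent.CurveGor
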