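import Groth.Agent.CurveGor.Gor
import Groth.Agent.CurveGor.Bridge
import Groth.Agent.S1589

/-!
# Connected nodal curves: reduced, Gorenstein, invertible dualizing module
-/

set_option autoImplicit false
set_option linter.style.haveILetI false
set_option linter.unusedSectionVars false
set_option backward.isDefEq.respectTransparency false
set_option backward.isDefEq.respectTransparency.types false
set_option maxHeartbeats 1000000
set_option synthInstance.maxHeartbeats 200000

universe u

open CategoryTheory CategoryTheory.Limits AlgebraicGeometry TopologicalSpace Opposite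

attribute [local instance] HasDerivedCategory.standard

noncomputable section

namespace Groth.Agent.CurveGor

open Groth.Agent TFOneX

variable {k : Type u} [Field k] {X : Scheme.{u}} [X.Over (Spec (CommRingCat.of k))]
  [IsProper (X ↘ Spec (CommRingCat.of k))]

include k in
theorem equidim [ConnectedSpace X] (hdim : topologicalKrullDim X = 1) :
    ∀ Z ∈ irreducibleComponents (X : Type u), topologicalKrullDim Z = 1 := fun Z hZ => by
  haveI := CurveCohLib.isNoetherian_of_proper (k := k) (X := X)
  have hZc := isClosed_of_mem_irreducibleComponents _ hZ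
  have e := hZ.1.closure_genericPoint hZc
  let η := hZ.1.genericPoint
  have hη : η ∈ genericPoints (X : Type u) := by
    show closure _ ∈ irreducibleComponents (X : Type u)
    rw [e]
    exact hZ
  have hgen : ∀ x ∈ genericPoints (X : Type u), ¬ IsClosed ({x} : Set X) := fun x hx hcl =>
    CurveDual.notMem_gen hdim hcl hx
  have h1 := dim_subscheme (k := k) hdim.le hgen hZc
    (fun x hx => ⟨η, hη, e ▸ subset_closure rfl, specializes_iff_mem_closure.2 (e ▸ hx)⟩) hZ.1.nonempty
  rw [← h1]
  conv_lhs => rw [← range_subschι Z hZc]
  exact ((vI Z hZc).subschemeι.isEmbedding.toHomeomorph).isHomeomorph.topologicalKrullDim_eq.symm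

/-- Connected nodal curves are reduced. -/
theorem isReduced_of_nodal [ConnectedSpace X] (hdim : topologicalKrullDim X = 1) (hX : Curv2.AtWorstNodal k X) :
    AlgebraicGeometry.IsReduced X := by
  have hN : NodeFam.NodalCurve (X ↘ Spec (CommRingCat.of k)) := ⟨equidim (k := k) hdim, hX⟩
  haveI : ∀ x : X, _root_.IsReduced (X.presheaf.stalk x) := fun x => (hN.reduced_gorenstein x).1
  exact isReduced_of_isReduced_stalk X

theorem gorenstein_of_nodal [ConnectedSpace X] (hdim : topologicalKrullDim X = 1) (hX : Curv2.AtWorstNodal k X)
    (x : X) : LocCoh.IsGorensteinLocalRing (X.presheaf.stalk x) :=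
  (S1589.result k X (equidim (k := k) hdim) hX).1 x

omit [IsProper (X ↘ Spec (CommRingCat.of k))] in
/-- `h^0(O) = 1` for a connected reduced proper scheme over an algebraically closed field. -/
theorem finrank_h0_structure [IsAlgClosed k] [IsProper (X ↘ Spec (CommRingCat.of k))] [ConnectedSpace X]
    [AlgebraicGeometry.IsReduced X] :
    Module.finrank k (Coh.HH X (Coh.structureModule X) 0) = 1 := by
  haveI : AlgebraicGeometry.IsReduced (FBase.bc (X ↘ Spec (CommRingCat.of k)) k) := by
    haveI : IsIso (Spec.map (CommRingCat.ofHom (algebraMap k k))) :=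
      inferInstanceAs (IsIso (Spec.map (𝟙 (CommRingCat.of k))))
    exact isReduced_of_isOpenImmersion (pullback.fst (X ↘ Spec (CommRingCat.of k))
      (Spec.map (CommRingCat.ofHom (algebraMap k k))))
  haveI := S2535.result (Ω := k) (X ↘ Spec (CommRingCat.of k))
  haveI := S2501.result (X ↘ Spec (CommRingCat.of k))
  exact S1536.result k X

theorem isInvertible_dualizing_of_nodal [IsAlgClosed k] [ConnectedSpace X] (hdim : topologicalKrullDim X = 1)
    (hX : Curv2.AtWorstNodal k X) [DCoh.HasRpush (X ↘ Spec (CommRingCat.of k))]
    (h : DCoh.RpushPreservesQCoh (X ↘ Spec (CommRingCat.of k))) [DCoh.HasShriek (X ↘ Spec (CommRingCat.of k)) h]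
    (OY : DCoh.DQCoh (Spec (CommRingCat.of k)))
    (hOY : Nonempty (OY.obj ≅ DCoh.inD (Spec (CommRingCat.of k)) (Coh.structureModule (Spec (CommRingCat.of k))))) :
    PicF.IsInvertible (DCoh.dualizingMod (X ↘ Spec (CommRingCat.of k)) h OY 1) := by
  haveI := CurveCohLib.isNoetherian_of_proper (k := k) (X := X)
  haveI := isReduced_of_nodal hdim hX
  obtain ⟨t, ht, -⟩ := CurveDual.exists_dual hdim.le h OY hOY
  exact isInvertible_dualizing _ h OY hOY (gorenstein_of_nodal hdim hX)
    (CurveDual.support_eq_univ ht (CurveDual.isCoh_dualizingMod _ h OY hOY 1) hdim finrank_h0_structure)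

end Groth.Agent.CurveGor
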