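import Groth.Agent.Lib.CurvePsi
import Groth.Agent.TFOneX.Deg
import Groth.Agent.BlowPointH1.Sections
import Groth.Agent.AmpleX.Generated
import Groth.Agent.DimOneAmple.Exists
import Groth.Agent.InvX.GenEpi
import Groth.Agent.GenusLe.Birat
import Groth.Agent.CurveGor.Nodal

/-!
# Degrees of tensor products of rank-one torsion-free sheaves on curves
-/

set_option autoImplicit false
set_option linter.style.haveILetI false
set_option linter.unusedSectionVars false
set_option backward.isDefEq.respectTransparency false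
set_option backward.isDefEq.respectTransparency.types false
set_option maxHeartbeats 1000000
set_option synthInstance.maxHeartbeats 200000

universe u

open CategoryTheory CategoryTheory.Limits AlgebraicGeometry TopologicalSpace Opposite MonoidalCategory

noncomputable section

namespace Groth.Agent.CurveGor.DegTensor

open Groth.Agent

variable {X : Scheme.{u}}

/-- Stalks of a tensored map. -/
theorem sm_tensor_injective {M A B : X.Modules} (f : A ⟶ B) (x : X)
    (hf : Function.Injective (TFOneX.sm f x))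
    (h : Module.Flat (X.presheaf.stalk x) (M.presheaf.stalk x) ∨ Function.Surjective (TFOneX.sm f x)) :
    Function.Injective (TFOneX.sm ((DCoh.tensorBi.obj M).map f) x) ∧
      (Function.Surjective (TFOneX.sm f x) →
        Function.Surjective (TFOneX.sm ((DCoh.tensorBi.obj M).map f) x)) := by
  let e := ((Functor.mapArrowFunctor _ _).mapIso (KFlatLib.stalkTensorLeftIso M x)).app (Arrow.mk f)
  have hsurj : Function.Surjective (TFOneX.sm f x) →
      IsIso ((DerSch.stalkFunctor X x).map ((DCoh.tensorBi.obj M).map f)) := fun hs => by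
    haveI : IsIso ((DerSch.stalkFunctor X x).map f) := (ConcreteCategory.isIso_iff_bijective _).2 ⟨hf, hs⟩
    have h1 : IsIso ((tensorLeft ((DerSch.stalkFunctor X x).obj M)).map ((DerSch.stalkFunctor X x).map f)) :=
      inferInstance
    exact ((MorphismProperty.isomorphisms (ModuleCat.{u} (X.presheaf.stalk x))).arrow_mk_iso_iff e).2 h1
  refine ⟨?_, fun hs => ((ConcreteCategory.isIso_iff_bijective _).1 (hsurj hs)).2⟩
  rcases h with hflat | hs
  · haveI : Module.Flat (X.presheaf.stalk x) ((DerSch.stalkFunctor X x).obj M) := hflat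
    have hm : Mono ((tensorLeft ((DerSch.stalkFunctor X x).obj M)).map ((DerSch.stalkFunctor X x).map f)) :=
      (ModuleCat.mono_iff_injective _).2 (Module.Flat.lTensor_preserves_injective_linearMap _ hf)
    exact (ModuleCat.mono_iff_injective _).1
      (((MorphismProperty.monomorphisms (ModuleCat.{u} (X.presheaf.stalk x))).arrow_mk_iso_iff e).2 hm)
  · exact ((ConcreteCategory.isIso_iff_bijective _).1 (hsurj hs)).1

/-- The finite set of generic points and points where a rank-one module is not free. -/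
def badSet (M : X.Modules) : Set X :=
  genericPoints (X : Type u) ∪ {y | ¬ Nonempty (M.presheaf.stalk y ≃ₗ[X.presheaf.stalk y] X.presheaf.stalk y)}

theorem equiv_of_chart {M : X.Modules} {V : X.Opens} (hV : IsAffineOpen V) (hM : Coh.IsQCoh M)
    (l : Γ(M, V) ≃ₗ[Γ(X, V)] (ULift.{u} (Fin 1) →₀ Γ(X, V))) {y : X} (hy : y ∈ V) :
    Nonempty (M.presheaf.stalk y ≃ₗ[X.presheaf.stalk y] X.presheaf.stalk y) := by
  have h1 := QCoh.finrank_stalk_of_freeChart hV hM l hy
  letI := QCoh.stalkAlg (X := X) hy
  letI := QCoh.stalkModule M hy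
  haveI := QCoh.isScalarTower_stalk M hy
  haveI := QCoh.isLocalization_stalk' hV hy
  haveI := QCoh.isLocalizedModule_germLin hM hV hy
  haveI : Module.Free Γ(X, V) Γ(M, V) := Module.Free.of_equiv l.symm
  haveI : Module.Free (X.presheaf.stalk y) (M.presheaf.stalk y) :=
    Module.free_of_isLocalizedModule (Rₛ := X.presheaf.stalk y)
      (hV.primeIdealOf ⟨y, hy⟩).asIdeal.primeCompl (QCoh.germLin M hy)
  haveI : Module.Finite (X.presheaf.stalk y) (M.presheaf.stalk y) := Module.finite_of_finrank_eq_succ h1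
  exact ⟨LinearEquiv.ofFinrankEq _ _ (by rw [h1, Module.finrank_self])⟩

/-- Trivial stalk near a trivialized point. -/
theorem stalk_equiv_of_restrict {M : X.Modules} {U : X.Opens}
    (e : M.restrict U.ι ≅ Coh.structureModule (U : Scheme.{u})) (hM : Coh.IsQCoh M) {y : X} (hy : y ∈ U) :
    Nonempty (M.presheaf.stalk y ≃ₗ[X.presheaf.stalk y] X.presheaf.stalk y) := by
  obtain ⟨_, ⟨V, hV, rfl⟩, hyV, hle⟩ := X.isBasis_affineOpens.exists_subset_of_mem_open hy U.2
  let d : FlatMod.freeMod (U : Scheme.{u}) 1 ≅ Coh.structureModule (U : Scheme.{u}) :=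
    coproductUniqueIso (fun _ : Fin 1 => Coh.structureModule (U : Scheme.{u}))
  obtain ⟨l⟩ := QCoh.free_sections hV hle (e ≪≫ d.symm)
  exact equiv_of_chart hV hM l hyV

variable [AlgebraicGeometry.IsReduced X] [IsNoetherian X]

/-- Rank one at a generic point gives a trivialisation of the stalk. -/
theorem equiv_generic {M : X.Modules} {η : X} (hη : η ∈ genericPoints (X : Type u))
    (h1 : Module.finrank (X.presheaf.stalk η) (M.presheaf.stalk η) = 1) :
    Nonempty (M.presheaf.stalk η ≃ₗ[X.presheaf.stalk η] X.presheaf.stalk η) := by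
  letI := (NormAmpleX.isField_stalk_of_generic hη).toField
  haveI : Module.Finite (X.presheaf.stalk η) (M.presheaf.stalk η) := Module.finite_of_finrank_eq_succ h1
  exact ⟨LinearEquiv.ofFinrankEq _ _ (by rw [h1, Module.finrank_self])⟩

theorem finite_badSet (hdim : topologicalKrullDim X ≤ 1) {M : X.Modules} (hM : Coh.IsCoh M)
    (hr : ∀ η ∈ genericPoints (X : Type u), Module.finrank (X.presheaf.stalk η) (M.presheaf.stalk η) = 1) :
    (badSet M).Finite := by
  have hnb : ∀ η ∈ genericPoints (X : Type u), ∃ U : X.Opens, η ∈ U ∧ ∀ y ∈ U,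
      Nonempty (M.presheaf.stalk y ≃ₗ[X.presheaf.stalk y] X.presheaf.stalk y) := fun η hη => by
    obtain ⟨e⟩ := equiv_generic hη (hr η hη)
    haveI : Module.Free (X.presheaf.stalk η) (M.presheaf.stalk η) := Module.Free.of_equiv e.symm
    obtain ⟨U, n, hηU, ⟨φ⟩⟩ := QCoh.exists_free_nhd_of_free_stalk (QCoh.isCoh_iff_isFP.1 hM) η
    obtain ⟨_, ⟨V, hV, rfl⟩, hηV, hle⟩ := X.isBasis_affineOpens.exists_subset_of_mem_open hηU U.2
    obtain ⟨l⟩ := QCoh.free_sections hV hle φ
    have hn : n = 1 := (QCoh.finrank_stalk_of_freeChart hV hM.1 l hηV).symm.trans (hr η hη)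
    subst hn
    exact ⟨V, hηV, fun y hy => equiv_of_chart hV hM.1 l hy⟩
  choose U hU hUy using hnb
  let W : X.Opens := ⨆ η : genericPoints (X : Type u), U η.1 η.2
  have hW : ∀ η ∈ genericPoints (X : Type u), η ∈ W := fun η hη => Opens.mem_iSup.2 ⟨⟨η, hη⟩, hU η hη⟩
  have hcl : ∀ z ∈ (W : Set X)ᶜ, IsClosed ({z} : Set X) := fun z hz => by
    obtain ⟨η, hη, hs⟩ := NormAmpleX.exists_generic_specializes z
    exact CurvePsi.isClosed_of_dim_le_one hdim hs fun h => hz (h ▸ hW η hη)
  have hfin : (genericPoints (X : Type u)).Finite := by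
    refine Set.Finite.of_finite_image (f := fun x : X => closure ({x} : Set X))
      (NoetherianSpace.finite_irreducibleComponents.subset ?_) fun a _ b _ h => (inseparable_iff_closure_eq.2 h).eq
    rintro _ ⟨a, ha, rfl⟩
    exact ha
  refine (hfin.union (GenusLe.finite_of_isClosed_points W.isOpen.isClosed_compl hcl)).subset ?_
  · rintro y (hy | hy)
    · exact Or.inl hy
    · refine Or.inr fun hyW => hy ?_
      obtain ⟨η, hyU⟩ := Opens.mem_iSup.1 hyW
      exact hUy η.1 η.2 y hyU

/-- A section generating at finitely many points where the module is free of rank one. -/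
theorem exists_section_bijective (k : Type u) [Field k] [Infinite k] [X.Over (Spec (CommRingCat.of k))] {F : X.Modules} (hg : Curv2.IsGloballyGenerated F) (T : Set X) (hT : T.Finite)
    (hF : ∀ y ∈ T, Nonempty (F.presheaf.stalk y ≃ₗ[X.presheaf.stalk y] X.presheaf.stalk y)) :
    ∃ s : Coh.structureModule X ⟶ F, ∀ y ∈ T, Function.Bijective (TFOneX.sm s y) := by
  obtain ⟨ι, σ, hσ⟩ := BlowPointH1.exists_generatedBy hg
  let φ : k →+* Γ(X, ⊤) := ProjUP.toGlobal (X ↘ Spec (CommRingCat.of k))
  letI : Module k Γ(F, ⊤) := Module.compHom _ φ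
  haveI := hT.to_subtype
  let g₀ : (y : T) → Γ(F, ⊤) → F.presheaf.stalk y.1 := fun y s => F.presheaf.germ ⊤ y.1 trivial s
  let N : (y : T) → Submodule (X.presheaf.stalk y.1) (F.presheaf.stalk y.1) := fun y =>
    (IsLocalRing.maximalIdeal (X.presheaf.stalk y.1)) • ⊤
  let P : T → Subspace k Γ(F, ⊤) := fun y =>
    { carrier := {s | g₀ y s ∈ N y}
      add_mem' := fun {a b} ha hb => by
        show g₀ y (a + b) ∈ N y
        simp only [g₀, map_add]
        exact add_mem ha hb
      zero_mem' := by
        show g₀ y 0 ∈ N y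
        simp only [g₀, map_zero]
        exact zero_mem _
      smul_mem' := fun c a ha => by
        show F.presheaf.germ ⊤ y.1 trivial (φ c • a) ∈ N y
        rw [QCoh.germ_smul']
        exact Submodule.smul_mem _ _ ha }
  have hP : ∀ y, P y ≠ ⊤ := fun y htop => by
    obtain ⟨e⟩ := hF y.1 y.2
    have hle : (⊤ : Submodule (X.presheaf.stalk y.1) (F.presheaf.stalk y.1)) ≤
        (IsLocalRing.maximalIdeal (X.presheaf.stalk y.1)) • ⊤ := by
      refine (hσ y.1).ge.trans (Submodule.span_le.2 ?_)
      rintro _ ⟨i, rfl⟩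
      have h := htop ▸ (Submodule.mem_top (R := k) (x := σ i))
      exact h
    have h1 := Submodule.mem_map_of_mem (f := e.toLinearMap) (hle (Submodule.mem_top (x := e.symm 1)))
    rw [Submodule.map_smul'', LinearEquiv.coe_toLinearMap, e.apply_symm_apply] at h1
    have h2 : (1 : X.presheaf.stalk y.1) ∈ IsLocalRing.maximalIdeal (X.presheaf.stalk y.1) :=
      (Submodule.smul_le.2 fun a ha b _ => Ideal.mul_mem_right b _ ha) h1
    exact (IsLocalRing.maximalIdeal.isMaximal _).ne_top ((Ideal.eq_top_iff_one _).2 h2)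
  obtain ⟨s, hs⟩ : ∃ s, ∀ y, s ∉ P y := by
    by_contra hcon
    push Not at hcon
    obtain ⟨y, hy⟩ := Subspace.exists_eq_top_of_iUnion_eq_univ (p := P)
      (Set.eq_univ_of_forall fun v => Set.mem_iUnion.2 (hcon v))
    exact hP y hy
  refine ⟨InvX.ofSect s, fun y hy => ?_⟩
  obtain ⟨e⟩ := hF y hy
  obtain ⟨c⟩ := TFOneX.exists_stalk_structure (X := X) y
  let g : F.presheaf.stalk y := F.presheaf.germ ⊤ y trivial s
  have hone : TFOneX.sm (InvX.ofSect s) y ((Coh.structureModule X).presheaf.germ ⊤ y trivial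
      (show Γ(Coh.structureModule X, ⊤) from (1 : Γ(X, ⊤)))) = g := by
    rw [TFOneX.sm, DerSch.stalkFunctor_map_germ]
    exact congrArg (F.presheaf.germ ⊤ y trivial) (InvX.one_ofSect s)
  have hu : IsUnit (e g) := by
    by_contra hu
    refine hs ⟨y, hy⟩ ?_
    show g ∈ N ⟨y, hy⟩
    rw [← e.symm_apply_apply g, show e g = e g • (1 : X.presheaf.stalk y) from (mul_one _).symm, map_smul]
    exact Submodule.smul_mem_smul hu Submodule.mem_top
  have hsurj : Function.Surjective (TFOneX.sm (InvX.ofSect s) y) := fun m => by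
    obtain ⟨v, hv⟩ := hu
    refine ⟨(e m * ↑v⁻¹) • (Coh.structureModule X).presheaf.germ ⊤ y trivial
      (show Γ(Coh.structureModule X, ⊤) from (1 : Γ(X, ⊤))), ?_⟩
    rw [map_smul, hone]
    refine e.injective ?_
    rw [map_smul, ← hv, smul_eq_mul, mul_assoc, Units.inv_mul, mul_one]
  refine ⟨?_, hsurj⟩
  let L : X.presheaf.stalk y →ₗ[X.presheaf.stalk y] X.presheaf.stalk y :=
    e.toLinearMap ∘ₗ (TFOneX.sm (InvX.ofSect s) y) ∘ₗ c.symm.toLinearMap
  have hL : Function.Injective L :=
    OrzechProperty.injective_of_surjective_endomorphism L (e.surjective.comp (hsurj.comp c.symm.surjective))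
  intro a b hab
  refine c.injective (hL ?_)
  show e (TFOneX.sm (InvX.ofSect s) y (c.symm (c a))) = e (TFOneX.sm (InvX.ofSect s) y (c.symm (c b)))
  rw [c.symm_apply_apply, c.symm_apply_apply]
  exact congrArg e hab

variable {k : Type u} [Field k] [Infinite k] [X.Over (Spec (CommRingCat.of k))]
  [IsProper (X ↘ Spec (CommRingCat.of k))] (hdim : topologicalKrullDim X ≤ 1)

include hdim in
/-- Tensoring a section which is bijective where the other module is bad. -/
theorem euler_tensor_section {F M : X.Modules} (hF : Coh.IsCoh F) (hM : Coh.IsCoh M)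
    (s : Coh.structureModule X ⟶ F) (hs : ∀ y ∈ badSet M, Function.Bijective (TFOneX.sm s y)) :
    Curv2.euler k X (CohB1.tensorMod M F) - Curv2.euler k X M =
      Curv2.euler k X F - Curv2.euler k X (Coh.structureModule X) ∧
    (∀ ψ : CurvePsi.Psi X, ψ.toFun M = ψ.toFun (CohB1.tensorMod M F) ∧
      ψ.toFun (Coh.structureModule X) = ψ.toFun F) := by
  have hO := QCoh.isCoh_structureModule' (X := X)
  haveI : Mono s := Preadditive.mono_of_cancel_zero _ fun {Z} a ha =>
    TFOneX.hom_eq_zero hO.1 TFOneX.isTorsionFree_structure a fun η hη _ b =>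
      (hs η (Or.inl hη)).1 (by rw [← TFOneX.sm_comp, ha, TFOneX.sm_zero, map_zero])
  let C := cokernel s
  have hC : Coh.IsCoh C := QCoh.isCoh_cokernel hO.1 hF s
  have hS := CurveSlope.shortExact_cokernel_of_mono s
  have hgenT : ∀ x : X, ¬ IsClosed ({x} : Set X) → x ∈ genericPoints (X : Type u) := fun x hx => by
    obtain ⟨η, hη, hsp⟩ := NormAmpleX.exists_generic_specializes x
    by_contra hne
    exact hx (CurvePsi.isClosed_of_dim_le_one hdim hsp fun h => hne (h ▸ hη))
  have hCT : ∀ x ∈ CohB1.support C, x ∉ badSet M := fun x hx hxT => hx (subsingleton_of_forall_eq 0 fun q => by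
    obtain ⟨b, rfl⟩ := TFOneX.surjective_sm (cokernel.π s) x q
    obtain ⟨v, rfl⟩ := (hs x hxT).2 b
    rw [← TFOneX.sm_comp, cokernel.condition, TFOneX.sm_zero])
  have hCcl : ∀ x ∈ CohB1.support C, IsClosed ({x} : Set X) := fun x hx =>
    by_contra fun h => hCT x hx (Or.inl (hgenT x h))
  let T := DCoh.tensorBi.obj M
  have hinj : ∀ x, Function.Injective (TFOneX.sm (T.map s) x) := fun x => by
    refine (sm_tensor_injective s x (TFOneX.injective_sm s x) ?_).1
    by_cases hx : x ∈ badSet M
    · exact Or.inr (hs x hx).2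
    · obtain ⟨e⟩ := not_not.1 fun h => hx (Or.inr h)
      haveI : Module.Free (X.presheaf.stalk x) (M.presheaf.stalk x) := Module.Free.of_equiv e.symm
      exact Or.inl inferInstance
  haveI : Mono (T.map s) := Preadditive.mono_of_isZero_kernel _ (KFlatLib.isZero_of_stalk _ fun x => by
    haveI : Mono ((DerSch.stalkFunctor X x).map (T.map s)) := (ModuleCat.mono_iff_injective _).2 (hinj x)
    exact (isZero_kernel_of_mono ((DerSch.stalkFunctor X x).map (T.map s))).of_iso
      (PreservesKernel.iso (DerSch.stalkFunctor X x) (T.map s)))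
  haveI : Epi (cokernel.π s) := inferInstance
  have hT : (ShortComplex.mk (T.map s) (T.map (cokernel.π s))
      (by rw [← Functor.map_comp, cokernel.condition, Functor.map_zero])).ShortExact :=
    ShortComplex.ShortExact.mk' (hS.exact.map_of_epi_of_preservesCokernel T inferInstance inferInstance)
      ‹_› inferInstance
  let u := KFlatLib.tensorUnitIso M
  have hTC : Coh.IsCoh (T.obj C) := ParShLib.isCoh_tensorMod hM hC
  have hTF : Coh.IsCoh (T.obj F) := ParShLib.isCoh_tensorMod hM hF
  have hTO : Coh.IsCoh (T.obj (Coh.structureModule X)) := ParShLib.isCoh_tensorMod hM hO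
  refine ⟨?_, fun ψ => ⟨?_, ?_⟩⟩
  · have hsum : Curv2.euler k X (T.obj C) = Curv2.euler k X C := by
      have hfin := CurveCohLib.finite_of_closedPoints (QCoh.isClosed_support_of_isFT hC.1 hC.2) hCcl
      obtain ⟨h1, hk⟩ := CurveCohLib.euler_eq_sum_stalks (k := k) hC hCcl hfin.toFinset (by simp)
      obtain ⟨h2, -⟩ := CurveCohLib.euler_eq_sum_stalks (k := k) hTC
        (fun x hx => hCcl x (CurveTensor.support_tensor_subset hx)) hfin.toFinset
        (by simpa using (CurveTensor.support_tensor_subset (E := M) (F := C)))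
      rw [h1, h2]
      refine Finset.sum_congr rfl fun x hx => ?_
      obtain ⟨e⟩ := not_not.1 fun h => hCT x (hfin.mem_toFinset.1 hx) (Or.inr h)
      rw [CurveTensor.finrank_stalk_tensor k x
        ((Module.Basis.singleton (Fin 1) (X.presheaf.stalk x)).map e.symm) (hk x hx), one_mul]
    have e1 := CurveCohLib.euler_additive (k := k) hS hO hF hC
    have e2 := CurveCohLib.euler_additive (k := k) hT hTO hTF hTC
    dsimp only at e1 e2
    rw [hsum] at e2
    change Curv2.euler k X (CohB1.tensorMod M F) = _ at e2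
    rw [e2, e1, CurveCohLib.euler_congr (k := k) (show T.obj (Coh.structureModule X) ≅ M from u)]
    ring
  · rw [← ψ.congr (show T.obj (Coh.structureModule X) ≅ M from u)]
    exact ψ.eq_of_map hTO hTF (T.map s) fun x hx => (ConcreteCategory.isIso_iff_bijective _).2
      ⟨hinj x, (sm_tensor_injective s x (TFOneX.injective_sm s x) (Or.inr (hs x (Or.inl (hgenT x hx))).2)).2
        (hs x (Or.inl (hgenT x hx))).2⟩
  · exact ψ.eq_of_map hO hF s fun x hx =>
      (ConcreteCategory.isIso_iff_bijective _).2 (hs x (Or.inl (hgenT x hx)))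

include hdim in
/-- The Euler characteristic of a tensor product, when one factor is invertible at each point. -/
theorem euler_tensor_eq [X.IsSeparated] {L M : X.Modules} (hL : Coh.IsCoh L) (hM : Coh.IsCoh M)
    (hLr : ∀ η ∈ genericPoints (X : Type u), Module.finrank (X.presheaf.stalk η) (L.presheaf.stalk η) = 1)
    (hMr : ∀ η ∈ genericPoints (X : Type u), Module.finrank (X.presheaf.stalk η) (M.presheaf.stalk η) = 1)
    (hLM : ∀ y : X, Nonempty (L.presheaf.stalk y ≃ₗ[X.presheaf.stalk y] X.presheaf.stalk y) ∨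
      Nonempty (M.presheaf.stalk y ≃ₗ[X.presheaf.stalk y] X.presheaf.stalk y)) :
    Curv2.euler k X (CohB1.tensorMod L M) + Curv2.euler k X (Coh.structureModule X) =
      Curv2.euler k X L + Curv2.euler k X M := by
  obtain ⟨A, hA⟩ := DimOneAmple.exists_isAmple (X := X) hdim
  obtain ⟨nL, hgL⟩ := AmpleX.eventually_isGloballyGenerated hA hL.1 hL.2
  obtain ⟨nM, hgM⟩ := AmpleX.eventually_isGloballyGenerated hA hM.1 hM.2
  let P := CohB1.tensorPow A (nL + nM)
  have hP : PicF.IsInvertible P := H23.PicMul.isInvertible_tensorPow hA.1 _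
  have hPr := InvEnd.isFinLocFreeOfRank_one hP
  let ψ := CurvePsi.eulerPsi k hPr
  have hstalk : ∀ (N : X.Modules) (y : X), Nonempty (N.presheaf.stalk y ≃ₗ[X.presheaf.stalk y] X.presheaf.stalk y) →
      Nonempty ((CohB1.tensorMod N P).presheaf.stalk y ≃ₗ[X.presheaf.stalk y] X.presheaf.stalk y) := fun N y ⟨e⟩ => by
    obtain ⟨b⟩ := CurveTensor.exists_basis_stalk hPr y
    exact ⟨(KFlatLib.stalkTensorIso y N P).symm.toLinearEquiv ≪≫ₗ
      TensorProduct.congr e (b.equivFun ≪≫ₗ LinearEquiv.funUnique (Fin 1) _ _) ≪≫ₗ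
      TensorProduct.lid _ _⟩
  have hgenF : ∀ (N : X.Modules), (∀ η ∈ genericPoints (X : Type u),
      Module.finrank (X.presheaf.stalk η) (N.presheaf.stalk η) = 1) → ∀ η ∈ genericPoints (X : Type u),
      Nonempty ((CohB1.tensorMod N P).presheaf.stalk η ≃ₗ[X.presheaf.stalk η] X.presheaf.stalk η) :=
    fun N h η hη => hstalk N η (equiv_generic hη (h η hη))
  -- first section
  obtain ⟨s, hs⟩ := exists_section_bijective k (hgL _ (Nat.le_add_right nL nM)) (badSet M)
    (finite_badSet hdim hM hMr) fun y hy => by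
      rcases hy with hy | hy
      · exact hgenF L hLr y hy
      · exact hstalk L y ((hLM y).resolve_right hy)
  have hFc : ∀ N : X.Modules, Coh.IsCoh N → Coh.IsCoh (CohB1.tensorMod N P) := fun N hN =>
    ParShLib.isCoh_tensorMod hN (CurveDeg.isCoh_of_isInvertible hP)
  obtain ⟨e1, p1⟩ := euler_tensor_section (k := k) hdim (hFc L hL) hM s hs
  -- second section, at the generic points only
  obtain ⟨s', hs'⟩ := exists_section_bijective k (hgM _ (Nat.le_add_left nM nL)) (badSet (Coh.structureModule X))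
    (finite_badSet hdim QCoh.isCoh_structureModule' fun η _ => by
      obtain ⟨c⟩ := TFOneX.exists_stalk_structure (X := X) η
      rw [c.finrank_eq, Module.finrank_self])
    fun y hy => by
      rcases hy with hy | hy
      · exact hgenF M hMr y hy
      · exact absurd (TFOneX.exists_stalk_structure (X := X) y) hy
  obtain ⟨-, p2⟩ := euler_tensor_section (k := k) hdim (hFc M hM) QCoh.isCoh_structureModule' s' hs'
  letI := H23.PicMul.clMonoid X
  obtain ⟨i1⟩ : Nonempty (CohB1.tensorMod M (CohB1.tensorMod L P) ≅ (DCoh.tensorBi.obj P).obj (CohB1.tensorMod L M)) := by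
    refine H23.PicMul.cl_eq_iff.1 ?_
    show _ = PicF.cl (CohB1.tensorMod P (CohB1.tensorMod L M))
    simp only [H23.PicMul.cl_tensor]
    rw [mul_comm (PicF.cl P), mul_comm (PicF.cl L) (PicF.cl M), mul_assoc]
  have hswap : ∀ N : X.Modules, Nonempty (CohB1.tensorMod N P ≅ (DCoh.tensorBi.obj P).obj N) := fun N => by
    refine H23.PicMul.cl_eq_iff.1 ?_
    show _ = PicF.cl (CohB1.tensorMod P N)
    simp only [H23.PicMul.cl_tensor]
    rw [mul_comm]
  obtain ⟨iL⟩ := hswap L
  obtain ⟨iM⟩ := hswap M
  have hψ : ∀ N : X.Modules, Coh.IsCoh N → ψ.toFun ((DCoh.tensorBi.obj P).obj N) = ψ.toFun N := fun N hN => by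
    rw [CurvePsi.Psi.tensor_eq ψ hdim hPr hN, Nat.cast_one, one_mul]
  have a1 : ψ.toFun M = ψ.toFun (CohB1.tensorMod L M) := by
    rw [(p1 ψ).1, ψ.congr i1, hψ _ (ParShLib.isCoh_tensorMod hL hM)]
  have a2 : ψ.toFun L = ψ.toFun (Coh.structureModule X) := by
    rw [(p1 ψ).2, ψ.congr iL, hψ _ hL]
  have a3 : ψ.toFun M = ψ.toFun (Coh.structureModule X) := by
    rw [(p2 ψ).2, ψ.congr iM, hψ _ hM]
  rw [CurveCohLib.euler_congr (k := k) i1, CurveCohLib.euler_congr (k := k) iL] at e1
  simp only [ψ, CurvePsi.eulerPsi] at a1 a2 a3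
  push_cast at a1 a2 a3
  linarith

end Groth.Agent.CurveGor.DegTensor
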