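import Groth.Agent.CurveGor.Branches
import Groth.Agent.DeltaLib.BaseChange
import Groth.Agent.GrpSchLib.Reduced
import Groth.Agent.LocalCrit.Completion
import Groth.Agent.NodeFam.CritODP
import Groth.Agent.S7654

/-!
# The δ-invariant of an ordinary double point
-/

set_option autoImplicit false
set_option linter.style.haveILetI false
set_option backward.isDefEq.respectTransparency false
set_option backward.isDefEq.respectTransparency.types false
set_option maxHeartbeats 1000000
set_option synthInstance.maxHeartbeats 200000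

universe u

open IsLocalRing MvPowerSeries Groth.Agent.NodeFam

noncomputable section

namespace Groth.Agent.CurveGor.Delta

open Groth.Agent

section Normal

variable {A : Type u} [CommRing A] (N : Type u) [CommRing N] [Algebra A N]

/-- A birational integral extension with normal local rings is the normalization. -/
theorem exists_algEquiv_integralClosure (hinj : Function.Injective (algebraMap A N)) (hint : Algebra.IsIntegral A N)
    {t : A} (ht : t ∈ nonZeroDivisors A) (htN : ∀ z : N, algebraMap A N t * z = 0 → z = 0)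
    (hden : ∀ z : N, ∃ a : A, algebraMap A N a = algebraMap A N t * z)
    (hnorm : ∀ n : Ideal N, ∀ hn : n.IsMaximal,
      haveI := hn; IsDomain (Localization.AtPrime n) ∧ IsIntegrallyClosed (Localization.AtPrime n)) :
    Nonempty (N ≃ₐ[A] integralClosure A (FractionRing A)) := by
  classical
  choose num hnum using hden
  let L := FractionRing A
  have htu : IsUnit (algebraMap A L t) := IsLocalization.map_units L (⟨t, ht⟩ : nonZeroDivisors A)
  obtain ⟨v, hv⟩ := htu
  have hnum1 : ∀ a : A, num (algebraMap A N a) = t * a := fun a => hinj (by rw [hnum, map_mul])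
  have hnum_add : ∀ x y, num (x + y) = num x + num y := fun x y =>
    hinj (by rw [map_add, hnum, hnum, hnum, mul_add])
  have hnum_mul : ∀ x y, t * num (x * y) = num x * num y := fun x y =>
    hinj (by rw [map_mul, map_mul, hnum, hnum, hnum]; ring)
  have hL : ∀ w : L, (↑v⁻¹ : L) * (algebraMap A L t * w) = w := fun w => by
    rw [← hv, ← mul_assoc, Units.inv_mul, one_mul]
  let φ : N →ₐ[A] L :=
    { toFun := fun x => (↑v⁻¹ : L) * algebraMap A L (num x)
      map_one' := by
        show _ * algebraMap A L (num 1) = 1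
        rw [← map_one (algebraMap A N), hnum1, mul_one, ← hv, Units.inv_mul]
      map_mul' := fun x y => by
        have h := congrArg (algebraMap A L) (hnum_mul x y)
        rw [map_mul, map_mul] at h
        calc (↑v⁻¹ : L) * algebraMap A L (num (x * y))
            = ↑v⁻¹ * (↑v⁻¹ * (algebraMap A L t * algebraMap A L (num (x * y)))) := by rw [hL]
          _ = _ := by rw [h]; ring
      map_zero' := by
        show _ * algebraMap A L (num 0) = 0
        rw [← map_zero (algebraMap A N), hnum1, mul_zero, map_zero, mul_zero]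
      map_add' := fun x y => by rw [hnum_add, map_add, mul_add]
      commutes' := fun a => by
        show _ * algebraMap A L (num (algebraMap A N a)) = _
        rw [hnum1, map_mul, hL] }
  have hφ : ∀ x, algebraMap A L t * φ x = algebraMap A L (num x) := fun x => by
    show algebraMap A L t * (↑v⁻¹ * _) = _
    rw [← hv, ← mul_assoc, Units.mul_inv, one_mul]
  have hφinj : Function.Injective φ := fun x y h => by
    have h1 : num x = num y := IsFractionRing.injective A L (by rw [← hφ, ← hφ, h])
    exact sub_eq_zero.1 (htN _ (by rw [mul_sub, ← hnum, ← hnum, h1, sub_self]))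
  have hmem : ∀ x, φ x ∈ integralClosure A L := fun x => (hint.isIntegral x).map φ
  refine ⟨AlgEquiv.ofBijective (φ.codRestrict _ hmem)
    ⟨fun x y h => hφinj (congrArg Subtype.val h), fun ⟨z, hz⟩ => ?_⟩⟩
  obtain ⟨⟨a, s, hs⟩, e⟩ := IsLocalization.surj (nonZeroDivisors A) z
  have hsN : ∀ w : N, algebraMap A N s * w = 0 → w = 0 := fun w hw => htN w (by
    have h1 : s * num w = 0 := hinj (by rw [map_mul, hnum, mul_left_comm, hw, mul_zero, map_zero])
    rw [← hnum, mem_nonZeroDivisors_iff_left.1 hs _ h1, map_zero])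
  let J : Ideal N := Submodule.colon (Ideal.span {algebraMap A N s}) {algebraMap A N a}
  have hJ : J = ⊤ := by
    by_contra hne
    obtain ⟨n, hn, hle⟩ := Ideal.exists_le_maximal J hne
    haveI := hn
    obtain ⟨hdom, hic⟩ := hnorm n hn
    let Nn := Localization.AtPrime n
    let ι : N →+* Nn := algebraMap N Nn
    have hs0 : ι (algebraMap A N s) ≠ 0 := fun h0 => by
      obtain ⟨⟨c, hc⟩, hcs⟩ := (IsLocalization.map_eq_zero_iff n.primeCompl Nn _).1 h0
      exact hc (by rw [hsN c (by rw [mul_comm]; exact hcs)]; exact n.zero_mem)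
    let F := FractionRing Nn
    have hu : ∀ y : nonZeroDivisors A, IsUnit (((algebraMap Nn F).comp (ι.comp (algebraMap A N))) y) := fun y => by
      refine IsUnit.mk0 _ fun h0 => ?_
      obtain ⟨⟨c, hc⟩, hcs⟩ := (IsLocalization.map_eq_zero_iff n.primeCompl Nn _).1
        ((map_eq_zero_iff _ (IsFractionRing.injective Nn F)).1 h0)
      have h1 : (y : A) * num c = 0 := hinj (by
        rw [map_mul, hnum, mul_left_comm, mul_comm (algebraMap A N y), hcs, mul_zero, map_zero])
      have h2 := htN c (by rw [← hnum, mem_nonZeroDivisors_iff_left.1 y.2 _ h1, map_zero])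
      exact hc (by rw [h2]; exact n.zero_mem)
    let ψ : L →+* F := IsLocalization.lift hu
    have hψz : IsIntegral Nn (ψ z) := by
      obtain ⟨p, hp, hpz⟩ := hz
      refine ⟨p.map (ι.comp (algebraMap A N)), hp.map _, ?_⟩
      rw [Polynomial.eval₂_map]
      have h := congrArg ψ hpz
      rw [map_zero, Polynomial.hom_eval₂, IsLocalization.lift_comp hu] at h
      exact h
    obtain ⟨b, hb⟩ := IsIntegrallyClosed.isIntegral_iff.1 hψz
    have hb' : ι (algebraMap A N a) = b * ι (algebraMap A N s) := by
      apply IsFractionRing.injective Nn F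
      rw [map_mul, hb]
      have h := congrArg ψ e
      rw [map_mul, IsLocalization.lift_eq, IsLocalization.lift_eq] at h
      exact h.symm
    obtain ⟨⟨b', w⟩, hbw⟩ := IsLocalization.surj n.primeCompl b
    have h3 : ι ((w : N) * algebraMap A N a) = ι (b' * algebraMap A N s) := by
      rw [map_mul, map_mul, hb', ← hbw]
      ring
    obtain ⟨c, hc⟩ := (IsLocalization.eq_iff_exists n.primeCompl Nn).1 h3
    refine (c * w).2 (hle ?_)
    refine Submodule.mem_colon_singleton.2 (Ideal.mem_span_singleton'.2 ⟨(c : N) * b', ?_⟩)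
    rw [smul_eq_mul, Submonoid.coe_mul, mul_assoc, mul_assoc, hc]
  obtain ⟨w, hw⟩ := Ideal.mem_span_singleton'.1
    (show algebraMap A N a ∈ Ideal.span {algebraMap A N s} by
      have := Submodule.mem_colon_singleton.1 (show (1 : N) ∈ J by rw [hJ]; trivial)
      rwa [one_smul] at this)
  refine ⟨w, Subtype.ext ?_⟩
  show φ w = z
  refine (IsLocalization.map_units L (⟨s, hs⟩ : nonZeroDivisors A)).mul_left_injective ?_
  show φ w * algebraMap A L s = z * algebraMap A L s
  rw [e, ← φ.commutes s, ← φ.commutes a, ← map_mul, hw]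

/-- The δ-invariant is the colength in a normalization. -/
theorem deltaInv_eq_length (hinj : Function.Injective (algebraMap A N)) [Module.Finite A N]
    {t : A} (ht : t ∈ nonZeroDivisors A) (htN : ∀ z : N, algebraMap A N t * z = 0 → z = 0)
    (hden : ∀ z : N, ∃ a : A, algebraMap A N a = algebraMap A N t * z)
    (hnorm : ∀ n : Ideal N, ∀ hn : n.IsMaximal,
      haveI := hn; IsDomain (Localization.AtPrime n) ∧ IsIntegrallyClosed (Localization.AtPrime n)) :
    Curv2.deltaInv A = Module.length A (N ⧸ LinearMap.range (Algebra.linearMap A N)) ∧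
      Module.Finite A (integralClosure A (FractionRing A)) := by
  obtain ⟨e⟩ := exists_algEquiv_integralClosure N hinj inferInstance ht htN hden hnorm
  refine ⟨?_, Module.Finite.equiv e.toLinearEquiv⟩
  refine (LinearEquiv.length_eq (Submodule.Quotient.equiv _ _ e.toLinearEquiv ?_)).symm
  ext z
  constructor
  · rintro ⟨_, ⟨a, rfl⟩, rfl⟩
    exact ⟨a, (e.commutes a).symm⟩
  · rintro ⟨a, rfl⟩
    exact ⟨algebraMap A N a, ⟨a, rfl⟩, e.commutes a⟩

end Normal

/-- The δ-invariant of two regular branches crossing transversally. -/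
theorem deltaInv_eq_one {A : Type u} [CommRing A] [IsLocalRing A] [IsNoetherianRing A] {x y : A}
    (hm : Ideal.span {x, y} = maximalIdeal A) (hP : (Ideal.span {x}).IsPrime) (hQ : (Ideal.span {y}).IsPrime)
    (hPQ : Ideal.span {x} ⊓ Ideal.span {y} = ⊥) (hy : y ∉ Ideal.span {x}) (hx : x ∉ Ideal.span {y}) :
    Curv2.deltaInv A = 1 := by
  set P := Ideal.span {x} with hPdef
  set Q := Ideal.span {y} with hQdef
  have hxy : x * y = 0 := Ideal.mem_bot.1 (hPQ ▸ (⟨Ideal.mul_mem_right _ _ (Ideal.mem_span_singleton_self x),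
    Ideal.mul_mem_left _ _ (Ideal.mem_span_singleton_self y)⟩ : x * y ∈ P ∧ x * y ∈ Q))
  have hzero : ∀ a, a ∈ P → a ∈ Q → a = 0 := fun a ha hb =>
    Ideal.mem_bot.1 (hPQ ▸ (⟨ha, hb⟩ : a ∈ P ∧ a ∈ Q))
  have hPy : ∀ a ∈ P, a * y = 0 := fun a ha => hzero _ (Ideal.mul_mem_right _ _ ha)
    (Ideal.mul_mem_left _ _ (Ideal.mem_span_singleton_self y))
  have hQx : ∀ a ∈ Q, a * x = 0 := fun a ha => hzero _ (Ideal.mul_mem_left _ _ (Ideal.mem_span_singleton_self x))
    (Ideal.mul_mem_right _ _ ha)
  have hxP := Ideal.mem_span_singleton_self x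
  have hyQ := Ideal.mem_span_singleton_self y
  let t := x + y
  have ht : t ∈ nonZeroDivisors A := mem_nonZeroDivisors_iff_left.2 fun b hb => by
    refine hzero b ((hP.mem_or_mem (show t * b ∈ P by rw [hb]; exact P.zero_mem)).resolve_left fun h => hy ?_)
      ((hQ.mem_or_mem (show t * b ∈ Q by rw [hb]; exact Q.zero_mem)).resolve_left fun h => hx ?_)
    · simpa [t] using P.sub_mem h hxP
    · simpa [t] using Q.sub_mem h hyQ
  let L := FractionRing A
  let e₀ : L := IsLocalization.mk' L x (⟨t, ht⟩ : nonZeroDivisors A)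
  have he₀ : e₀ * algebraMap A L t = algebraMap A L x := IsLocalization.mk'_spec L x (⟨t, ht⟩ : nonZeroDivisors A)
  have hut : IsUnit (algebraMap A L t) := IsLocalization.map_units L (⟨t, ht⟩ : nonZeroDivisors A)
  have he₀2 : e₀ * e₀ = e₀ := by
    refine hut.mul_left_injective (hut.mul_left_injective ?_)
    show e₀ * e₀ * algebraMap A L t * algebraMap A L t = e₀ * algebraMap A L t * algebraMap A L t
    calc e₀ * e₀ * algebraMap A L t * algebraMap A L t
        = (e₀ * algebraMap A L t) * (e₀ * algebraMap A L t) := by ring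
      _ = _ := by
        rw [he₀, ← map_mul, ← map_mul]
        exact congrArg _ (by rw [show t = x + y from rfl, mul_add, hxy, add_zero])
  have he₀i : e₀ ∈ integralClosure A L := by
      refine ⟨Polynomial.X ^ 2 - Polynomial.X, Polynomial.monic_X_pow_sub (by rw [Polynomial.degree_X]; decide), ?_⟩
      rw [Polynomial.eval₂_sub, Polynomial.eval₂_X_pow, Polynomial.eval₂_X, pow_two, he₀2, sub_self]
  let e : integralClosure A L := ⟨e₀, he₀i⟩
  let R := LinearMap.range (Algebra.linearMap A (integralClosure A L))
  have hmk : ∀ a : A, a ∈ maximalIdeal A → a • e ∈ R := fun a ha => by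
    rw [← hm] at ha
    obtain ⟨c, d, rfl⟩ := Ideal.mem_span_pair.1 ha
    refine ⟨c * x, Subtype.ext (hut.mul_left_injective ?_)⟩
    show algebraMap A L (c * x) * algebraMap A L t = (c * x + d * y) • e₀ * algebraMap A L t
    rw [Algebra.smul_def, mul_assoc, he₀, ← map_mul, ← map_mul]
    exact congrArg _ (by rw [show t = x + y from rfl]; linear_combination (c - d) * hxy)
  have hne : e ∉ R := by
    rintro ⟨a, ha⟩
    have h : a * t = x := IsFractionRing.injective A L (by
      rw [map_mul, ← he₀]
      exact congrArg (· * algebraMap A L t) (congrArg Subtype.val ha))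
    have h1 : a * y ∈ P := by
      rw [show a * y = x - a * x by rw [show t = x + y from rfl] at h; linear_combination h]
      exact P.sub_mem hxP (P.mul_mem_left a hxP)
    have h2 : (a - 1) * x ∈ Q := by
      rw [show (a - 1) * x = -(a * y) by rw [show t = x + y from rfl] at h; linear_combination h]
      exact Q.neg_mem (Q.mul_mem_left a hyQ)
    refine (maximalIdeal.isMaximal A).ne_top ((Ideal.eq_top_iff_one _).2 ?_)
    have ha' : a ∈ P := (hP.mem_or_mem h1).resolve_right hy
    have hb' : a - 1 ∈ Q := (hQ.mem_or_mem h2).resolve_right hx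
    rw [show (1 : A) = a - (a - 1) by ring, ← hm, Set.insert_eq, Ideal.span_union]
    exact sub_mem (Submodule.mem_sup_left ha') (Submodule.mem_sup_right hb')
  -- integrally closed quotients
  have hdvr : ∀ (x y : A), Ideal.span {x, y} = maximalIdeal A → (Ideal.span {x}).IsPrime → y ∉ Ideal.span {x} →
      IsIntegrallyClosed (A ⧸ Ideal.span {x}) := fun x y hm hP hy => by
    haveI := hP
    haveI : Nontrivial (A ⧸ Ideal.span {x}) := Ideal.Quotient.nontrivial_iff.2 hP.ne_top
    haveI := IsLocalRing.of_surjective' (Ideal.Quotient.mk (Ideal.span {x})) Ideal.Quotient.mk_surjective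
    let π := Ideal.Quotient.mk (Ideal.span {x}) y
    have hyz : π ≠ 0 := fun h => hy (Ideal.Quotient.eq_zero_iff_mem.1 h)
    have hmax : maximalIdeal (A ⧸ Ideal.span {x}) = Ideal.span {π} := by
      have h := IsLocalRing.eq_maximalIdeal (R := A ⧸ Ideal.span {x})
        (Ideal.map_eq_top_or_isMaximal_of_surjective (Ideal.Quotient.mk (Ideal.span {x}))
          Ideal.Quotient.mk_surjective (maximalIdeal.isMaximal A) |>.resolve_left fun htop =>
            (maximalIdeal.isMaximal A).ne_top (by
              have hx' : Ideal.span {x} ≤ maximalIdeal A := le_maximalIdeal hP.ne_top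
              have := congrArg (Ideal.comap (Ideal.Quotient.mk (Ideal.span {x}))) htop
              rw [Ideal.comap_map_of_surjective _ Ideal.Quotient.mk_surjective, Ideal.comap_top,
                ← RingHom.ker_eq_comap_bot, Ideal.mk_ker, sup_eq_left.2 hx'] at this
              exact this))
      rw [← h, ← hm, Ideal.map_span, Set.image_pair,
        Ideal.Quotient.eq_zero_iff_mem.2 (Ideal.mem_span_singleton_self x), Ideal.span_insert_zero]
    exact (DeltaLib.dvr_of_principal_maximalIdeal π hmax (mem_nonZeroDivisors_of_ne_zero hyz)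
      (hmax ▸ Ideal.mem_span_singleton_self π)).2
  -- the normalization is generated by one and the idempotent
  have hspan : ∀ z : integralClosure A L, ∃ c d : A, z = algebraMap A _ c + d • e := fun ⟨z, hz⟩ => by
    obtain ⟨⟨a, s, hs⟩, hze⟩ := IsLocalization.surj (nonZeroDivisors A) z
    have hbranch : ∀ (x y : A), Ideal.span {x, y} = maximalIdeal A → (Ideal.span {x}).IsPrime →
        y ∉ Ideal.span {x} → (∀ b ∈ Ideal.span {x}, b * y = 0) →
        ∃ c, a - c * s ∈ Ideal.span {x} := fun x y hm hP hy hann => by
      haveI := hdvr x y hm hP hy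
      haveI := hP
      let q := Ideal.Quotient.mk (Ideal.span {x})
      let F := FractionRing (A ⧸ Ideal.span {x})
      have hu : ∀ w : nonZeroDivisors A, IsUnit (((algebraMap _ F).comp q) w) := fun w => by
        refine IsUnit.mk0 _ fun h0 => hy ?_
        have h0' : q (w : A) = 0 := (map_eq_zero_iff _ (IsFractionRing.injective (A ⧸ Ideal.span {x}) F)).1 h0
        have h1 := Ideal.Quotient.eq_zero_iff_mem.1 h0'
        rw [mem_nonZeroDivisors_iff_left.1 w.2 y (hann _ h1)]
        exact Ideal.zero_mem _
      let ψ : L →+* F := IsLocalization.lift hu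
      have hψz : IsIntegral (A ⧸ Ideal.span {x}) (ψ z) := by
        obtain ⟨p, hp, hpz⟩ := hz
        refine ⟨p.map q, hp.map _, ?_⟩
        rw [Polynomial.eval₂_map]
        have h := congrArg ψ hpz
        rw [map_zero, Polynomial.hom_eval₂, IsLocalization.lift_comp hu] at h
        exact h
      obtain ⟨c, hc⟩ := IsIntegrallyClosed.isIntegral_iff.1 hψz
      obtain ⟨c, rfl⟩ := Ideal.Quotient.mk_surjective c
      refine ⟨c, Ideal.Quotient.eq.1 ?_⟩
      apply IsFractionRing.injective (A ⧸ Ideal.span {x}) F
      rw [map_mul, map_mul, hc]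
      have h := congrArg ψ hze
      rw [map_mul, IsLocalization.lift_eq, IsLocalization.lift_eq] at h
      exact h.symm
    obtain ⟨cP, hcP⟩ := hbranch x y hm hP hy hPy
    obtain ⟨cQ, hcQ⟩ := hbranch y x (by rw [Set.pair_comm, hm]) hQ hx hQx
    refine ⟨cP, cQ - cP, Subtype.ext ((IsLocalization.map_units L (⟨s, hs⟩ : nonZeroDivisors A)).mul_left_injective
      (hut.mul_left_injective ?_))⟩
    show z * algebraMap A L s * algebraMap A L t =
      (algebraMap A L cP + (cQ - cP) • e₀) * algebraMap A L s * algebraMap A L t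
    rw [hze, Algebra.smul_def]
    calc algebraMap A L a * algebraMap A L t = algebraMap A L ((cP * t + (cQ - cP) * x) * s) := by
          rw [← map_mul]
          exact congrArg _ (by
            have h1 := hPy _ hcP
            have h2 := hQx _ hcQ
            rw [show t = x + y from rfl]
            linear_combination h1 + h2)
      _ = _ := by
          rw [map_mul, map_add, map_mul, map_mul (algebraMap A L) (cQ - cP) x, ← he₀]
          ring
  -- length one
  rw [Curv2.deltaInv]
  have hgen : ∀ z, ∃ d : A, z = d • Submodule.Quotient.mk (p := R) e := fun z => by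
    obtain ⟨z, rfl⟩ := Submodule.Quotient.mk_surjective R z
    obtain ⟨c, d, rfl⟩ := hspan z
    refine ⟨d, ?_⟩
    rw [← Submodule.Quotient.mk_smul, Submodule.Quotient.eq, add_sub_cancel_right]
    exact ⟨c, rfl⟩
  let g : A →ₗ[A] (integralClosure A L ⧸ R) := LinearMap.toSpanSingleton A _ (Submodule.Quotient.mk e)
  have hg : Function.Surjective g := fun z => let ⟨d, hd⟩ := hgen z; ⟨d, hd.symm⟩
  have hker : LinearMap.ker g = maximalIdeal A := by
    refine le_antisymm (le_maximalIdeal fun htop => hne ?_) fun a ha => ?_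
    · have h1 : g 1 = 0 := LinearMap.mem_ker.1 (htop ▸ Submodule.mem_top)
      rw [LinearMap.toSpanSingleton_apply, one_smul, Submodule.Quotient.mk_eq_zero] at h1
      exact h1
    · rw [LinearMap.mem_ker, LinearMap.toSpanSingleton_apply, ← Submodule.Quotient.mk_smul,
        Submodule.Quotient.mk_eq_zero]
      exact hmk a ha
  rw [← LinearEquiv.length_eq (g.quotKerEquivOfSurjective hg), hker, Module.length_eq_one_iff]
  exact isSimpleModule_iff_isCoatom.2 (maximalIdeal.isMaximal A).out

variable {K : Type u} [Field K] {A : Type u} [CommRing A] [IsLocalRing A] [IsNoetherianRing A] [Algebra K A]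

/-- The δ-invariant of an ordinary double point is one. -/
theorem deltaInv_odp [IsReduced A] (h : Curv2.IsOrdDoublePt K A) (hdim : ringKrullDim A = 1)
    (hfin : Module.Finite A (integralClosure A (FractionRing A))) : Curv2.deltaInv A = 1 := by
  have hmax : maximalIdeal A = (maximalIdeal A).map (algebraMap A A) := by
    rw [Algebra.algebraMap_self, Ideal.map_id]
  have fg := LocalCrit.maximalIdeal_fg (A := A) (C := A) hmax
  let C := AdicCompletion (maximalIdeal A) A
  haveI : IsLocalRing C := AdicCompletion.isLocalRing_of_fg fg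
  haveI := LocalCrit.isNoetherianRing_completion (A := A) (C := A) hmax
  haveI := LocalCrit.flat_completion (A := A) (C := A) hmax
  have hm : (maximalIdeal A).map (algebraMap A C) = maximalIdeal C :=
    (AdicCompletion.maximalIdeal_eq_map_of_fg fg).symm
  haveI : IsLocalHom (algebraMap A C) := ((IsLocalRing.local_hom_TFAE (algebraMap A C)).out 0 2).mpr hm.le
  have hsurj : Function.Surjective (algebraMap (ResidueField A) (ResidueField C)) := fun w => by
    obtain ⟨b, rfl⟩ := residue_surjective w
    obtain ⟨a, ha⟩ := Ideal.Quotient.mk_surjective (AdicCompletion.evalOneₐ (maximalIdeal A) b)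
    have hk : RingHom.ker (AdicCompletion.evalOneₐ (maximalIdeal A)).toRingHom = maximalIdeal C :=
      letI : Field (A ⧸ maximalIdeal A) := Ideal.Quotient.field _
      IsLocalRing.eq_maximalIdeal (RingHom.ker_isMaximal_of_surjective _
        (AdicCompletion.evalOneₐ_surjective (maximalIdeal A)))
    refine ⟨residue A a, (Ideal.Quotient.eq.2 ?_ : residue C (algebraMap A C a) = residue C b)⟩
    rw [← hk, RingHom.mem_ker]
    show AdicCompletion.evalOneₐ (maximalIdeal A) (algebraMap A C a - b) = 0
    rw [map_sub, AlgHom.commutes, ← ha]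
    exact sub_self _
  rw [← S7654.deltaInv_eq_of_separable hfin hdim C hm ⟨fun w => by
    obtain ⟨a, rfl⟩ := hsurj w; exact isSeparable_algebraMap a⟩]
  obtain ⟨e, -⟩ := h
  let g : PS2 K →+* C := e.symm.toRingHom.comp (Ideal.Quotient.mk (nodeIdeal K))
  let g' : NodeQuot K →+* C := e.symm.toRingHom
  have hg' : Function.Bijective g' := e.symm.bijective
  have hspan : ∀ l : Fin 2, Ideal.span {g (X l)} =
      (Ideal.span {Ideal.Quotient.mk (nodeIdeal K) (X l : PS2 K)}).map g' := fun l => by
    rw [Ideal.map_span, Set.image_singleton]; rfl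
  have hprime : ∀ l : Fin 2, (Ideal.span {g (X l)}).IsPrime := fun l => by
    rw [hspan]
    haveI := isPrime_axis (K := K) l
    exact Ideal.map_isPrime_of_equiv e.symm
  have hne : ∀ l m : Fin 2, l ≠ m → g (X m) ∉ Ideal.span {g (X l)} := fun l m hlm hmem => by
    obtain ⟨c, hc⟩ := Ideal.mem_span_singleton'.1 hmem
    obtain ⟨c, rfl⟩ := (e.symm.surjective.comp Ideal.Quotient.mk_surjective) c
    change g c * g (X l) = g (X m) at hc
    rw [← map_mul] at hc
    have h1 := Ideal.Quotient.eq.1 (e.symm.injective (show g' _ = g' _ from hc))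
    obtain ⟨d, hd⟩ := Ideal.mem_span_singleton'.1 h1
    have h2 := congrArg (coeff (Finsupp.single m 1)) hd
    have hdvd : ∀ f : PS2 K, coeff (Finsupp.single m 1) (f * X l) = 0 := fun f => by
      refine MvPowerSeries.X_dvd_iff.1 (Dvd.intro_left f rfl) _ ?_
      rw [Finsupp.single_eq_of_ne hlm]
    rw [map_sub, hdvd, MvPowerSeries.coeff_index_single_self_X, zero_sub,
      show d * (X 0 * X 1) = (d * (if l = 0 then X 1 else X 0)) * X l by fin_cases l <;> simp <;> ring,
      hdvd] at h2
    exact one_ne_zero (neg_eq_zero.1 h2.symm)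
  refine deltaInv_eq_one (x := g (X 0)) (y := g (X 1)) ?_ (hprime 0) (hprime 1) ?_
    (hne 0 1 (by decide)) (hne 1 0 (by decide))
  · have ho : Ideal.span {Ideal.Quotient.mk (nodeIdeal K) (X 0 : PS2 K), Ideal.Quotient.mk (nodeIdeal K) (X 1)} =
        nodeOrigin K := by
      rw [nodeOrigin, vars_eq, Ideal.map_span, Set.image_pair]
    haveI := (nodeCrit_origin K).isMaximal
    refine IsLocalRing.eq_maximalIdeal ?_
    rw [show Ideal.span {g (X 0), g (X 1)} = (nodeOrigin K).map g' by
      rw [← ho, Ideal.map_span, Set.image_pair]; rfl]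
    exact (Ideal.isMaximal_map_iff_of_bijective (f := g') hg').2 inferInstance
  · refine le_bot_iff.1 fun a ha => ?_
    obtain ⟨a, rfl⟩ := hg'.2 a
    have h0 := axis_inf (K := K)
    have hmem : ∀ l : Fin 2, g' a ∈ Ideal.span {g (X l)} →
        a ∈ Ideal.span {Ideal.Quotient.mk (nodeIdeal K) (X l : PS2 K)} := fun l hl => by
      rw [hspan] at hl
      obtain ⟨b, hb, hba⟩ := (Ideal.mem_map_iff_of_surjective g' hg'.2).1 hl
      exact hg'.1 hba ▸ hb
    have ha0 : a ∈ (⊥ : Ideal (NodeQuot K)) := h0.le ⟨hmem 0 ha.1, hmem 1 ha.2⟩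
    rw [Submodule.mem_bot, Ideal.mem_bot.1 ha0, map_zero]

end Groth.Agent.CurveGor.Delta
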