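import Groth.Agent.CurveGor.Criterion
import Groth.Agent.Lib.CurvePoint
import Groth.Agent.Lib.CurveTensor

/-!
# Global generation from the criterion
-/

set_option autoImplicit false
set_option linter.style.haveILetI false
set_option linter.unusedSectionVars false
set_option backward.isDefEq.respectTransparency false
set_option backward.isDefEq.respectTransparency.types false
set_option maxHeartbeats 1000000
set_option synthInstance.maxHeartbeats 200000

universe u

open CategoryTheory CategoryTheory.Limits AlgebraicGeometry TopologicalSpace Opposite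
open Groth.Agent.PnCoh.Finite (mapLin)

noncomputable section

namespace Groth.Agent.CurveGor

open Groth.Agent TFOneX CurvePoint

variable {X : Scheme.{u}} [IsNoetherian X]
variable {k : Type u} [Field k] [X.Over (Spec (CommRingCat.of k))] [IsProper (X ↘ Spec (CommRingCat.of k))]

omit [AlgebraicGeometry.IsNoetherian X] in
theorem closed_support' (p : X) (hp : IsClosed ({p} : Set X)) :
    ∀ x ∈ CohB1.support (ClSub.quotMod (ptIdeal p hp)), IsClosed ({x} : Set X) :=
  fun _ hx => Set.mem_singleton_iff.1 (support_quot_subset p hp hx) ▸ hp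

omit [AlgebraicGeometry.IsNoetherian X] in
theorem shortExact_of_iso_mid' {A B B' C : X.Modules} (f : A ⟶ B) (g : B ⟶ C) (w : f ≫ g = 0)
    (hS : (ShortComplex.mk f g w).ShortExact) (u : B ≅ B') :
    (ShortComplex.mk (f ≫ u.hom) (u.inv ≫ g) (by rw [Category.assoc, Iso.hom_inv_id_assoc, w])).ShortExact :=
  ShortComplex.shortExact_of_iso (S₁ := ShortComplex.mk f g w)
    (ShortComplex.isoMk (Iso.refl _) u (Iso.refl _) (by simp) (by simp)) hS

/-- A closed point over an algebraically closed field has one function. -/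
theorem euler_point [IsAlgClosed k] (p : X) (hp : IsClosed ({p} : Set X)) :
    Curv2.euler k X (ClSub.quotMod (ptIdeal p hp)) = 1 := by
  classical
  let Q := ClSub.quotMod (ptIdeal p hp)
  obtain ⟨h, hfin⟩ := CurveCohLib.euler_eq_sum_stalks (k := k) (ParShLib.isCoh_quotMod (ptIdeal p hp))
    (closed_support' p hp) {p} (by simpa using support_quot_subset p hp)
  rw [h, Finset.sum_singleton]
  letI := CurveCohLib.stalkModuleK k Q p
  haveI := hfin p (Finset.mem_singleton_self p)
  haveI : Nontrivial (Q.presheaf.stalk p) := not_subsingleton_iff_nontrivial.1 (not_subsingleton_stalk p hp)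
  obtain ⟨q₀, hq₀⟩ : ∃ q₀ : Q.presheaf.stalk p, ∀ q, ∃ a : X.presheaf.stalk p, q = a • q₀ :=
    ParShLib.exists_germ_smul (ptIdeal p hp) p
  let L : k →ₗ[k] Q.presheaf.stalk p :=
    { toFun := fun c => Curv2.stalkMap k X p c • q₀
      map_add' := fun c d => by rw [map_add, add_smul]
      map_smul' := fun a c => by
        show Curv2.stalkMap k X p (a * c) • q₀ = Curv2.stalkMap k X p a • (Curv2.stalkMap k X p c • q₀)
        rw [map_mul, mul_smul] }
  have hL : Function.Surjective L := fun q => by
    obtain ⟨a, ha⟩ := hq₀ q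
    obtain ⟨c, hc⟩ := CurveSection.exists_stalkMap_sub_mem k hp a
    refine ⟨c, ?_⟩
    have h0 := smul_quot_eq_zero p hp hc q₀
    rw [sub_smul, sub_eq_zero] at h0
    exact h0.symm.trans (ha.symm : a • q₀ = q)
  have h1 := LinearMap.finrank_le_finrank_of_surjective hL
  have h2 : 0 < Module.finrank k (Q.presheaf.stalk p) := Module.finrank_pos
  rw [Module.finrank_self] at h1
  exact_mod_cast le_antisymm h1 h2

variable {N : X.Modules} (hN : PicF.IsInvertible N)

include hN in
/-- The evaluation sequence of a line bundle at a point. -/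
theorem exists_eval [IsAlgClosed k] (p : X) (hp : IsClosed ({p} : Set X)) :
    ∃ (C : X.Modules) (f : (DCoh.tensorBi.obj N).obj (ptMod p hp) ⟶ N) (g : N ⟶ C) (w : f ≫ g = 0),
      (ShortComplex.mk f g w).ShortExact ∧ Coh.IsCoh C ∧ CohB1.support C ⊆ {p} ∧
        Curv2.euler k X C = 1 ∧
        ∀ a ∈ IsLocalRing.maximalIdeal (X.presheaf.stalk p), ∀ q : C.presheaf.stalk p, a • q = 0 := by
  have hr := InvEnd.isFinLocFreeOfRank_one hN
  have hNf : FlatMod.IsFinLocFree N := fun y => let ⟨W, hy, he⟩ := hr y; ⟨W, 1, hy, he⟩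
  have hQ : Coh.IsCoh (ClSub.quotMod (ptIdeal p hp)) := ParShLib.isCoh_quotMod _
  have hT := shortExact_of_iso_mid' _ _ _
    (CurveTensor.shortExact_tensor hNf _ _ _ (DivisorExt.ideal_shortExact (ptIdeal p hp))) (KFlatLib.tensorUnitIso N)
  refine ⟨_, _, _, _, hT, CurveTensor.isCoh_tensor hNf hQ,
    (CurveTensor.support_tensor_subset (E := N)).trans (support_quot_subset p hp), ?_,
    fun a ha q => smul_tensor_eq_zero p hp ha q⟩
  have h := CurveTensor.euler_tensor_torsion k hr hQ (closed_support' p hp)
  rw [euler_point p hp] at h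
  exact h

include hN in
/-- Twists by points without `H¹` give global generation. -/
theorem isGloballyGenerated_of_points [IsAlgClosed k]
    (h : ∀ (p : X) (hp : IsClosed ({p} : Set X)),
      Subsingleton (Coh.HH X ((DCoh.tensorBi.obj N).obj (ptMod p hp)) 1)) :
    Curv2.IsGloballyGenerated N := by
  classical
  have hNc : Coh.IsCoh N := CurveDeg.isCoh_of_isInvertible hN
  have key : ∀ (p : X) (hp : IsClosed ({p} : Set X)), ∃ s : Coh.structureModule X ⟶ N,
      Function.Surjective (sm s p) := fun p hp => by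
    obtain ⟨C, f, g, w, hT, hC, hsupp, he, hkill⟩ := exists_eval (k := k) hN p hp
    have hcl : ∀ x ∈ CohB1.support C, IsClosed ({x} : Set X) := fun x hx =>
      Set.mem_singleton_iff.1 (hsupp hx) ▸ hp
    rw [CurveCohLib.euler_eq_finrank_zero (k := k) hC hcl] at he
    obtain ⟨y, hy⟩ : ∃ y : Coh.HH X C 0, y ≠ 0 := by
      by_contra hcon
      haveI : Subsingleton (Coh.HH X C 0) := subsingleton_of_forall_eq 0 fun y =>
        by_contra fun hy => hcon ⟨y, hy⟩
      rw [Module.finrank_zero_of_subsingleton] at he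
      exact absurd he (by norm_num)
    haveI := h p hp
    obtain ⟨t, ht⟩ : ∃ t, mapLin k g 0 t = y :=
      (CurveCohLib.ker_deltaLin k hT 0).le (LinearMap.mem_ker.2 (Subsingleton.elim _ 0) : y ∈ _)
    refine ⟨(CurveDual.homH0 (k := k) N).symm t, by_contra fun hs => hy ?_⟩
    let s := (CurveDual.homH0 (k := k) N).symm t
    have hsg : s ≫ g = 0 := by
      refine Scheme.Modules.hom_ext _ _ fun U => ?_
      ext a
      refine TopCat.Presheaf.section_ext (show TopCat.Sheaf AddCommGrpCat.{u} X.toPresheafedSpace.carrier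
        from ⟨C.presheaf, C.isSheaf⟩) U _ _ fun x hx => ?_
      show C.presheaf.germ U x hx ((s ≫ g).app U a) = C.presheaf.germ U x hx 0
      rw [map_zero, ← DerSch.stalkFunctor_map_germ x (s ≫ g) U hx a]
      show sm (s ≫ g) x _ = 0
      by_cases hxp : x = p
      · subst hxp
        obtain ⟨e⟩ := H23.InvStalk.exists_stalk_equiv hN x
        generalize (Coh.structureModule X).presheaf.germ U x hx a = o
        have hm : e (sm s x o) ∈ IsLocalRing.maximalIdeal (X.presheaf.stalk x) := by
          by_contra hu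
          obtain ⟨u, hu'⟩ := IsLocalRing.notMem_maximalIdeal.1 hu
          refine hs fun l => ⟨(e l * (↑u⁻¹ : X.presheaf.stalk x)) • o, e.injective ?_⟩
          rw [LinearMap.map_smul, LinearEquiv.map_smul, smul_eq_mul, mul_assoc, ← hu', Units.inv_mul, mul_one]
        rw [sm_comp, show sm s x o = e (sm s x o) • e.symm 1 from e.injective (by
          rw [LinearEquiv.map_smul, LinearEquiv.apply_symm_apply, smul_eq_mul, mul_one]), LinearMap.map_smul]
        exact hkill _ hm _
      · exact eq_zero_of_notMem (fun hxs => hxp (Set.mem_singleton_iff.1 (hsupp hxs))) _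
    have hst : CurveDual.homH0 (k := k) N s = t := LinearEquiv.apply_symm_apply _ _
    rw [← ht, ← hst]
    show Canon.HHlin k g 0 (Canon.HHlin k s 0 _) = 0
    rw [CurveDual.HHlin_apply, CurveDual.HHlin_apply, ← Sheaf.H.map_comp_apply, ← Functor.map_comp,
      hsg, ← CurveDual.HHlin_apply (k := k), ← zero_smul k (0 : Coh.structureModule X ⟶ C),
      CurveDual.HHlin_smul, zero_smul]
  refine Euler.GG.isGloballyGenerated fun T g hg => ?_
  refine Scheme.Modules.hom_ext _ _ fun U => ?_
  ext a
  refine TopCat.Presheaf.section_ext (show TopCat.Sheaf AddCommGrpCat.{u} X.toPresheafedSpace.carrier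
    from ⟨T.presheaf, T.isSheaf⟩) U _ _ fun x hx => ?_
  show T.presheaf.germ U x hx (g.app U a) = T.presheaf.germ U x hx 0
  rw [map_zero, ← DerSch.stalkFunctor_map_germ x g U hx a]
  obtain ⟨p, hpx, hp⟩ := IsClosed.exists_closed_singleton (S := closure ({x} : Set X)) isClosed_closure
    ⟨x, subset_closure rfl⟩
  obtain ⟨s, hs⟩ := key p hp
  have hQ : Coh.IsCoh (cokernel s) := QCoh.isCoh_cokernel QCoh.isQCoh_structureModule hNc s
  have hxs : x ∉ CohB1.support (cokernel s) := fun hxs => by
    have := (QCoh.isClosed_support_of_isFT hQ.1 hQ.2).closure_subset_iff.2 (Set.singleton_subset_iff.2 hxs) hpx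
    exact notMem_support_cokernel s hs this
  obtain ⟨o, ho⟩ := ((ShortComplex.moduleCat_exact_iff _).1
    ((ShortComplex.exact_of_g_is_cokernel (ShortComplex.mk s (cokernel.π s) (cokernel.condition s))
      (cokernelIsCokernel s)).map (DerSch.stalkFunctor X x))) (N.presheaf.germ U x hx a) (eq_zero_of_notMem hxs _)
  show sm g x _ = 0
  rw [← ho]
  show sm g x (sm s x o) = 0
  rw [← sm_comp, hg s, sm_zero]

end Groth.Agent.CurveGor
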