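import Groth.Agent.CurveGor.Nodal
import Groth.Agent.CurveGor.Branches
import Groth.Agent.CurveGor.Points
import Groth.Agent.NodeFam.Node
import Groth.Agent.GrpSchLib.SmoothRegular

/-!
# Complementary subcurves of a nodal curve meet in reduced points
-/

set_option autoImplicit false
set_option linter.style.haveILetI false
set_option linter.unusedSectionVars false
set_option backward.isDefEq.respectTransparency false
set_option backward.isDefEq.respectTransparency.types false
set_option maxHeartbeats 1000000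
set_option synthInstance.maxHeartbeats 200000

universe u

open CategoryTheory CategoryTheory.Limits AlgebraicGeometry TopologicalSpace Opposite

attribute [local instance] HasDerivedCategory.standard

noncomputable section

namespace Groth.Agent.CurveGor

open Groth.Agent TFOneX

variable {X : Scheme.{u}}

theorem mem_vI_ideal {Y : Set X} {hY : IsClosed Y} (U : X.affineOpens) (r : Γ(X, U)) :
    r ∈ (vI Y hY).ideal U ↔ ∀ x ∈ Y, x ∈ (U : X.Opens) → x ∉ X.basicOpen r := by
  rw [Scheme.IdealSheafData.vanishingIdeal_ideal, PrimeSpectrum.mem_vanishingIdeal]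
  constructor
  · intro h x hxY hxU hb
    obtain ⟨z, rfl⟩ : x ∈ Set.range U.2.fromSpec := U.2.range_fromSpec.symm ▸ hxU
    have hz : z ∈ U.2.fromSpec ⁻¹ᵁ X.basicOpen r := hb
    rw [U.2.fromSpec_preimage_basicOpen] at hz
    exact hz (h z hxY)
  · intro h z hz
    by_contra hr
    have hz' : z ∈ U.2.fromSpec ⁻¹ᵁ X.basicOpen r := by
      rw [U.2.fromSpec_preimage_basicOpen]; exact hr
    exact h _ hz (U.2.range_fromSpec.le (Set.mem_range_self z)) hz'

theorem annihilator_vI_ideal [AlgebraicGeometry.IsReduced X] {Y Z : Set X} (hY : IsClosed Y) (hZ : IsClosed Z)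
    (hcov : ∀ x : X, x ∈ Y ∨ x ∈ Z) (hc : ∀ x ∈ Y, ∃ η ∈ Y, η ∉ Z ∧ η ⤳ x) (U : X.affineOpens) :
    Submodule.annihilator ((vI Z hZ).ideal U) = (vI Y hY).ideal U := by
  ext r
  rw [Submodule.mem_annihilator]
  constructor
  · intro h
    rw [mem_vI_ideal]
    intro x hxY hxU hb
    obtain ⟨η, hηY, hηZ, hsp⟩ := hc x hxY
    have hηU : η ∈ (U : X.Opens) := hsp.mem_open U.1.2 hxU
    obtain ⟨s, hs, hηs⟩ : ∃ s ∈ (vI Z hZ).ideal U, η ∈ X.basicOpen s := by
      by_contra hcon
      refine hηZ ?_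
      have h2 := ((vI Z hZ).coe_support_inter U).ge
        ⟨(X.mem_zeroLocus_iff _ _).2 fun s hs hb' => hcon ⟨s, hs, hb'⟩, hηU⟩
      rw [Scheme.IdealSheafData.coe_support_vanishingIdeal] at h2
      exact h2.1
    have h0 : η ∈ X.basicOpen (r * s) := by
      rw [Scheme.basicOpen_mul]
      exact ⟨hsp.mem_open (X.basicOpen r).2 hb, hηs⟩
    have hrs : r * s = 0 := h s hs
    rw [hrs, Scheme.basicOpen_zero] at h0
    exact h0
  · intro h s hs
    show r * s = 0
    refine eq_zero_of_basicOpen_eq_bot _ (Opens.ext (Set.eq_empty_iff_forall_notMem.2 fun x hx => ?_))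
    have hxU : x ∈ (U : X.Opens) := X.basicOpen_le _ hx
    rw [Scheme.basicOpen_mul] at hx
    rcases hcov x with hxY | hxZ
    · exact (mem_vI_ideal U r).1 h x hxY hxU hx.1
    · exact (mem_vI_ideal U s).1 hs x hxZ hxU hx.2

variable {k : Type u} [Field k] [IsAlgClosed k] [X.Over (Spec (CommRingCat.of k))]
  [IsProper (X ↘ Spec (CommRingCat.of k))]

/-- At a closed point a nodal curve is an ordinary double point or a domain. -/
theorem odp_or_domain (hX : Curv2.AtWorstNodal k X) (p : X) (hp : IsClosed ({p} : Set X)) :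
    @Curv2.IsOrdDoublePt k _ (X.presheaf.stalk p) _ (@Curv2.stalkAlgebra k _ X _ p) _ ∨
      IsDomain (X.presheaf.stalk p) := by
  rcases hX p hp with ⟨U, hpU, hs⟩ | hn
  · right
    haveI := hs
    haveI := GrpSchLib.isRegularLocalRing_stalk_of_smooth (U.ι ≫ (X ↘ Spec (CommRingCat.of k))) ⟨p, hpU⟩
    haveI := RegLoc6.isDomain_of_isRegularLocalRing ((U : Scheme.{u}).presheaf.stalk ⟨p, hpU⟩)
    exact (U.stalkIso ⟨p, hpU⟩).commRingCatIsoToRingEquiv.symm.toMulEquiv.isDomain _
  · left
    haveI : IsAlgClosure k k := ⟨inferInstance, inferInstance⟩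
    obtain ⟨-, z, hz, hodp⟩ := (NodeFam.isNode_iff_nodeVia k p).1 hn
    haveI : IsIso (NodeFam.extMap k k) := inferInstanceAs (IsIso (Spec.map (𝟙 (CommRingCat.of k))))
    let π := pullback.fst (X ↘ Spec (CommRingCat.of k)) (NodeFam.extMap k k)
    have h := (NodeFam.odpAt_iff_of_stalk_iso π (X ↘ Spec (CommRingCat.of k))
      (pullback.snd (X ↘ Spec (CommRingCat.of k)) (NodeFam.extMap k k)) (RingEquiv.refl k)
      pullback.condition z (ConcreteCategory.bijective_of_isIso (π.stalkMap z))).2 hodp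
    subst hz
    exact h

variable [AlgebraicGeometry.IsReduced X]

omit [AlgebraicGeometry.IsReduced X] in
theorem not_subsingleton_stalk_quot (I : X.IdealSheafData) {p : X} (hp : p ∈ (I.support : Set X)) :
    ¬ Subsingleton ((ClSub.quotMod I).presheaf.stalk p) := by
  intro h
  let one : Γ(ClSub.quotMod I, ⊤) := (1 : Γ(I.subscheme, I.subschemeι ⁻¹ᵁ ⊤))
  obtain ⟨W, hpW, i, j, hW⟩ := (ClSub.quotMod I).presheaf.germ_eq p (U := ⊤) (V := ⊤) trivial trivial one 0
    (Subsingleton.elim _ _)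
  obtain ⟨z, hz⟩ : p ∈ Set.range I.subschemeι := I.range_subschemeι.ge hp
  haveI : Nonempty ↥(I.subschemeι ⁻¹ᵁ W) := by
    refine ⟨⟨z, ?_⟩⟩
    show I.subschemeι z ∈ W
    rw [hz]
    exact hpW
  refine one_ne_zero (α := Γ(I.subscheme, I.subschemeι ⁻¹ᵁ W)) ?_
  rw [map_zero] at hW
  refine Eq.trans ?_ hW
  exact (map_one (I.subscheme.presheaf.map ((Opens.map I.subschemeι.base).map i).op).hom).symm

/-- The maximal ideal kills the intersection of complementary subcurves. -/
theorem smul_meet_eq_zero (hX : Curv2.AtWorstNodal k X) {Y : Set X} (hY : IsClosed Y) (hc : IsCompUnion Y) (p : X)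
    (hp : p ∈ Y ∩ closure Yᶜ) (hpc : IsClosed ({p} : Set X)) {a : X.presheaf.stalk p}
    (ha : a ∈ IsLocalRing.maximalIdeal (X.presheaf.stalk p))
    (q : (ClSub.quotMod (vI Y hY ⊔ cI Y)).presheaf.stalk p) : a • q = 0 := by
  haveI := CurveCohLib.isNoetherian_of_proper (k := k) (X := X)
  obtain ⟨_, ⟨U, hU, rfl⟩, hpU, -⟩ := X.isBasis_affineOpens.exists_subset_of_mem_open (Set.mem_univ p) isOpen_univ
  let A := X.presheaf.stalk p
  letI : Algebra Γ(X, U) A := TopCat.Presheaf.algebra_section_stalk X.presheaf ⟨p, hpU⟩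
  haveI : IsLocalization.AtPrime A (hU.primeIdealOf ⟨p, hpU⟩).asIdeal := hU.isLocalization_stalk ⟨p, hpU⟩
  haveI : Module.Flat Γ(X, U) A := IsLocalization.flat A (hU.primeIdealOf ⟨p, hpU⟩).asIdeal.primeCompl
  haveI : IsNoetherianRing Γ(X, U) := IsLocallyNoetherian.component_noetherian ⟨U, hU⟩
  let f := algebraMap Γ(X, U) A
  let I₀ := (vI Y hY).ideal ⟨U, hU⟩
  let J₀ := (cI Y).ideal ⟨U, hU⟩
  have hle : ∀ (Z : Set X) (hZ : IsClosed Z), p ∈ Z →
      ((vI Z hZ).ideal ⟨U, hU⟩).map f ≤ IsLocalRing.maximalIdeal A := fun Z hZ hpZ =>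
    Ideal.map_le_iff_le_comap.2 fun r hr => by
      refine (IsLocalRing.mem_maximalIdeal _).2 fun hu => (mem_vI_ideal _ r).1 hr p hpZ hpU ?_
      exact (X.mem_basicOpen _ _ hpU).2 hu
  have a1 : Submodule.annihilator J₀ = I₀ := annihilator_vI_ideal hY isClosed_closure
    (fun x => by
      by_cases h : x ∈ Y
      · exact Or.inl h
      · exact Or.inr (subset_closure h))
    (fun x hx => let ⟨η, hη, hηY, hsp⟩ := hc x hx
      ⟨η, hηY, fun h => (mem_compl_iff hY hη).1 h hηY, hsp⟩) _
  have a2 : Submodule.annihilator I₀ = J₀ := annihilator_vI_ideal isClosed_closure hY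
    (fun x => by
      by_cases h : x ∈ Y
      · exact Or.inr h
      · exact Or.inl (subset_closure h))
    (fun x hx => let ⟨η, hη, hηY, hsp⟩ := closure_compl_subset Y hY hx
      ⟨η, subset_closure hηY, hηY, hsp⟩) _
  have b1 : Submodule.annihilator (J₀.map f) = I₀.map f := by
    rw [DiffLib.annihilator_map_of_flat J₀ (IsNoetherian.noetherian J₀), a1]
  have b2 : Submodule.annihilator (I₀.map f) = J₀.map f := by
    rw [DiffLib.annihilator_map_of_flat I₀ (IsNoetherian.noetherian I₀), a2]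
  have hI := hle Y hY hp.1
  have hJ := hle (closure Yᶜ) isClosed_closure hp.2
  rcases odp_or_domain hX p hpc with hodp | hdom
  · letI := @Curv2.stalkAlgebra k _ X _ p
    have hm := sup_eq_maximalIdeal_of_odp (K := k) hodp hI hJ b1 b2
    rw [← hm, ← Ideal.map_sup] at ha
    refine Submodule.span_induction (p := fun a _ => a • q = 0) ?_ (zero_smul _ q)
      (fun x y _ _ hx hy => by rw [add_smul, hx, hy, add_zero])
      (fun c x _ hx => by rw [smul_eq_mul, mul_smul, hx, smul_zero]) ha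
    rintro _ ⟨r, hr, rfl⟩
    obtain ⟨V, hpV, s, rfl⟩ := TopCat.Presheaf.exists_germ_eq (ClSub.quotMod (vI Y hY ⊔ cI Y)).presheaf q
    have h0 : (vI Y hY ⊔ cI Y).subschemeι.app U r = 0 := by
      rw [← RingHom.mem_ker, (vI Y hY ⊔ cI Y).ker_subschemeι_app ⟨U, hU⟩, Scheme.IdealSheafData.ideal_sup]
      exact hr
    let W := U ⊓ V
    have h2 : X.presheaf.map (homOfLE (inf_le_left : W ≤ U)).op r •
        (ClSub.quotMod (vI Y hY ⊔ cI Y)).presheaf.map (homOfLE (inf_le_right : W ≤ V)).op s = 0 := by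
      show ((vI Y hY ⊔ cI Y).subschemeι.app W (X.presheaf.map (homOfLE (inf_le_left : W ≤ U)).op r) *
        (show Γ((vI Y hY ⊔ cI Y).subscheme, (vI Y hY ⊔ cI Y).subschemeι ⁻¹ᵁ W) from
          (ClSub.quotMod (vI Y hY ⊔ cI Y)).presheaf.map (homOfLE (inf_le_right : W ≤ V)).op s) :
          Γ((vI Y hY ⊔ cI Y).subscheme, (vI Y hY ⊔ cI Y).subschemeι ⁻¹ᵁ W)) = _
      rw [show (vI Y hY ⊔ cI Y).subschemeι.app W (X.presheaf.map (homOfLE (inf_le_left : W ≤ U)).op r) = 0 from by
        have := congr(($((vI Y hY ⊔ cI Y).subschemeι.naturality (homOfLE (inf_le_left : W ≤ U)).op)) r)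
        exact this.trans (by
          show (vI Y hY ⊔ cI Y).subscheme.presheaf.map _ ((vI Y hY ⊔ cI Y).subschemeι.app U r) = 0
          rw [h0, map_zero]), zero_mul]
    have hpW : p ∈ W := ⟨hpU, hpV⟩
    show (X.presheaf.germ U p hpU r : X.presheaf.stalk p) • _ = 0
    rw [← X.presheaf.germ_res_apply (homOfLE (inf_le_left : W ≤ U)) p hpW r,
      ← (ClSub.quotMod (vI Y hY ⊔ cI Y)).presheaf.germ_res_apply (homOfLE (inf_le_right : W ≤ V)) p hpW s]
    refine (QCoh.germ_smul' (ClSub.quotMod (vI Y hY ⊔ cI Y)) hpW _ _).symm.trans ?_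
    rw [h2, map_zero]
  · exfalso
    haveI := hdom
    have hprod : I₀.map f * J₀.map f = ⊥ := by
      rw [← b1]
      exact Submodule.annihilator_mul _
    have hne := (IsLocalRing.maximalIdeal.isMaximal A).ne_top
    rcases Ideal.mul_eq_bot.1 hprod with h | h
    · rw [h, Submodule.annihilator_bot] at b2
      exact hne (top_le_iff.1 (b2.le.trans hJ))
    · rw [h, Submodule.annihilator_bot] at b1
      exact hne (top_le_iff.1 (b1.le.trans hI))

theorem finrank_stalk_meet (hX : Curv2.AtWorstNodal k X) {Y : Set X} (hY : IsClosed Y) (hc : IsCompUnion Y) (p : X)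
    (hp : p ∈ Y ∩ closure Yᶜ) (hpc : IsClosed ({p} : Set X))
    [hfin : letI := CurveCohLib.stalkModuleK k (ClSub.quotMod (vI Y hY ⊔ cI Y)) p
      Module.Finite k ((ClSub.quotMod (vI Y hY ⊔ cI Y)).presheaf.stalk p)] :
    letI := CurveCohLib.stalkModuleK k (ClSub.quotMod (vI Y hY ⊔ cI Y)) p
    Module.finrank k ((ClSub.quotMod (vI Y hY ⊔ cI Y)).presheaf.stalk p) = 1 := by
  let I := vI Y hY ⊔ cI Y
  let Q := ClSub.quotMod I
  letI := CurveCohLib.stalkModuleK k Q p
  haveI := hfin
  have hps : p ∈ (I.support : Set X) := by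
    rw [Scheme.IdealSheafData.support_sup, Closeds.coe_inf, Scheme.IdealSheafData.coe_support_vanishingIdeal,
      Scheme.IdealSheafData.coe_support_vanishingIdeal]
    exact hp
  haveI : Nontrivial (Q.presheaf.stalk p) := by
    exact not_subsingleton_iff_nontrivial.1 (not_subsingleton_stalk_quot I hps)
  obtain ⟨q₀, hq₀⟩ : ∃ q₀ : Q.presheaf.stalk p, ∀ q, ∃ a : X.presheaf.stalk p, q = a • q₀ :=
    ParShLib.exists_germ_smul I p
  let L : k →ₗ[k] Q.presheaf.stalk p :=
    { toFun := fun c => Curv2.stalkMap k X p c • q₀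
      map_add' := fun c d => by rw [map_add, add_smul]
      map_smul' := fun a c => by
        show Curv2.stalkMap k X p (a * c) • q₀ = Curv2.stalkMap k X p a • (Curv2.stalkMap k X p c • q₀)
        rw [map_mul, mul_smul] }
  have hL : Function.Surjective L := fun q => by
    obtain ⟨a, ha⟩ := hq₀ q
    obtain ⟨c, hc'⟩ := CurveSection.exists_stalkMap_sub_mem k hpc a
    refine ⟨c, ?_⟩
    have h0 := smul_meet_eq_zero hX hY hc p hp hpc hc' q₀
    rw [sub_smul, sub_eq_zero] at h0
    exact h0.symm.trans (ha.symm : a • q₀ = q)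
  have h1 := LinearMap.finrank_le_finrank_of_surjective hL
  have h2 : 0 < Module.finrank k (Q.presheaf.stalk p) := Module.finrank_pos
  rw [Module.finrank_self] at h1
  exact le_antisymm h1 h2

/-- `k_Y` counts the intersection points. -/
theorem kY_eq_card (hdim : topologicalKrullDim X ≤ 1) (hX : Curv2.AtWorstNodal k X) {Y : Set X} (hY : IsClosed Y)
    (hc : IsCompUnion Y) : kY k Y hY = (Nat.card (Y ∩ closure Yᶜ : Set X) : ℤ) := by
  classical
  haveI := CurveCohLib.isNoetherian_of_proper (k := k) (X := X)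
  obtain ⟨he, hs⟩ := euler_meet (k := k) hdim hY
  have hfin : (Y ∩ closure Yᶜ).Finite := CurveCohLib.finite_of_closedPoints (hY.inter isClosed_closure)
    fun x hx => isClosed_singleton_of_meet hdim hY hx
  have hsub : CohB1.support (ClSub.quotMod (vI Y hY ⊔ cI Y)) ⊆ (hfin.toFinset : Set X) := fun x hx => by
    have h := IntCoeff.support_quotMod _ hx
    rw [Scheme.IdealSheafData.support_sup, Closeds.coe_inf, Scheme.IdealSheafData.coe_support_vanishingIdeal,
      Scheme.IdealSheafData.coe_support_vanishingIdeal] at h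
    simpa using h
  obtain ⟨h, hf⟩ := CurveCohLib.euler_eq_sum_stalks (k := k) (ParShLib.isCoh_quotMod _) hs hfin.toFinset hsub
  rw [← he, h, Nat.card_eq_card_finite_toFinset hfin, Finset.card_eq_sum_ones]
  push_cast
  refine Finset.sum_congr rfl fun x hx => ?_
  have hxm := (Set.Finite.mem_toFinset _).1 hx
  haveI := hf x hx
  rw [finrank_stalk_meet hX hY hc x hxm (isClosed_singleton_of_meet hdim hY hxm)]
  rfl

end Groth.Agent.CurveGor
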