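import Groth.Agent.CurveGor.Nodal
import Groth.Agent.CurveGor.Meet
import Groth.Agent.CurveGor.Points
import Groth.Agent.NodeFam.Node
import Groth.Agent.GrpSchLib.SmoothRegular

/-!
# Complementary subcurves of a nodal curve meet in reduced points
-/

set_option autoImplicit false
set_option linter.style.haveILetI false
set_option linter.unusedSectionVars false
set_option backward.isDefEq.respectTransparency false
set_option backward.isDefEq.respectTransparency.types false
set_option maxHeartbeats 1000000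
set_option synthInstance.maxHeartbeats 200000

universe u

open CategoryTheory CategoryTheory.Limits AlgebraicGeometry TopologicalSpace Opposite

attribute [local instance] HasDerivedCategory.standard

noncomputable section

namespace Groth.Agent.CurveGor

open Groth.Agent TFOneX

variable {X : Scheme.{u}}
variable {k : Type u} [Field k] [IsAlgClosed k] [X.Over (Spec (CommRingCat.of k))]
  [IsProper (X ↘ Spec (CommRingCat.of k))] [AlgebraicGeometry.IsReduced X]

/-- The maximal ideal kills the intersection of complementary subcurves. -/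
theorem smul_meet_eq_zero_of_odp {Y : Set X} (hY : IsClosed Y) (hc : IsCompUnion Y) (p : X)
    (hp : p ∈ Y ∩ closure Yᶜ) (hpc : IsClosed ({p} : Set X))
    (hodp : @Curv2.IsOrdDoublePt k _ (X.presheaf.stalk p) _ (@Curv2.stalkAlgebra k _ X _ p) _) {a : X.presheaf.stalk p}
    (ha : a ∈ IsLocalRing.maximalIdeal (X.presheaf.stalk p))
    (q : (ClSub.quotMod (vI Y hY ⊔ cI Y)).presheaf.stalk p) : a • q = 0 := by
  haveI := CurveCohLib.isNoetherian_of_proper (k := k) (X := X)
  obtain ⟨_, ⟨U, hU, rfl⟩, hpU, -⟩ := X.isBasis_affineOpens.exists_subset_of_mem_open (Set.mem_univ p) isOpen_univ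
  let A := X.presheaf.stalk p
  letI : Algebra Γ(X, U) A := TopCat.Presheaf.algebra_section_stalk X.presheaf ⟨p, hpU⟩
  haveI : IsLocalization.AtPrime A (hU.primeIdealOf ⟨p, hpU⟩).asIdeal := hU.isLocalization_stalk ⟨p, hpU⟩
  haveI : Module.Flat Γ(X, U) A := IsLocalization.flat A (hU.primeIdealOf ⟨p, hpU⟩).asIdeal.primeCompl
  haveI : IsNoetherianRing Γ(X, U) := IsLocallyNoetherian.component_noetherian ⟨U, hU⟩
  let f := algebraMap Γ(X, U) A
  let I₀ := (vI Y hY).ideal ⟨U, hU⟩
  let J₀ := (cI Y).ideal ⟨U, hU⟩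
  have hle : ∀ (Z : Set X) (hZ : IsClosed Z), p ∈ Z →
      ((vI Z hZ).ideal ⟨U, hU⟩).map f ≤ IsLocalRing.maximalIdeal A := fun Z hZ hpZ =>
    Ideal.map_le_iff_le_comap.2 fun r hr => by
      refine (IsLocalRing.mem_maximalIdeal _).2 fun hu => (mem_vI_ideal _ r).1 hr p hpZ hpU ?_
      exact (X.mem_basicOpen _ _ hpU).2 hu
  have a1 : Submodule.annihilator J₀ = I₀ := annihilator_vI_ideal hY isClosed_closure
    (fun x => by
      by_cases h : x ∈ Y
      · exact Or.inl h
      · exact Or.inr (subset_closure h))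
    (fun x hx => let ⟨η, hη, hηY, hsp⟩ := hc x hx
      ⟨η, hηY, fun h => (mem_compl_iff hY hη).1 h hηY, hsp⟩) _
  have a2 : Submodule.annihilator I₀ = J₀ := annihilator_vI_ideal isClosed_closure hY
    (fun x => by
      by_cases h : x ∈ Y
      · exact Or.inr h
      · exact Or.inl (subset_closure h))
    (fun x hx => let ⟨η, hη, hηY, hsp⟩ := closure_compl_subset Y hY hx
      ⟨η, subset_closure hηY, hηY, hsp⟩) _
  have b1 : Submodule.annihilator (J₀.map f) = I₀.map f := by
    rw [DiffLib.annihilator_map_of_flat J₀ (IsNoetherian.noetherian J₀), a1]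
  have b2 : Submodule.annihilator (I₀.map f) = J₀.map f := by
    rw [DiffLib.annihilator_map_of_flat I₀ (IsNoetherian.noetherian I₀), a2]
  have hI := hle Y hY hp.1
  have hJ := hle (closure Yᶜ) isClosed_closure hp.2
  letI := @Curv2.stalkAlgebra k _ X _ p
  have hm := sup_eq_maximalIdeal_of_odp (K := k) hodp hI hJ b1 b2
  rw [← hm, ← Ideal.map_sup] at ha
  refine Submodule.span_induction (p := fun a _ => a • q = 0) ?_ (zero_smul _ q)
    (fun x y _ _ hx hy => by rw [add_smul, hx, hy, add_zero])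
    (fun c x _ hx => by rw [smul_eq_mul, mul_smul, hx, smul_zero]) ha
  rintro _ ⟨r, hr, rfl⟩
  obtain ⟨V, hpV, s, rfl⟩ := TopCat.Presheaf.exists_germ_eq (ClSub.quotMod (vI Y hY ⊔ cI Y)).presheaf q
  have h0 : (vI Y hY ⊔ cI Y).subschemeι.app U r = 0 := by
    rw [← RingHom.mem_ker, (vI Y hY ⊔ cI Y).ker_subschemeι_app ⟨U, hU⟩, Scheme.IdealSheafData.ideal_sup]
    exact hr
  let W := U ⊓ V
  have h2 : X.presheaf.map (homOfLE (inf_le_left : W ≤ U)).op r •
      (ClSub.quotMod (vI Y hY ⊔ cI Y)).presheaf.map (homOfLE (inf_le_right : W ≤ V)).op s = 0 := by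
    show ((vI Y hY ⊔ cI Y).subschemeι.app W (X.presheaf.map (homOfLE (inf_le_left : W ≤ U)).op r) *
      (show Γ((vI Y hY ⊔ cI Y).subscheme, (vI Y hY ⊔ cI Y).subschemeι ⁻¹ᵁ W) from
        (ClSub.quotMod (vI Y hY ⊔ cI Y)).presheaf.map (homOfLE (inf_le_right : W ≤ V)).op s) :
        Γ((vI Y hY ⊔ cI Y).subscheme, (vI Y hY ⊔ cI Y).subschemeι ⁻¹ᵁ W)) = _
    rw [show (vI Y hY ⊔ cI Y).subschemeι.app W (X.presheaf.map (homOfLE (inf_le_left : W ≤ U)).op r) = 0 from by
      have := congr(($((vI Y hY ⊔ cI Y).subschemeι.naturality (homOfLE (inf_le_left : W ≤ U)).op)) r)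
      exact this.trans (by
        show (vI Y hY ⊔ cI Y).subscheme.presheaf.map _ ((vI Y hY ⊔ cI Y).subschemeι.app U r) = 0
        rw [h0, map_zero]), zero_mul]
  have hpW : p ∈ W := ⟨hpU, hpV⟩
  show (X.presheaf.germ U p hpU r : X.presheaf.stalk p) • _ = 0
  rw [← X.presheaf.germ_res_apply (homOfLE (inf_le_left : W ≤ U)) p hpW r,
    ← (ClSub.quotMod (vI Y hY ⊔ cI Y)).presheaf.germ_res_apply (homOfLE (inf_le_right : W ≤ V)) p hpW s]
  refine (QCoh.germ_smul' (ClSub.quotMod (vI Y hY ⊔ cI Y)) hpW _ _).symm.trans ?_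
  rw [h2, map_zero]

omit [AlgebraicGeometry.IsReduced X] in
/-- A node over an algebraically closed field is an ordinary double point. -/
theorem odp_of_isNode {p : X} (hn : Curv2.IsNode k X p) :
    @Curv2.IsOrdDoublePt k _ (X.presheaf.stalk p) _ (@Curv2.stalkAlgebra k _ X _ p) _ := by
  haveI : IsAlgClosure k k := ⟨inferInstance, inferInstance⟩
  obtain ⟨-, z, hz, hodp⟩ := (NodeFam.isNode_iff_nodeVia k p).1 hn
  haveI : IsIso (NodeFam.extMap k k) := inferInstanceAs (IsIso (Spec.map (𝟙 (CommRingCat.of k))))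
  let π := pullback.fst (X ↘ Spec (CommRingCat.of k)) (NodeFam.extMap k k)
  have h := (NodeFam.odpAt_iff_of_stalk_iso π (X ↘ Spec (CommRingCat.of k))
    (pullback.snd (X ↘ Spec (CommRingCat.of k)) (NodeFam.extMap k k)) (RingEquiv.refl k)
    pullback.condition z (ConcreteCategory.bijective_of_isIso (π.stalkMap z))).2 hodp
  subst hz
  exact h

end Groth.Agent.CurveGor
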