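import Mathlib.RingTheory.RegularLocalRing.Defs
import Mathlib.RingTheory.Ideal.AssociatedPrime.Basic
import Mathlib.RingTheory.Nakayama
import Mathlib.RingTheory.Noetherian.Basic
import Mathlib.RingTheory.Ideal.AssociatedPrime.Finiteness
import Mathlib.RingTheory.Ideal.MinimalPrime.Noetherian


/-!
# Quotients of ordinary double points with positive depth
-/

set_option autoImplicit false
set_option maxHeartbeats 1000000

universe u v

open IsLocalRing

namespace Groth.Agent.CurveGor.SubNodal

/-- A reduced Noetherian local ring which is not a field has a nonzerodivisor in its maximal ideal. -/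
theorem exists_regular_mem {R : Type u} [CommRing R] [IsLocalRing R] [IsNoetherianRing R] [IsReduced R]
    (h : maximalIdeal R ≠ ⊥) : ∃ t ∈ maximalIdeal R, ∀ b : R, t * b = 0 → b = 0 := by
  by_contra hcon
  push Not at hcon
  have hsub : (maximalIdeal R : Set R) ⊆ ⋃ p ∈ associatedPrimes R R, p := by
    rw [biUnion_associatedPrimes_eq_zero_divisors]
    intro t ht
    obtain ⟨b, hb, hb0⟩ := hcon t ht
    exact ⟨b, hb0, hb⟩
  have hfin := associatedPrimes.finite R R
  obtain ⟨P, hP, hle⟩ := (Ideal.subset_union_prime (s := hfin.toFinset) (f := id) ⊥ ⊥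
    (fun P hP _ _ => (hfin.mem_toFinset.1 hP).isPrime)).1 (by simpa using hsub)
  rw [hfin.mem_toFinset] at hP
  obtain ⟨hPp, c, hPc⟩ := isAssociatedPrime_iff.1 hP
  have hann : ∀ a ∈ maximalIdeal R, a * c = 0 := fun a ha => by
    have := hle ha
    rw [id, hPc, Submodule.mem_colon_singleton, Submodule.mem_bot, smul_eq_mul] at this
    exact this
  have hc : c ∈ maximalIdeal R := by
    by_contra hu
    obtain ⟨v, rfl⟩ := IsLocalRing.notMem_maximalIdeal.1 hu
    refine h (le_bot_iff.1 fun a ha => ?_)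
    rw [Submodule.mem_bot, ← mul_one a, ← v.mul_inv, ← mul_assoc, hann a ha, zero_mul]
  have h0 : c = 0 := IsReduced.eq_zero _ ⟨2, by rw [sq]; exact hann c hc⟩
  exact hPp.ne_top (hPc.trans (by rw [h0]; exact eq_top_iff.2 fun a _ => by simp))

variable {A : Type u} {B : Type u} [CommRing A] [CommRing B] [IsLocalRing A] [IsLocalRing B]
  [IsNoetherianRing A] [IsNoetherianRing B] [IsReduced A]

/-- A quotient of positive depth of a reduced one-dimensional ring is cut out by an annihilator. -/
theorem annihilator_annihilator_ker (hdim : ∀ P Q : Ideal A, P.IsPrime → Q.IsPrime → Q ≠ maximalIdeal A → P ≤ Q → P = Q)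
    (φ : A →+* B) (hφ : Function.Surjective φ) {t : B} (htm : t ∈ maximalIdeal B) (ht : ∀ b, t * b = 0 → b = 0) :
    Submodule.annihilator (Submodule.annihilator (RingHom.ker φ)) = RingHom.ker φ := by
  refine le_antisymm (fun r hr => ?_) fun i hi => Submodule.mem_annihilator.2 fun a ha => by
    rw [smul_eq_mul, mul_comm]
    exact Submodule.mem_annihilator.1 ha i hi
  by_contra hb
  obtain ⟨P, hP, hle⟩ := exists_le_isAssociatedPrime_of_isNoetherianRing B (φ r) hb
  obtain ⟨hPp, c, hPc⟩ := isAssociatedPrime_iff.1 hP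
  have hPm : P ≠ maximalIdeal B := fun he => by
    rw [he] at hPc
    rw [hPc, Submodule.mem_colon_singleton, Submodule.mem_bot, smul_eq_mul] at htm
    have hc := ht c htm
    exact hPp.ne_top (he.trans (hPc.trans (by rw [hc]; exact eq_top_iff.2 fun a _ => by simp)))
  let Q := P.comap φ
  haveI hQ : Q.IsPrime := hPp.comap φ
  have hQm : Q ≠ maximalIdeal A := fun he => hPm (by
    refine le_antisymm (le_maximalIdeal hPp.ne_top) fun b hb => ?_
    obtain ⟨a, rfl⟩ := hφ b
    have ha : a ∈ maximalIdeal A := fun hu => hb (hu.map φ)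
    rw [← he] at ha
    exact ha)
  -- an element outside `Q` killing the kernel
  have hmin : Q ∈ minimalPrimes A := ⟨⟨hQ, bot_le⟩, fun P' hP' h => (hdim P' Q hP'.1 hQ hQm h).ge⟩
  have hfin := minimalPrimes.finite_of_isNoetherianRing A
  obtain ⟨s, hsQ, hs⟩ : ∃ s ∉ Q, ∀ P' ∈ minimalPrimes A, P' ≠ Q → s ∈ P' := by
    classical
    by_contra hcon
    push Not at hcon
    have hle : (hfin.toFinset.erase Q).inf id ≤ Q := fun a ha => by
      by_contra haQ
      obtain ⟨P', hP', hne, haP⟩ := hcon a haQ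
      exact haP (Finset.inf_le (f := id) (Finset.mem_erase.2 ⟨hne, hfin.mem_toFinset.2 hP'⟩) ha)
    obtain ⟨P', hP', hle'⟩ := (Ideal.IsPrime.inf_le' hQ).1 hle
    obtain ⟨hne, hP'⟩ := Finset.mem_erase.1 hP'
    rw [hfin.mem_toFinset] at hP'
    exact hne (hdim P' Q hP'.1.1 hQ hQm hle')
  have hsJ : s ∈ Submodule.annihilator (RingHom.ker φ) := Submodule.mem_annihilator.2 fun i hi => by
    rw [smul_eq_mul]
    refine IsReduced.eq_zero _ (nilpotent_iff_mem_prime.2 fun T hT => ?_)
    obtain ⟨P', hP', hPT⟩ := Ideal.exists_minimalPrimes_le (J := T) (bot_le : (⊥ : Ideal A) ≤ T)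
    refine hPT ?_
    by_cases hP'Q : P' = Q
    · rw [hP'Q]
      refine Ideal.mul_mem_left _ _ (show φ i ∈ P from ?_)
      rw [RingHom.mem_ker.1 hi]
      exact P.zero_mem
    · exact Ideal.mul_mem_right _ _ (hs P' hP' hP'Q)
  refine hsQ (hle ?_)
  rw [Submodule.mem_colon_singleton, Submodule.mem_bot, smul_eq_mul, ← map_mul, ← RingHom.mem_ker, mul_comm]
  rw [RingHom.mem_ker, show r * s = 0 from Submodule.mem_annihilator.1 hr s hsJ, map_zero]

/-- Such a quotient is everything or regular, when mutual annihilators span the maximal ideal. -/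
theorem bijective_or_regular (hdim : ∀ P Q : Ideal A, P.IsPrime → Q.IsPrime → Q ≠ maximalIdeal A → P ≤ Q → P = Q)
    {x y : A} (hxy : Ideal.span {x, y} = maximalIdeal A)
    (hsup : ∀ I J : Ideal A, I ≤ maximalIdeal A → J ≤ maximalIdeal A → Submodule.annihilator J = I →
      Submodule.annihilator I = J → I ⊔ J = maximalIdeal A)
    (φ : A →+* B) (hφ : Function.Surjective φ) {t : B} (htm : t ∈ maximalIdeal B) (ht : ∀ b, t * b = 0 → b = 0) :
    Function.Bijective φ ∨ IsRegularLocalRing B := by
  by_cases hI0 : RingHom.ker φ = ⊥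
  · exact Or.inl ⟨(RingHom.injective_iff_ker_eq_bot φ).2 hI0, hφ⟩
  right
  set I := RingHom.ker φ with hI
  let J := Submodule.annihilator I
  have hJI : Submodule.annihilator J = I := annihilator_annihilator_ker hdim φ hφ htm ht
  have hIm : I ≤ maximalIdeal A := le_maximalIdeal (RingHom.ker_ne_top φ)
  have hJm : J ≤ maximalIdeal A := le_maximalIdeal fun h => hI0 <| by
    rw [← hJI, show J = ⊤ from h]
    refine eq_bot_iff.2 fun a ha => ?_
    have h1 := Submodule.mem_annihilator.1 ha 1 Submodule.mem_top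
    rw [smul_eq_mul, mul_one] at h1
    exact Submodule.mem_bot _ |>.2 h1
  have hm := hsup I J hIm hJm hJI rfl
  have hIJ : ∀ a ∈ I, a ∈ J → a = 0 := fun a ha haJ =>
    IsReduced.eq_zero _ ⟨2, by rw [sq]; exact Submodule.mem_annihilator.1 haJ a ha⟩
  -- the kernel is not contained in the square of the maximal ideal
  obtain ⟨i, hi, hi2⟩ : ∃ i ∈ I, i ∉ maximalIdeal A * maximalIdeal A := by
    by_contra hcon
    push Not at hcon
    refine hI0 (Submodule.eq_bot_of_le_smul_of_le_jacobson_bot (maximalIdeal A) I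
      (IsNoetherian.noetherian I) (fun a ha => ?_) (maximalIdeal_le_jacobson _))
    rw [smul_eq_mul]
    have h2 : maximalIdeal A * maximalIdeal A ≤ maximalIdeal A * I ⊔ J * J := by
      rw [← hm, Ideal.mul_sup, Ideal.sup_mul, Ideal.sup_mul]
      refine sup_le le_sup_left (sup_le ?_ le_sup_right)
      rw [Ideal.mul_comm]
      exact le_sup_of_le_left le_sup_right
    obtain ⟨p, hp, q, hq, hpq⟩ := Submodule.mem_sup.1 (h2 (hcon a ha))
    have hq0 : q = 0 := hIJ q (by
      rw [show q = a - p by rw [← hpq]; ring]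
      exact I.sub_mem ha ((Ideal.mul_le_right : maximalIdeal A * I ≤ I) hp)) ((Ideal.mul_le_left : J * J ≤ J) hq)
    rw [← hpq, hq0, add_zero]
    exact hp
  obtain ⟨a, c, hac⟩ := Ideal.mem_span_pair.1 (hxy ▸ hIm hi)
  have hM : (maximalIdeal A).map φ = maximalIdeal B := by
    refine le_antisymm (le_maximalIdeal fun htop => ?_) fun b hb => ?_
    · have h1 := (Ideal.eq_top_iff_one _).1 htop
      obtain ⟨a, ha, ha1⟩ := (Ideal.mem_map_iff_of_surjective φ hφ).1 h1
      have : 1 - a ∈ I := by rw [hI, RingHom.mem_ker, map_sub, map_one, ha1, sub_self]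
      exact (maximalIdeal.isMaximal A).ne_top ((Ideal.eq_top_iff_one _).2 (by
        simpa using add_mem (hIm this) ha))
    · obtain ⟨a, rfl⟩ := hφ b
      exact Ideal.mem_map_of_mem φ fun hu => hb (hu.map φ)
  have key : ∀ (x y a c : A), Ideal.span {x, y} = maximalIdeal A → a * x + c * y = i → IsUnit a →
      ∃ g : B, maximalIdeal B = Ideal.span {g} := fun x y a c hxy hac ha => by
    refine ⟨φ y, ?_⟩
    rw [← hM, ← hxy, Ideal.map_span, Set.image_pair]
    refine le_antisymm (Ideal.span_le.2 ?_) (Ideal.span_mono (by simp))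
    rintro _ (rfl | rfl)
    · obtain ⟨v, rfl⟩ := ha
      have h0 : φ i = 0 := hi
      rw [← hac, map_add, map_mul, map_mul] at h0
      refine Ideal.mem_span_singleton'.2 ⟨-φ (↑v⁻¹ * c), ?_⟩
      have h1 : φ ↑v⁻¹ * φ (v : A) = 1 := by rw [← map_mul, v.inv_mul, map_one]
      rw [map_mul]
      linear_combination (-(φ ↑v⁻¹)) * h0 + φ x * h1
    · exact Ideal.mem_span_singleton_self _
  obtain ⟨g, hg⟩ : ∃ g : B, maximalIdeal B = Ideal.span {g} := by
    by_cases ha : IsUnit a
    · exact key x y a c hxy hac ha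
    by_cases hc : IsUnit c
    · exact key y x c a (by rw [Set.pair_comm, hxy]) (by rw [← hac, add_comm]) hc
    refine absurd ?_ hi2
    rw [← hac]
    exact add_mem (Ideal.mul_mem_mul ha (hxy ▸ Ideal.subset_span (by simp)))
      (Ideal.mul_mem_mul hc (hxy ▸ Ideal.subset_span (by simp)))
  refine IsRegularLocalRing.of_spanFinrank_maximalIdeal_le _ ?_
  have h1 : (maximalIdeal B).spanFinrank ≤ 1 := by
    rw [hg]
    exact (Submodule.spanFinrank_span_le_ncard_of_finite (Set.finite_singleton g)).trans (Set.ncard_singleton g).le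
  refine le_trans (show ((maximalIdeal B).spanFinrank : WithBot ℕ∞) ≤ 1 by exact_mod_cast h1) (le_of_not_gt fun hlt => ?_)
  have h0 : ringKrullDim B ≤ 0 := by
    rcases hd : ringKrullDim B with _ | n
    · exact bot_le
    · rw [hd] at hlt
      have hn : n < 1 := WithBot.coe_lt_coe.1 hlt
      exact WithBot.coe_le_coe.2 (ENat.lt_one_iff_eq_zero.1 hn).le
  haveI : Ring.KrullDimLE 0 B := Ring.krullDimLE_iff.2 h0
  have hnil : IsNilpotent t := nilpotent_iff_mem_prime.2 fun T hT => by
    rw [eq_maximalIdeal (hT.isMaximal')]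
    exact htm
  obtain ⟨n, hn⟩ := hnil
  have : ∀ m : ℕ, t ^ m = 0 → (1 : B) = 0 := fun m => by
    induction m with
    | zero => intro h; rwa [pow_zero] at h
    | succ m ih => intro h; exact ih (ht _ (by rw [← pow_succ']; exact h))
  exact one_ne_zero (this n hn)

end Groth.Agent.CurveGor.SubNodal
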