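import Groth.Agent.CurveGor.DeltaAlg
import Groth.Agent.CurveGor.SubNodalAlg
import Groth.Agent.CurveGor.Nodal
import Groth.Agent.CurveGor.MeetNode
import Groth.Agent.GenusLe.Finite
import Groth.Agent.GenusLe.Birat
import Groth.Agent.TFOneX.Basic
import Groth.Agent.CurveVA.Sky
import Groth.Agent.PnCoh.PushNat
import Groth.Agent.CurveDual.Depth
import Mathlib.Algebra.Module.LocalizedModule.IsLocalization

/-!
# The Euler characteristic of the normalization of a curve
-/

set_option autoImplicit false
set_option linter.style.haveILetI false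
set_option linter.unusedSectionVars false
set_option backward.isDefEq.respectTransparency false
set_option backward.isDefEq.respectTransparency.types false
set_option maxHeartbeats 1000000
set_option synthInstance.maxHeartbeats 200000

universe u

open CategoryTheory CategoryTheory.Limits AlgebraicGeometry TopologicalSpace Opposite IsLocalRing

noncomputable section

namespace Groth.Agent.CurveGor.Delta

open Groth.Agent

variable {X Y : Scheme.{u}} (π : Y ⟶ X)

theorem specializes_of_prime_le {V : X.Opens} (hV : IsAffineOpen V) {a b : X} (ha : a ∈ V) (hb : b ∈ V)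
    (h : (hV.primeIdealOf ⟨a, ha⟩).asIdeal ≤ (hV.primeIdealOf ⟨b, hb⟩).asIdeal) : a ⤳ b := by
  have h1 := ((PrimeSpectrum.le_iff_specializes _ _).1 h).map hV.fromSpec.continuous
  rwa [hV.fromSpec_primeIdealOf, hV.fromSpec_primeIdealOf] at h1

theorem prime_le_of_specializes {V : X.Opens} (hV : IsAffineOpen V) {a b : X} (ha : a ∈ V) (hb : b ∈ V)
    (h : a ⤳ b) : (hV.primeIdealOf ⟨a, ha⟩).asIdeal ≤ (hV.primeIdealOf ⟨b, hb⟩).asIdeal := by
  refine (PrimeSpectrum.le_iff_specializes _ _).2 (hV.fromSpec.isOpenEmbedding.isEmbedding.isInducing.specializes_iff.1 ?_)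
  show hV.fromSpec _ ⤳ hV.fromSpec _
  rwa [hV.fromSpec_primeIdealOf, hV.fromSpec_primeIdealOf]

theorem exists_point_of_prime {V : X.Opens} (hV : IsAffineOpen V) (P : Ideal Γ(X, V)) [hP : P.IsPrime] :
    ∃ (a : X) (ha : a ∈ V), (hV.primeIdealOf ⟨a, ha⟩).asIdeal = P := by
  have ha : hV.fromSpec ⟨P, hP⟩ ∈ V := by
    have h : hV.fromSpec ⟨P, hP⟩ ∈ Set.range hV.fromSpec := ⟨_, rfl⟩
    rwa [hV.range_fromSpec] at h
  refine ⟨_, ha, congrArg PrimeSpectrum.asIdeal (hV.fromSpec.isOpenEmbedding.injective (a₂ := ⟨P, hP⟩) ?_)⟩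
  exact hV.fromSpec_primeIdealOf ⟨_, ha⟩

/-- Over an open where the map is an isomorphism, the generic points correspond. -/
theorem generic_of_iso {U : X.Opens} [IsIso (π ∣_ U)] {y : Y} (hy : π y ∈ U) (hgen : ∀ y', y' ⤳ y → y' = y)
    {a : X} (h : a ⤳ π y) : a = π y := by
  have ha : a ∈ U := h.mem_open U.2 hy
  let e := Scheme.Hom.homeomorph (π ∣_ U)
  obtain ⟨⟨y', hy'⟩, he⟩ := e.surjective ⟨a, ha⟩
  have hpy : π y' = a := (morphismRestrict_base_coe π U ⟨y', hy'⟩).symm.trans (congrArg Subtype.val he)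
  have hs : (⟨a, ha⟩ : U) ⤳ ⟨π y, hy⟩ := (subtype_specializes_iff _ _).2 h
  have he2 : e ⟨y, hy⟩ = ⟨π y, hy⟩ := Subtype.ext (morphismRestrict_base_coe π U ⟨y, hy⟩)
  rw [← he, ← he2] at hs
  have h2 : (⟨y', hy'⟩ : (π ⁻¹ᵁ U : Y.Opens)) ⤳ ⟨y, hy⟩ := e.isInducing.specializes_iff.1 hs
  rw [← hpy, hgen y' ((subtype_specializes_iff _ _).1 h2)]

variable [IsFinite π] [AlgebraicGeometry.IsReduced X] [IsNoetherian X]

/-- The stalk of the cokernel of a finite birational map from a normal scheme. -/
theorem length_coker_eq (hY : Pi1.IsNormalScheme Y) {U : X.Opens} (hU : Dense (U : Set X))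
    (hU' : Dense ((π ⁻¹ᵁ U : Y.Opens) : Set Y)) [IsIso (π ∣_ U)] (x : X) :
    Function.Injective (TFOneX.sm (ClSub.unitToPush π) x) ∧
    Module.length (X.presheaf.stalk x) ((cokernel (ClSub.unitToPush π)).presheaf.stalk x) =
        Curv2.deltaInv (X.presheaf.stalk x) ∧
    Module.Finite (X.presheaf.stalk x) (integralClosure (X.presheaf.stalk x) (FractionRing (X.presheaf.stalk x))) := by
  classical
  haveI : IsNoetherian Y :=
    { toIsLocallyNoetherian := LocallyOfFiniteType.isLocallyNoetherian π
      toCompactSpace := QuasiCompact.compactSpace_of_compactSpace π }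
  haveI : ∀ y : Y, _root_.IsReduced (Y.presheaf.stalk y) := fun y => by
    haveI := (hY y).1; infer_instance
  haveI : AlgebraicGeometry.IsReduced Y := isReduced_of_isReduced_stalk Y
  obtain ⟨_, ⟨V, hV, rfl⟩, hxV, -⟩ :=
    X.isBasis_affineOpens.exists_subset_of_mem_open (Set.mem_univ x) isOpen_univ
  let W : Y.Opens := π ⁻¹ᵁ V
  have hW : IsAffineOpen W := hV.preimage π
  let R := Γ(X, V)
  let S := Γ(Y, W)
  let A := X.presheaf.stalk x
  let p := (hV.primeIdealOf ⟨x, hxV⟩).asIdeal
  letI aA : Algebra R A := QCoh.stalkAlg (X := X) hxV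
  haveI : IsLocalization.AtPrime A p := QCoh.isLocalization_stalk' hV hxV
  letI aS : Algebra R S := (π.app V).hom.toAlgebra
  haveI : Module.Finite R S := RingHom.finite_algebraMap.1 (IsFinite.finite_app (f := π) V hV)
  let Mp := Algebra.algebraMapSubmonoid S p.primeCompl
  let N := Localization Mp
  letI aAN : Algebra A N := (IsLocalization.map (M := p.primeCompl) (T := Mp) N (algebraMap R S)
    (Submonoid.le_comap_map p.primeCompl) : A →+* N).toAlgebra
  haveI : IsScalarTower R A N := IsScalarTower.of_algebraMap_eq fun r => by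
    show _ = IsLocalization.map (M := p.primeCompl) (T := Mp) N (algebraMap R S) _ (algebraMap R A r)
    rw [IsLocalization.map_eq, ← IsScalarTower.algebraMap_apply]
  haveI : _root_.IsReduced A := inferInstance
  haveI : _root_.IsReduced S := inferInstance
  haveI : _root_.IsReduced N := isReduced_localizationPreserves Mp N inferInstance
  haveI : Module.Finite A N := Module.Finite.of_isLocalizedModule (S := p.primeCompl) (Rₚ := A)
    (f := (IsScalarTower.toAlgHom R S N).toLinearMap)
  -- the generic opens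
  have key : ∀ P : Ideal A, P ∈ minimalPrimes A → ∃ f : R, algebraMap R A f ∉ P ∧
      (∀ b : S, ∃ (n : ℕ) (r : R), algebraMap R S r = algebraMap R S f ^ n * b) ∧
      (∀ r : R, algebraMap R S r = 0 → ∃ n : ℕ, f ^ n * r = 0) := fun P hP => by
    haveI := hP.1.1
    haveI : (P.comap (algebraMap R A)).IsPrime := hP.1.1.comap _
    obtain ⟨a, haV, ha⟩ := exists_point_of_prime hV (P.comap (algebraMap R A))
    have haU : a ∈ U := by
      obtain ⟨η, hηU, hsp⟩ := GenusLe.exists_generization_mem_dense hU a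
      have hηV : η ∈ V := hsp.mem_open V.2 haV
      have hle : (hV.primeIdealOf ⟨η, hηV⟩).asIdeal ≤ P.comap (algebraMap R A) :=
        ha ▸ prime_le_of_specializes hV hηV haV hsp
      have hdisj : Disjoint (p.primeCompl : Set R) ↑(hV.primeIdealOf ⟨η, hηV⟩).asIdeal := by
        refine Set.disjoint_left.2 fun r hr hr' => ?_
        exact hP.1.1.ne_top (Ideal.eq_top_of_isUnit_mem _ (hle hr') (IsLocalization.map_units A ⟨r, hr⟩))
      have hpr := IsLocalization.isPrime_of_isPrime_disjoint p.primeCompl A _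
        (hV.primeIdealOf ⟨η, hηV⟩).isPrime hdisj
      have hle2 : (hV.primeIdealOf ⟨η, hηV⟩).asIdeal.map (algebraMap R A) ≤ P :=
        Ideal.map_le_iff_le_comap.2 hle
      have heq := hP.2 ⟨hpr, bot_le⟩ hle2
      have he : P.comap (algebraMap R A) ≤ (hV.primeIdealOf ⟨η, hηV⟩).asIdeal := by
        have hcm := IsLocalization.comap_map_of_isPrime_disjoint p.primeCompl A
          (hV.primeIdealOf ⟨η, hηV⟩).isPrime hdisj
        exact (Ideal.comap_mono heq).trans hcm.le
      exact (specializes_of_prime_le hV haV hηV (ha ▸ he)).mem_open U.2 hηU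
    obtain ⟨f, hfU, haf⟩ := hV.exists_basicOpen_le (V := U) ⟨a, haU⟩ haV
    have hfP : algebraMap R A f ∉ P := fun h => by
      have := (QCoh.mem_basicOpen_iff_notMem hV haV f).1 haf
      exact this (ha.symm ▸ h)
    haveI := hV.isLocalization_basicOpen f
    haveI : IsLocalization.Away (π.app V f) Γ(Y, Y.basicOpen (π.app V f)) := hW.isLocalization_basicOpen _
    let O := X.basicOpen f
    have hbij : Function.Bijective (π.app O) := by
      have hO : U.ι ''ᵁ (U.ι ⁻¹ᵁ O) = O := by
        rw [U.ι.image_preimage_eq_opensRange_inf, Scheme.Opens.opensRange_ι, inf_eq_right.2 hfU]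
      have h1 : IsIso ((π ∣_ U).app (U.ι ⁻¹ᵁ O)) := inferInstance
      rw [morphismRestrict_app] at h1
      haveI : IsIso (π.app (U.ι ''ᵁ (U.ι ⁻¹ᵁ O))) := IsIso.of_isIso_comp_right _
        (Y.presheaf.map (eqToHom (image_morphismRestrict_preimage π U (U.ι ⁻¹ᵁ O))).op)
      have h2 := ConcreteCategory.bijective_of_isIso (π.app (U.ι ''ᵁ (U.ι ⁻¹ᵁ O)))
      rw [hO] at h2
      exact h2
    let G : Γ(X, O) →+* Γ(Y, Y.basicOpen (π.app V f)) :=
      (Y.presheaf.map (eqToHom (Scheme.preimage_basicOpen π f).symm).op).hom.comp (π.app O).hom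
    have hG : Function.Bijective G :=
      (ConcreteCategory.bijective_of_isIso (Y.presheaf.map (eqToHom (Scheme.preimage_basicOpen π f).symm).op)).comp hbij
    have hnat : ∀ r : R, G (algebraMap R Γ(X, O) r) =
        algebraMap S Γ(Y, Y.basicOpen (π.app V f)) (algebraMap R S r) := fun r => by
      show Y.presheaf.map _ (π.app O (X.presheaf.map (homOfLE (X.basicOpen_le f)).op r)) =
        Y.presheaf.map _ (π.app V r)
      have hn := congr($(π.naturality (homOfLE (X.basicOpen_le f)).op) r)
      simp only [CommRingCat.comp_apply] at hn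
      erw [hn]
      rw [← CommRingCat.comp_apply, ← Functor.map_comp]
      rfl
    refine ⟨f, hfP, fun b => ?_, fun r hr => ?_⟩
    · obtain ⟨z, hz⟩ := hG.2 (algebraMap S Γ(Y, Y.basicOpen (π.app V f)) b)
      obtain ⟨⟨r, ⟨_, n, rfl⟩⟩, hzr⟩ := IsLocalization.surj (Submonoid.powers f) z
      have h1 : algebraMap S Γ(Y, Y.basicOpen (π.app V f)) (algebraMap R S r) =
          algebraMap S Γ(Y, Y.basicOpen (π.app V f)) (b * algebraMap R S (f ^ n)) := by
        rw [← hnat, ← hzr, map_mul, hz, hnat, ← map_mul]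
      obtain ⟨⟨_, m, rfl⟩, hm⟩ := (IsLocalization.eq_iff_exists (Submonoid.powers (π.app V f)) _).1 h1
      refine ⟨m + n, f ^ m * r, ?_⟩
      rw [map_mul, map_pow]
      refine hm.trans ?_
      rw [map_pow, pow_add]
      show (algebraMap R S f) ^ m * (b * algebraMap R S f ^ n) = _
      ring
    · have h1 : algebraMap R Γ(X, O) r = algebraMap R Γ(X, O) 0 := hG.1 (by rw [hnat, hr, map_zero, map_zero, map_zero])
      obtain ⟨⟨_, n, rfl⟩, hn⟩ := (IsLocalization.eq_iff_exists (Submonoid.powers f) _).1 h1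
      exact ⟨n, by rw [show f ^ n * r = f ^ n * 0 from hn, mul_zero]⟩
  -- injectivity
  have hinj : Function.Injective (algebraMap A N) := by
    refine (injective_iff_map_eq_zero _).2 fun a ha => IsReduced.eq_zero _ (nilpotent_iff_mem_prime.2 fun Q hQ => ?_)
    obtain ⟨P, hP, hPQ⟩ := Ideal.exists_minimalPrimes_le (J := Q) (bot_le : (⊥ : Ideal A) ≤ Q)
    refine hPQ ?_
    obtain ⟨f, hfP, -, hker⟩ := key P hP
    obtain ⟨⟨r, u⟩, hru⟩ := IsLocalization.surj p.primeCompl a
    have h1 : algebraMap R N r = 0 := by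
      rw [IsScalarTower.algebraMap_apply R A N, ← hru, map_mul, ha, zero_mul]
    rw [IsScalarTower.algebraMap_apply R S N] at h1
    obtain ⟨⟨_, s, hs, rfl⟩, hsr⟩ := (IsLocalization.map_eq_zero_iff Mp N _).1 h1
    obtain ⟨n, hn⟩ := hker (s * r) (by rw [map_mul]; exact hsr)
    have h2 : algebraMap R A (f ^ n * (s * r)) ∈ P := by rw [hn, map_zero]; exact P.zero_mem
    rw [map_mul, map_mul, map_pow, ← hru] at h2
    rcases hP.1.1.mem_or_mem h2 with h3 | h3
    · exact absurd (hP.1.1.mem_of_pow_mem n h3) hfP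
    rcases hP.1.1.mem_or_mem h3 with h4 | h4
    · exact absurd (Ideal.eq_top_of_isUnit_mem _ h4 (IsLocalization.map_units A ⟨s, hs⟩)) hP.1.1.ne_top
    rcases hP.1.1.mem_or_mem h4 with h5 | h5
    · exact h5
    · exact absurd (Ideal.eq_top_of_isUnit_mem _ h5 (IsLocalization.map_units A u)) hP.1.1.ne_top
  -- denominators
  have hloc : ∀ P : Ideal A, P ∈ minimalPrimes A → ∀ z : N, ∃ c ∉ P, ∃ a : A, algebraMap A N a = algebraMap A N c * z :=
    fun P hP z => by
    obtain ⟨f, hfP, hsec, -⟩ := key P hP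
    obtain ⟨⟨b, ⟨_, u, hu, rfl⟩⟩, hzb⟩ := IsLocalization.surj Mp z
    obtain ⟨n, r, hr⟩ := hsec b
    refine ⟨algebraMap R A (f ^ n * u), fun h => ?_, algebraMap R A r, ?_⟩
    · rw [map_mul, map_pow] at h
      rcases hP.1.1.mem_or_mem h with h3 | h3
      · exact hfP (hP.1.1.mem_of_pow_mem n h3)
      · exact hP.1.1.ne_top (Ideal.eq_top_of_isUnit_mem _ h3 (IsLocalization.map_units A ⟨u, hu⟩))
    · rw [← IsScalarTower.algebraMap_apply, ← IsScalarTower.algebraMap_apply, IsScalarTower.algebraMap_apply R S N,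
        IsScalarTower.algebraMap_apply R S N (f ^ n * u), hr, map_mul, map_mul, map_mul, map_pow, map_pow, map_pow, ← hzb]
      ring
  obtain ⟨gens, hgens⟩ := Module.Finite.fg_top (R := A) (M := N)
  let Id : Ideal A := ⨅ z ∈ gens, Submodule.colon (LinearMap.range (Algebra.linearMap A N)) {z}
  obtain ⟨t, htI, ht⟩ : ∃ t ∈ Id, t ∈ nonZeroDivisors A := by
    by_contra hcon
    push Not at hcon
    have hfin := minimalPrimes.finite_of_isNoetherianRing A
    have hsub : (Id : Set A) ⊆ ⋃ P ∈ hfin.toFinset, (P : Set A) := fun c hc => by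
      by_contra hc'
      simp only [Set.Finite.mem_toFinset, Set.mem_iUnion, not_exists] at hc'
      refine hcon c hc (mem_nonZeroDivisors_iff_left.2 fun b hb => IsReduced.eq_zero _
        (nilpotent_iff_mem_prime.2 fun Q hQ => ?_))
      obtain ⟨P, hP, hPQ⟩ := Ideal.exists_minimalPrimes_le (J := Q) (bot_le : (⊥ : Ideal A) ≤ Q)
      exact hPQ ((hP.1.1.mem_or_mem (show c * b ∈ P by rw [hb]; exact P.zero_mem)).resolve_left (hc' P hP))
    obtain ⟨P, hP, hle⟩ := (Ideal.subset_union_prime (s := hfin.toFinset) (f := id) ⊥ ⊥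
      (fun P hP _ _ => (hfin.mem_toFinset.1 hP).1.1)).1 (by simpa using hsub)
    rw [hfin.mem_toFinset] at hP
    haveI := hP.1.1
    choose c hcP a hca using hloc P hP
    have hprod : (∏ z ∈ gens, c z) ∈ Id := by
      refine Submodule.mem_iInf _ |>.2 fun z => Submodule.mem_iInf _ |>.2 fun hz => ?_
      refine Submodule.mem_colon_singleton.2 ⟨(∏ w ∈ gens.erase z, c w) * a z, ?_⟩
      show algebraMap A N _ = _
      rw [map_mul, hca, Algebra.smul_def, ← Finset.prod_erase_mul _ _ hz, map_mul, mul_assoc]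
    have := hle hprod
    rw [id, hP.1.1.prod_mem_iff] at this
    obtain ⟨z, -, hz⟩ := this
    exact hcP z hz
  have hden : ∀ z : N, ∃ a : A, algebraMap A N a = algebraMap A N t * z := fun z => by
    have hz : z ∈ Submodule.span A (gens : Set N) := hgens ▸ Submodule.mem_top
    induction hz using Submodule.span_induction with
    | mem z hz =>
      obtain ⟨a, ha⟩ := Submodule.mem_colon_singleton.1
        ((Submodule.mem_iInf _).1 ((Submodule.mem_iInf _).1 htI z) hz)
      exact ⟨a, by rw [← Algebra.smul_def]; exact ha⟩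
    | zero => exact ⟨0, by simp⟩
    | add y z _ _ hy hz =>
      obtain ⟨a, ha⟩ := hy
      obtain ⟨b, hb⟩ := hz
      exact ⟨a + b, by rw [map_add, ha, hb, mul_add]⟩
    | smul c z _ hz =>
      obtain ⟨a, ha⟩ := hz
      exact ⟨c * a, by rw [map_mul, ha, Algebra.smul_def]; ring⟩
  -- the primes of the points of `N`
  have hpoint : ∀ Q : Ideal N, Q.IsPrime → ∃ (y : Y) (hy : y ∈ W),
      (hW.primeIdealOf ⟨y, hy⟩).asIdeal = Q.comap (algebraMap S N) := fun Q hQ =>
    haveI := hQ.comap (algebraMap S N)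
    exists_point_of_prime hW _
  have htN : ∀ z : N, algebraMap A N t * z = 0 → z = 0 := fun z hz => by
    refine IsReduced.eq_zero _ (nilpotent_iff_mem_prime.2 fun Q' hQ' => ?_)
    obtain ⟨Q, hQ, hQQ'⟩ := Ideal.exists_minimalPrimes_le (J := Q') (bot_le : (⊥ : Ideal N) ≤ Q')
    haveI := hQ.1.1
    refine hQQ' ((hQ.1.1.mem_or_mem (show algebraMap A N t * z ∈ Q by rw [hz]; exact Q.zero_mem)).resolve_left
      fun htQ => ?_)
    obtain ⟨y, hyW, hy⟩ := hpoint Q hQ.1.1
    have hgen : ∀ y', y' ⤳ y → y' = y := fun y' hs => by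
      have hy'W : y' ∈ W := hs.mem_open W.2 hyW
      have hle := prime_le_of_specializes hW hy'W hyW hs
      rw [hy] at hle
      have hd : Disjoint (Mp : Set S) ↑(hW.primeIdealOf ⟨y', hy'W⟩).asIdeal :=
        Set.disjoint_left.2 fun r hr hr' => hQ.1.1.ne_top
          (Ideal.eq_top_of_isUnit_mem _ (hle hr') (IsLocalization.map_units N ⟨r, hr⟩))
      have heq := hQ.2 ⟨IsLocalization.isPrime_of_isPrime_disjoint Mp N _ (hW.primeIdealOf ⟨y', hy'W⟩).isPrime hd,
        bot_le⟩ (Ideal.map_le_iff_le_comap.2 hle)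
      have he := (Ideal.comap_mono (f := algebraMap S N) heq).trans
        (IsLocalization.comap_map_of_isPrime_disjoint Mp N (hW.primeIdealOf ⟨y', hy'W⟩).isPrime hd).le
      rw [← hy] at he
      exact hs.antisymm (specializes_of_prime_le hW hyW hy'W he) |>.eq
    obtain ⟨η, hηU, hηy⟩ := GenusLe.exists_generization_mem_dense hU' y
    have hyU : π y ∈ U := hgen η hηy ▸ hηU
    -- the contraction is a minimal prime
    let P := Q.comap (algebraMap A N)
    haveI hP : P.IsPrime := hQ.1.1.comap _
    obtain ⟨P₀, hP₀, hP₀P⟩ := Ideal.exists_minimalPrimes_le (J := P) (bot_le : (⊥ : Ideal A) ≤ P)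
    haveI := hP₀.1.1
    haveI : (P₀.comap (algebraMap R A)).IsPrime := hP₀.1.1.comap _
    obtain ⟨a, haV, ha⟩ := exists_point_of_prime hV (P₀.comap (algebraMap R A))
    have hPy : (hV.primeIdealOf ⟨π y, hyW⟩).asIdeal = P.comap (algebraMap R A) := by
      have h := IsAffineOpen.comap_primeIdealOf_appLE (f := π) (x := y) V hV W hW le_rfl hyW
      rw [← Scheme.Hom.app_eq_appLE] at h
      refine (congrArg PrimeSpectrum.asIdeal h).symm.trans ?_
      show (hW.primeIdealOf ⟨y, hyW⟩).asIdeal.comap (algebraMap R S) = _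
      rw [hy, Ideal.comap_comap, show P = Q.comap (algebraMap A N) from rfl, Ideal.comap_comap,
        ← IsScalarTower.algebraMap_eq, ← IsScalarTower.algebraMap_eq]
    have hay : a ⤳ π y := specializes_of_prime_le hV haV hyW (by
      rw [ha, hPy]; exact Ideal.comap_mono hP₀P)
    have haeq := generic_of_iso π hyU hgen hay
    subst haeq
    rw [ha] at hPy
    have hPP : P₀ = P := by
      have h := congrArg (Ideal.map (algebraMap R A)) hPy
      rwa [IsLocalization.map_comap p.primeCompl A, IsLocalization.map_comap p.primeCompl A] at h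
    obtain ⟨s, hsP, hs⟩ : ∃ s ∉ P, s * t = 0 := by
      by_contra hcon
      push Not at hcon
      haveI : Nontrivial A := inferInstance
      obtain ⟨s, hs, hsP⟩ : ∃ s, s * t = 0 ∧ s ∉ P := by
        have hfin := minimalPrimes.finite_of_isNoetherianRing A
        by_contra hc
        push Not at hc
        have hle : (hfin.toFinset.erase P).inf id ≤ P := fun s hs => by
          by_contra hsP
          refine hsP (hc s (IsReduced.eq_zero _ (nilpotent_iff_mem_prime.2 fun T hT => ?_)))
          obtain ⟨P', hP', hP'T⟩ := Ideal.exists_minimalPrimes_le (J := T) (bot_le : (⊥ : Ideal A) ≤ T)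
          refine hP'T ?_
          by_cases hPe : P' = P
          · exact hPe ▸ P.mul_mem_left _ htQ
          · exact Ideal.mul_mem_right _ _
              (Finset.inf_le (f := id) (Finset.mem_erase.2 ⟨hPe, hfin.mem_toFinset.2 hP'⟩) hs)
        obtain ⟨P', hP', hle'⟩ := (Ideal.IsPrime.inf_le' hP).1 hle
        obtain ⟨hne, hP'⟩ := Finset.mem_erase.1 hP'
        rw [hfin.mem_toFinset] at hP'
        exact hne (le_antisymm hle' ((hPP ▸ hP₀).2 hP'.1 hle'))
      exact hcon s hsP hs
    exact hsP (by rw [mem_nonZeroDivisors_iff_left.1 ht s (by rw [mul_comm, hs])]; exact P.zero_mem)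
  -- normality
  have hnorm : ∀ n : Ideal N, ∀ hn : n.IsMaximal,
      haveI := hn; IsDomain (Localization.AtPrime n) ∧ IsIntegrallyClosed (Localization.AtPrime n) := fun n hn => by
    haveI := hn
    obtain ⟨y, hyW, hy⟩ := hpoint n hn.isPrime
    letI := QCoh.stalkAlg (X := Y) hyW
    haveI := QCoh.isLocalization_stalk' hW hyW
    haveI h1 : IsLocalization.AtPrime (Localization.AtPrime n) (n.comap (algebraMap S N)) :=
      IsLocalization.isLocalization_isLocalization_atPrime_isLocalization Mp (Localization.AtPrime n) n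
    haveI h2 : IsLocalization.AtPrime (Y.presheaf.stalk y) (n.comap (algebraMap S N)) := by
      unfold IsLocalization.AtPrime at *
      rw [show (n.comap (algebraMap S N)).primeCompl = (hW.primeIdealOf ⟨y, hyW⟩).asIdeal.primeCompl from
        SetLike.ext fun r => by simp [hy]]
      infer_instance
    let e := (IsLocalization.algEquiv (n.comap (algebraMap S N)).primeCompl (Y.presheaf.stalk y)
      (Localization.AtPrime n)).toRingEquiv
    obtain ⟨hd, hic⟩ := hY y
    exact ⟨e.symm.toMulEquiv.isDomain _, IsIntegrallyClosed.of_equiv e⟩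
  obtain ⟨hlen, hfinN⟩ := deltaInv_eq_length N hinj ht htN hden hnorm
  -- the stalk of the pushforward
  let M := (Scheme.Modules.pushforward π).obj (Coh.structureModule Y)
  let T := M.presheaf.stalk x
  have hM : Coh.IsQCoh M := (QCoh.isCoh_pushforward_finite π QCoh.isCoh_structureModule').1
  letI : Module R T := QCoh.stalkModule M hxV
  haveI : IsScalarTower R A T := QCoh.isScalarTower_stalk M hxV
  let g : S →ₗ[R] T :=
    { toFun := fun b => M.presheaf.germ V x hxV b
      map_add' := fun a b => map_add (M.presheaf.germ V x hxV).hom a b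
      map_smul' := fun r b => (QCoh.germ_smul' M hxV r b) }
  haveI : IsLocalizedModule p.primeCompl g :=
    { map_units := (QCoh.isLocalizedModule_germLin hM hV hxV).map_units
      surj := (QCoh.isLocalizedModule_germLin hM hV hxV).surj
      exists_of_eq := (QCoh.isLocalizedModule_germLin hM hV hxV).exists_of_eq }
  let g' : S →ₗ[R] N := (IsScalarTower.toAlgHom R S N).toLinearMap
  let ε : N ≃ₗ[A] T := (IsLocalizedModule.linearEquiv p.primeCompl g' g).extendScalarsOfIsLocalization p.primeCompl A
  let o : (Coh.structureModule X).presheaf.stalk x :=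
    (Coh.structureModule X).presheaf.germ V x hxV (1 : Γ(X, V))
  have hε : ε 1 = TFOneX.sm (ClSub.unitToPush π) x o := by
    have h1 : ε (g' 1) = g 1 := IsLocalizedModule.linearEquiv_apply p.primeCompl g' g 1
    have h2 : g' 1 = (1 : N) := map_one (algebraMap S N)
    rw [← h2, h1]
    refine Eq.trans ?_ (DerSch.stalkFunctor_map_germ x (ClSub.unitToPush π) V hxV (1 : Γ(X, V))).symm
    exact congrArg (M.presheaf.germ V x hxV) (map_one (π.app V).hom).symm
  have ho : ∀ w : (Coh.structureModule X).presheaf.stalk x, ∃ a : A, a • o = w := fun w => by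
    obtain ⟨V', hxV', b, rfl⟩ := (Coh.structureModule X).presheaf.exists_germ_eq w
    refine ⟨X.presheaf.germ (V ⊓ V') x ⟨hxV, hxV'⟩ (AModX.resR inf_le_right (show Γ(X, V') from b)), ?_⟩
    show _ • (Coh.structureModule X).presheaf.germ V x hxV (1 : Γ(X, V)) = _
    rw [← RefX.germ_res (Coh.structureModule X) (inf_le_left : V ⊓ V' ≤ V) ⟨hxV, hxV'⟩,
      ← RefX.germ_res (Coh.structureModule X) (inf_le_right : V ⊓ V' ≤ V') ⟨hxV, hxV'⟩ b,
      ← QCoh.germ_smul']
    refine congrArg _ ?_
    show AModX.resR inf_le_right (show Γ(X, V') from b) * AModX.resR inf_le_left 1 = _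
    rw [map_one, mul_one]
    rfl
  refine ⟨fun w w' h => ?_, ?_, hfinN⟩
  · obtain ⟨a, rfl⟩ := ho w
    obtain ⟨b, rfl⟩ := ho w'
    rw [map_smul, map_smul, ← hε] at h
    have h1 : a • (1 : N) = b • (1 : N) := ε.injective (by rw [map_smul, map_smul]; exact h)
    rw [← Algebra.algebraMap_eq_smul_one, ← Algebra.algebraMap_eq_smul_one] at h1
    rw [hinj h1]
  let iso := PreservesCokernel.iso (DerSch.stalkFunctor X x) (ClSub.unitToPush π) ≪≫
    ModuleCat.cokernelIsoRangeQuotient _
  rw [hlen]
  refine (LinearEquiv.length_eq iso.toLinearEquiv).trans ?_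
  symm
  refine LinearEquiv.length_eq (Submodule.Quotient.equiv _ _ ε ?_)
  ext w
  constructor
  · rintro ⟨_, ⟨a, rfl⟩, rfl⟩
    refine ⟨a • o, ?_⟩
    show TFOneX.sm (ClSub.unitToPush π) x (a • o) = ε (algebraMap A N a)
    rw [Algebra.algebraMap_eq_smul_one, map_smul ε, hε, map_smul]
  · rintro ⟨v, rfl⟩
    obtain ⟨a, rfl⟩ := ho v
    refine ⟨algebraMap A N a, ⟨a, rfl⟩, ?_⟩
    show ε (algebraMap A N a) = TFOneX.sm (ClSub.unitToPush π) x (a • o)
    rw [Algebra.algebraMap_eq_smul_one, map_smul ε, hε, map_smul]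

variable (k : Type u) [Field k] [IsAlgClosed k] [X.Over (Spec (CommRingCat.of k))] [Y.Over (Spec (CommRingCat.of k))]
  [IsProper (X ↘ Spec (CommRingCat.of k))]

/-- The normalization of a nodal curve gains one in Euler characteristic for each node. -/
theorem euler_normalization (hdim : topologicalKrullDim X = 1)
    (hequi : ∀ Z ∈ irreducibleComponents (X : Type u), topologicalKrullDim Z = 1)
    (hX : Curv2.AtWorstNodal k X)
    (hπ : π ≫ (X ↘ Spec (CommRingCat.of k)) = Y ↘ Spec (CommRingCat.of k))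
    (hY : Pi1.IsNormalScheme Y) {U : X.Opens} (hU : Dense (U : Set X))
    (hU' : Dense ((π ⁻¹ᵁ U : Y.Opens) : Set Y)) [IsIso (π ∣_ U)] :
    Curv2.euler k Y (Coh.structureModule Y) =
      Curv2.euler k X (Coh.structureModule X) + (Nat.card {x : X // Curv2.IsNode k X x} : ℤ) ∧
    {x : X | Curv2.IsNode k X x}.Finite := by
  classical
  haveI : IsAlgClosure k k := ⟨inferInstance, inferInstance⟩
  haveI : IsNoetherian Y :=
    { toIsLocallyNoetherian := LocallyOfFiniteType.isLocallyNoetherian π
      toCompactSpace := QuasiCompact.compactSpace_of_compactSpace π }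
  haveI : PerfectField k := IsAlgClosed.perfectField k
  haveI := NodeFam.lfp_of_lft (X ↘ Spec (CommRingCat.of k))
  let u := ClSub.unitToPush π
  let P := (Scheme.Modules.pushforward π).obj (Coh.structureModule Y)
  let Q := cokernel u
  have hPc : Coh.IsCoh P := QCoh.isCoh_pushforward_finite π QCoh.isCoh_structureModule'
  have hQc : Coh.IsCoh Q := QCoh.isCoh_cokernel QCoh.isQCoh_structureModule hPc u
  haveI : Mono u := Preadditive.mono_of_isZero_kernel _ (KFlatLib.isZero_of_stalk _ fun x => by
    haveI : Mono ((DerSch.stalkFunctor X x).map u) :=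
      (ModuleCat.mono_iff_injective _).2 (length_coker_eq π hY hU hU' x).1
    exact (isZero_kernel_of_mono ((DerSch.stalkFunctor X x).map u)).of_iso
      (PreservesKernel.iso (DerSch.stalkFunctor X x) u))
  haveI : IsClosedImmersion (π ∣_ U) := inferInstance
  have hQU : ∀ x ∈ CohB1.support Q, x ∉ U := fun x hx hxU => by
    haveI := GenusLe.epi_stalk_unit π hxU
    exact hx (ModuleCat.subsingleton_of_isZero ((isZero_cokernel_of_epi ((DerSch.stalkFunctor X x).map u)).of_iso
      (PreservesCokernel.iso (DerSch.stalkFunctor X x) u)))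
  have hQcl : ∀ x ∈ CohB1.support Q, IsClosed ({x} : Set X) := fun x hx =>
    GenusLe.isClosed_of_notMem_dense hdim.le hU (hQU x hx)
  have hng : ∀ x : X, IsClosed ({x} : Set X) → x ∉ genericPoints (X : Type u) := fun x hx hg => by
    have h1 := hequi _ hg
    rw [hx.closure_eq] at h1
    have h2 : topologicalKrullDim ({x} : Set X) ≤ 0 := topologicalKrullDim_zero_of_discreteTopology _
    rw [h1] at h2
    exact absurd h2 (by norm_num)
  have hcases : ∀ x : X, IsClosed ({x} : Set X) →
      (Curv2.IsNode k X x ∧ Curv2.deltaInv (X.presheaf.stalk x) = 1) ∨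
      (¬ Curv2.IsNode k X x ∧ Curv2.deltaInv (X.presheaf.stalk x) = 0) := fun x hx => by
    by_cases hn : Curv2.IsNode k X x
    · refine Or.inl ⟨hn, ?_⟩
      letI := Curv2.stalkAlgebra k X x
      have hodp := CurveGor.odp_of_isNode hn
      exact deltaInv_odp hodp (le_antisymm (NodeFam.ringKrullDim_le_of_odp hodp)
        (CurveDual.one_le_dim_stalk (hng x hx))) (length_coker_eq π hY hU hU' x).2.2
    · refine Or.inr ⟨hn, ?_⟩
      obtain ⟨V, hxV, hs⟩ := (hX x hx).resolve_right hn
      haveI := (SmoothReg.mem_smoothLocus_iff_isRegularLocalRing (X ↘ Spec (CommRingCat.of k)) x).1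
        ((NodeFam.exists_smooth_nhd_iff _ x).1 ⟨V, hxV, hs⟩)
      haveI := RegLoc6.isDomain_of_isRegularLocalRing (X.presheaf.stalk x)
      obtain ⟨hinj, hlen, -⟩ := length_coker_eq π hY hU hU' x
      haveI : IsIntegrallyClosed (X.presheaf.stalk x) := by
        by_cases hfld : IsField (X.presheaf.stalk x)
        · letI := hfld.toField; infer_instance
        obtain ⟨t, htm, ht⟩ := Groth.Agent.CurveGor.SubNodal.exists_regular_mem (R := X.presheaf.stalk x)
          (fun h => hfld (IsLocalRing.isField_iff_maximalIdeal_eq.2 h))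
        obtain ⟨g, hg⟩ : ∃ g, maximalIdeal (X.presheaf.stalk x) = Ideal.span {g} := by
          have hr := (isRegularLocalRing_iff (X.presheaf.stalk x)).1 inferInstance
          obtain ⟨s, hs, hsp⟩ :=
            (IsNoetherian.noetherian (maximalIdeal (X.presheaf.stalk x))).exists_span_finset_card_eq_spanFinrank
          have h1 : s.card ≤ 1 := by
            obtain ⟨b, hb, ⟨η, -, hηd⟩, -⟩ := VarDim.exists_deg_add_stalk (X ↘ Spec (CommRingCat.of k)) x
            have hb1 : b ≤ 1 := by
              have h2 : (⨆ y, (VarDim.deg (X ↘ Spec (CommRingCat.of k)) y : WithBot ℕ∞)) ≤ 1 :=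
                (VarDim.topologicalKrullDim_eq_iSup_deg _).symm.le.trans hdim.le
              have h3 := (le_iSup (fun y => (VarDim.deg (X ↘ Spec (CommRingCat.of k)) y : WithBot ℕ∞)) η).trans h2
              have h4 : VarDim.deg (X ↘ Spec (CommRingCat.of k)) η ≤ 1 := by exact_mod_cast h3
              omega
            rw [← hr, ← hs] at hb
            have : s.card = b := by exact_mod_cast hb
            omega
          rcases Nat.le_one_iff_eq_zero_or_eq_one.1 h1 with hc | hc
          · refine ⟨0, ?_⟩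
            rw [Finset.card_eq_zero.1 hc, Finset.coe_empty, Submodule.span_empty] at hsp
            rw [← hsp, Ideal.span_singleton_eq_bot.2 rfl]
          · obtain ⟨a, rfl⟩ := Finset.card_eq_one.1 hc
            exact ⟨a, by rw [← hsp, Finset.coe_singleton]⟩
        exact (DeltaLib.dvr_of_principal_maximalIdeal g hg (mem_nonZeroDivisors_iff_left.2 ht) htm).2
      rw [Curv2.deltaInv, Module.length_eq_zero_iff, Submodule.Quotient.subsingleton_iff, LinearMap.range_eq_top]
      intro z
      obtain ⟨a, ha⟩ := IsIntegrallyClosed.isIntegral_iff.1 z.2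
      exact ⟨a, Subtype.ext ha⟩
  have hsupp : ∀ x, x ∈ CohB1.support Q ↔ Curv2.IsNode k X x := fun x => by
    refine ⟨fun hx => ?_, fun hn hsub => ?_⟩
    · rcases hcases x (hQcl x hx) with h | ⟨-, h0⟩
      · exact h.1
      · exact absurd (Module.length_eq_zero_iff.1 ((length_coker_eq π hY hU hU' x).2.1.trans h0)) hx
    · rcases hcases x hn.1 with ⟨-, h1⟩ | ⟨h, -⟩
      · have h := (length_coker_eq π hY hU hU' x).2.1.trans h1
        rw [Module.length_eq_zero_iff.2 hsub] at h
        exact zero_ne_one h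
      · exact h hn
  have hfin : {x : X | Curv2.IsNode k X x}.Finite := by
    rw [← show CohB1.support Q = {x : X | Curv2.IsNode k X x} from Set.ext hsupp]
    exact CurveCohLib.finite_of_closedPoints (QCoh.isClosed_support_of_isFT hQc.1 hQc.2) hQcl
  refine ⟨?_, hfin⟩
  obtain ⟨hsum, hk⟩ := CurveCohLib.euler_eq_sum_stalks (k := k) hQc hQcl hfin.toFinset
    (fun x hx => hfin.mem_toFinset.2 ((hsupp x).1 hx))
  have hone : ∀ x ∈ hfin.toFinset, letI := CurveCohLib.stalkModuleK k Q x
      Module.finrank k (Q.presheaf.stalk x) = 1 := fun x hx => by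
    letI := CurveCohLib.stalkModuleK k Q x
    haveI := hk x hx
    have hn : Curv2.IsNode k X x := hfin.mem_toFinset.1 hx
    have hl : Module.length (X.presheaf.stalk x) (Q.presheaf.stalk x) = 1 := by
      rcases hcases x hn.1 with ⟨-, h1⟩ | ⟨h, -⟩
      · exact (length_coker_eq π hY hU hU' x).2.1.trans h1
      · exact absurd hn h
    haveI := Module.length_eq_one_iff.1 hl
    haveI : Nontrivial (Q.presheaf.stalk x) := IsSimpleModule.nontrivial (X.presheaf.stalk x) _
    obtain ⟨q, hq⟩ := exists_ne (0 : Q.presheaf.stalk x)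
    have hgen : ∀ w, ∃ a : X.presheaf.stalk x, a • q = w := fun w =>
      (IsSimpleModule.toSpanSingleton_surjective (X.presheaf.stalk x) hq) w
    have hm : ∀ a ∈ maximalIdeal (X.presheaf.stalk x), a • q = 0 := fun a ha => by
      have hker : LinearMap.ker (LinearMap.toSpanSingleton (X.presheaf.stalk x) _ q) = maximalIdeal _ :=
        IsLocalRing.eq_maximalIdeal (IsSimpleModule.ker_toSpanSingleton_isMaximal (X.presheaf.stalk x) hq)
      exact LinearMap.mem_ker.1 (hker ▸ ha : a ∈ LinearMap.ker (LinearMap.toSpanSingleton (X.presheaf.stalk x) _ q))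
    let L : k →ₗ[k] Q.presheaf.stalk x :=
      { toFun := fun c => Curv2.stalkMap k X x c • q
        map_add' := fun c d => by rw [map_add, add_smul]
        map_smul' := fun a c => by
          show Curv2.stalkMap k X x (a * c) • q = Curv2.stalkMap k X x a • (Curv2.stalkMap k X x c • q)
          rw [map_mul, mul_smul] }
    have hL : Function.Surjective L := fun w => by
      obtain ⟨a, rfl⟩ := hgen w
      obtain ⟨c, hc⟩ := CurveSection.exists_stalkMap_sub_mem k hn.1 a
      refine ⟨c, ?_⟩
      have h0 := hm _ hc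
      rw [sub_smul, sub_eq_zero] at h0
      exact h0.symm
    have h1 := LinearMap.finrank_le_finrank_of_surjective hL
    have h2 : 0 < Module.finrank k (Q.presheaf.stalk x) := Module.finrank_pos
    rw [Module.finrank_self] at h1
    omega
  have e1 := CurveCohLib.euler_additive (k := k) (CurveSlope.shortExact_cokernel_of_mono u)
    QCoh.isCoh_structureModule' hPc hQc
  dsimp only at e1
  have e2 : Curv2.euler k Y (Coh.structureModule Y) = Curv2.euler k X P := finsum_congr fun i => by
    obtain ⟨e⟩ := PnCoh.exists_linearEquiv_push k π hπ QCoh.isQCoh_structureModule i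
    rw [e.finrank_eq]
  rw [e2, e1, hsum, Finset.sum_congr rfl fun x hx => congrArg Nat.cast (hone x hx), Finset.sum_const]
  rw [show Nat.card {x : X // Curv2.IsNode k X x} = hfin.toFinset.card from
    (Nat.card_eq_card_finite_toFinset hfin)]
  simp

end Groth.Agent.CurveGor.Delta
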