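import Groth.Agent.CurveDual.Euler
import Groth.Agent.CurveDual.Depth
import Groth.Agent.TFOneX.Basic
import Groth.Agent.PlanarExt.Basic
import Groth.Agent.NodeFam.QuadCompletion

/-!
# Duality of Euler characteristics for modules of positive depth on curves
-/

set_option autoImplicit false
set_option linter.style.haveILetI false
set_option linter.unusedSectionVars false
set_option backward.isDefEq.respectTransparency false
set_option backward.isDefEq.respectTransparency.types false
set_option maxHeartbeats 1000000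
set_option synthInstance.maxHeartbeats 200000

universe u

open CategoryTheory CategoryTheory.Limits AlgebraicGeometry TopologicalSpace Opposite

noncomputable section

namespace Groth.Agent.CurveGor

open Groth.Agent

variable {X : Scheme.{u}}

/-- A torsion-free module on a reduced scheme has positive depth at the closed points off the generic ones. -/
theorem one_le_depth_of_torsionFree [IsLocallyNoetherian X] [AlgebraicGeometry.IsReduced X]
    {F : X.Modules} (htF : TorSh.IsTorsionFree F) {x : X} (hx : x ∉ genericPoints (X : Type u)) :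
    (1 : ℕ∞) ≤ LocCoh.depth (X.presheaf.stalk x) (F.presheaf.stalk x) := by
  obtain ⟨t, ht, hreg⟩ := NodeFam.exists_regular_mem (A := X.presheaf.stalk x)
    fun h => hx (TFOneX.mem_genericPoints_of_isField h)
  haveI := htF x
  refine PlanarExt.one_le_depth_of_regular ht (Module.IsTorsionFree.isSMulRegular ?_)
  exact ⟨fun a b hab => hreg hab, fun a b hab => hreg (by simpa [mul_comm] using hab)⟩

/-- Modules with no support at points which are both closed and generic. -/
theorem one_le_depth_closed [IsLocallyNoetherian X] [AlgebraicGeometry.IsReduced X]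
    {F : X.Modules} (htF : TorSh.IsTorsionFree F)
    (hgen : ∀ x ∈ genericPoints (X : Type u), ¬ IsClosed ({x} : Set X)) (x : X) (hx : IsClosed ({x} : Set X)) :
    (1 : ℕ∞) ≤ LocCoh.depth (X.presheaf.stalk x) (F.presheaf.stalk x) :=
  one_le_depth_of_torsionFree htF fun h => hgen x h hx

variable {k : Type u} [Field k] [X.Over (Spec (CommRingCat.of k))] [IsProper (X ↘ Spec (CommRingCat.of k))]
variable {ω : X.Modules} {t : Coh.HH X ω 1 →ₗ[k] k}

/-- Homs into a twist of `ω` are dual to `H¹` of the inverse twist. -/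
theorem finrank_hom_twist (hω : Canon.IsRDualOver k X 1 ω t) {F F' P : X.Modules} (hF' : Coh.IsQCoh F')
    (hP : PicF.IsInvertible P) (u : F ≅ (SheafHomX.ten P).obj F') :
    Module.finrank k (F ⟶ (SheafHomX.ten P).obj ω) = Module.finrank k (Coh.HH X F' 1) := by
  haveI := H23.Chern.isEquivalence_ten hP
  haveI : (SheafHomX.ten P).IsEquivalence :=
    Functor.isEquivalence_of_iso ((KFlatLib.tensorBiFlipIso X).app P).symm
  rw [← CurveDual.finrank_hom hω hF']
  let e : (F' ⟶ ω) →ₗ[k] (F ⟶ (SheafHomX.ten P).obj ω) :=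
    { toFun := fun φ => u.hom ≫ (SheafHomX.ten P).map φ
      map_add' := fun φ ψ => by rw [Functor.map_add, Preadditive.comp_add]
      map_smul' := fun a φ => by rw [RingHom.id_apply, CurveDual.smul_map_ten, Linear.comp_smul] }
  refine (LinearEquiv.ofBijective e ⟨fun φ ψ h => (SheafHomX.ten P).map_injective ((cancel_epi u.hom).1 h),
    fun g => ?_⟩).finrank_eq.symm
  obtain ⟨φ, hφ⟩ := (SheafHomX.ten P).map_surjective (u.inv ≫ g)
  refine ⟨φ, ?_⟩
  show u.hom ≫ (SheafHomX.ten P).map φ = g
  rw [hφ, Iso.hom_inv_id_assoc]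

/-- If the sections of the twists of `G` are the maps of `F` into the twists of `ω`, then `χ(G) = -χ(F)`. -/
theorem euler_dual (hdim : topologicalKrullDim X ≤ 1) (hω : Canon.IsRDualOver k X 1 ω t)
    {F G : X.Modules} (hF : Coh.IsCoh F) (hG : Coh.IsCoh G)
    (hdep : ∀ x : X, IsClosed ({x} : Set X) →
      (1 : ℕ∞) ≤ LocCoh.depth (X.presheaf.stalk x) (F.presheaf.stalk x))
    (hhom : ∀ P : X.Modules, PicF.IsInvertible P → Module.finrank k (F ⟶ (SheafHomX.ten P).obj ω) =
      Module.finrank k (Coh.HH X (CohB1.tensorMod G P) 0)) :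
    Curv2.euler k X G = -Curv2.euler k X F := by
  haveI := CurveCohLib.isNoetherian_of_proper (k := k) (X := X)
  haveI : X.IsSeparated := ⟨by
    rw [← terminal.comp_from (X ↘ Spec (CommRingCat.of k))]
    infer_instance⟩
  obtain ⟨A, hA⟩ := DimOneAmple.exists_isAmple (X := X) hdim
  obtain ⟨B, hB, hAB⟩ := H23.PicInv.exists_inverse hA.1
  obtain ⟨n₁, h1⟩ := NegVanAmple.exists_vanishing (X ↘ Spec (CommRingCat.of k)) hA (M := B) hAB
    hF 1 hdep 0 zero_lt_one
  obtain ⟨n₂, h2⟩ := AmpleVan.exists_vanishing (A := k) hA hG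
  obtain ⟨a, ha⟩ := CurveDual.euler_affine (k := k) hdim hA.1 hG
  obtain ⟨b, hb⟩ := CurveDual.euler_affine (k := k) hdim hB hF
  have key : ∀ n, n₁ ≤ n → n₂ ≤ n →
      Curv2.euler k X G + n * a + (Curv2.euler k X F + n * b) = 0 := fun n hn1 hn2 => by
    let P := CohB1.tensorPow A n
    let M := CohB1.tensorMod F (CohB1.tensorPow B n)
    have hP : PicF.IsInvertible P := H23.PicMul.isInvertible_tensorPow hA.1 n
    have hB' : PicF.IsInvertible (CohB1.tensorPow B n) := H23.PicMul.isInvertible_tensorPow hB n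
    have hMc : Coh.IsCoh M := ParShLib.isCoh_tensorMod hF (CurveDeg.isCoh_of_isInvertible hB')
    obtain ⟨w⟩ : Nonempty ((SheafHomX.ten P).obj M ≅ F) := by
      letI := H23.PicMul.clMonoid X
      refine H23.PicMul.cl_eq_iff.1 ?_
      show PicF.cl (CohB1.tensorMod M P) = PicF.cl F
      have h1' : PicF.cl A * PicF.cl B = 1 := H23.PicMul.cl_eq_iff.2 hAB
      rw [H23.PicMul.cl_tensor, H23.PicMul.cl_tensor, H23.PicMul.cl_tensorPow, H23.PicMul.cl_tensorPow,
        mul_assoc, ← mul_pow, mul_comm (PicF.cl B), h1', one_pow, mul_one]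
    have e : Module.finrank k (Coh.HH X (CohB1.tensorMod G P) 0) = Module.finrank k (Coh.HH X M 1) :=
      (hhom P hP).symm.trans (finrank_hom_twist hω hMc.1 hP w.symm)
    have hGn : Coh.IsCoh (CohB1.tensorMod G P) :=
      ParShLib.isCoh_tensorMod hG (CurveDeg.isCoh_of_isInvertible hP)
    rw [← ha n, ← hb n, NefH1.euler_eq k hdim hGn.1, NefH1.euler_eq k hdim hMc.1]
    haveI := h1 n hn1
    haveI := h2 n hn2 0
    rw [Module.finrank_zero_of_subsingleton (R := k) (M := Coh.HH X M 0),
      Module.finrank_zero_of_subsingleton (R := k) (M := Coh.HH X (CohB1.tensorMod G P) (0 + 1))]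
    rw [e]
    simp
  have e1 := key (n₁ + n₂) (by omega) (by omega)
  have e2 := key (n₁ + n₂ + 1) (by omega) (by omega)
  push_cast at e1 e2
  linear_combination ((n₁ + n₂ : ℤ) + 1) * e1 - (n₁ + n₂ : ℤ) * e2

end Groth.Agent.CurveGor
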