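import Groth.Agent.CurveGor.PointedTwist
import Groth.Agent.NodeFam.SingLocus

/-!
# The dual graph and meetings of components
-/

set_option autoImplicit false
set_option linter.style.haveILetI false
set_option linter.unusedSectionVars false
set_option backward.isDefEq.respectTransparency false
set_option backward.isDefEq.respectTransparency.types false
set_option maxHeartbeats 1000000
set_option synthInstance.maxHeartbeats 200000

universe u

open CategoryTheory CategoryTheory.Limits AlgebraicGeometry TopologicalSpace Opposite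

noncomputable section

namespace Groth.Agent.CurveGor

open Groth.Agent TFOneX

variable {X : Scheme.{u}}

/-- A point with domain stalk lies on one component. -/
theorem eq_of_isDomain {x η η' : X} [IsDomain (X.presheaf.stalk x)] (hη : η ∈ genericPoints (X : Type u))
    (hη' : η' ∈ genericPoints (X : Type u)) (h : η ⤳ x) (h' : η' ⤳ x) : η = η' := by
  obtain ⟨z, hz⟩ : η ∈ Set.range (X.fromSpecStalk x) := by rw [Scheme.range_fromSpecStalk]; exact h
  obtain ⟨z', hz'⟩ : η' ∈ Set.range (X.fromSpecStalk x) := by rw [Scheme.range_fromSpecStalk]; exact h'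
  let g : Spec (X.presheaf.stalk x) := (⟨⊥, Ideal.isPrime_bot⟩ : PrimeSpectrum (X.presheaf.stalk x))
  have hg : ∀ w : Spec (X.presheaf.stalk x), g ⤳ w := fun w =>
    (PrimeSpectrum.le_iff_specializes (R := X.presheaf.stalk x) g w).1
      (show (⊥ : Ideal (X.presheaf.stalk x)) ≤ w.asIdeal from bot_le)
  rw [← NormAmpleX.eq_of_specializes_generic hη (hz ▸ (hg z).map (X.fromSpecStalk x).continuous),
    ← NormAmpleX.eq_of_specializes_generic hη' (hz' ▸ (hg z').map (X.fromSpecStalk x).continuous)]

variable {k : Type u} [Field k] [X.Over (Spec (CommRingCat.of k))] [IsProper (X ↘ Spec (CommRingCat.of k))]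

include k in
/-- Finite closed sets consist of closed points. -/
theorem isClosed_of_finite {D : Set X} (hDf : D.Finite) (hD : IsClosed D) {x : X} (hx : x ∈ D) :
    IsClosed ({x} : Set X) := by
  haveI : JacobsonSpace X := LocallyOfFiniteType.jacobsonSpace (X ↘ Spec (CommRingCat.of k))
  have hcl : IsClosed (D ∩ closedPoints X) := by
    rw [← Set.biUnion_of_singleton (D ∩ closedPoints X)]
    exact (hDf.inter_of_left _).isClosed_biUnion fun y hy => hy.2
  have h := closure_inter_closedPoints hD
  rw [hcl.closure_eq] at h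
  exact (h.ge hx).2

/-- The non-loop edges at a vertex count the meeting points. -/
theorem card_edges [IsNoetherian X] (hdim : topologicalKrullDim X ≤ 1)
    {V E : Type u} (cv : V → Set X) (ce : E → X) (ends : E → V × V)
    (hΓ : DualGr.IsDualGraph (X ↘ Spec (CommRingCat.of k)) cv ce ends) (v : V) :
    Nat.card {e : E // (ends e).1 ≠ (ends e).2 ∧ ((ends e).1 = v ∨ (ends e).2 = v)} =
      (cv v ∩ closure (cv v)ᶜ).ncard := by
  haveI := NodeFam.lfp_of_lft (X ↘ Spec (CommRingCat.of k))
  have hv := hΓ.comp_mem v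
  have hvc := isClosed_of_mem_irreducibleComponents _ hv
  have ev := hv.1.closure_genericPoint hvc
  have hηv : hv.1.genericPoint ∈ genericPoints (X : Type u) := by
    show closure _ ∈ irreducibleComponents (X : Type u); rw [ev]; exact hv
  let f : {e : E // (ends e).1 ≠ (ends e).2 ∧ ((ends e).1 = v ∨ (ends e).2 = v)} → (cv v ∩ closure (cv v)ᶜ : Set X) :=
    fun e => ⟨ce e.1, (hΓ.incidence e.1 v).1 e.2.2, by
      obtain ⟨w, hw, hwv⟩ : ∃ w, ((ends e.1).1 = w ∨ (ends e.1).2 = w) ∧ w ≠ v := by
        rcases e.2.2 with h | h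
        · exact ⟨_, Or.inr rfl, fun h' => e.2.1 (h.trans h'.symm)⟩
        · exact ⟨_, Or.inl rfl, fun h' => e.2.1 (h'.trans h.symm)⟩
      have hwC := hΓ.comp_mem w
      have ew := hwC.1.closure_genericPoint (isClosed_of_mem_irreducibleComponents _ hwC)
      have hmem : hwC.1.genericPoint ∈ (cv v)ᶜ := fun hh => hwv (hΓ.comp_injective (by
        refine le_antisymm ?_ (hwC.2 hv.1 ?_) <;>
        · rw [← ew]
          exact hvc.closure_subset_iff.2 (Set.singleton_subset_iff.2 hh)))
      exact closure_mono (Set.singleton_subset_iff.2 hmem) (ew.ge ((hΓ.incidence e.1 w).1 hw))⟩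
  have hf : Function.Bijective f := by
    refine ⟨fun a b h => Subtype.ext (hΓ.pt_injective (congrArg Subtype.val h)), fun x => ?_⟩
    obtain ⟨η, hη, hηv', hsp⟩ := closure_compl_subset _ hvc x.2.2
    have hx : x.1 ∈ DualGr.nonsmoothPts (X ↘ Spec (CommRingCat.of k)) := fun hs => by
      haveI := isDomain_of_smooth (k := k)
        ((NodeFam.exists_smooth_nhd_iff (X ↘ Spec (CommRingCat.of k)) x.1).2 hs)
      refine hηv' (eq_of_isDomain hηv hη (specializes_iff_mem_closure.2 (ev.ge x.2.1)) hsp ▸ ?_)
      exact ev.le (subset_closure rfl)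
    obtain ⟨e, he⟩ := hΓ.pt_surjective x.1 hx
    obtain ⟨w, hw⟩ := hΓ.comp_surjective (closure {η}) hη
    have hwv : w ≠ v := fun h => hηv' (h ▸ hw.ge (subset_closure rfl))
    have h1 := (hΓ.incidence e v).2 (he ▸ x.2.1)
    have h2 := (hΓ.incidence e w).2 (he ▸ hw.ge (specializes_iff_mem_closure.1 hsp))
    refine ⟨⟨e, fun h => hwv ?_, h1⟩, Subtype.ext he⟩
    rcases h1 with a | a <;> rcases h2 with b | b
    · exact b.symm.trans a
    · exact b.symm.trans (h.symm.trans a)
    · exact b.symm.trans (h.trans a)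
    · exact b.symm.trans a
  rw [Nat.card_congr (Equiv.ofBijective f hf), Nat.card_coe_set_eq]

end Groth.Agent.CurveGor
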