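import Groth.Agent.CurveGor.Existence
import Groth.Agent.LC.GorRows

/-!
# Dualizing modules: uniqueness, coherence and their stalks at Gorenstein points
-/

set_option autoImplicit false
set_option linter.style.haveILetI false
set_option linter.unusedSectionVars false
set_option backward.isDefEq.respectTransparency false
set_option backward.isDefEq.respectTransparency.types false
set_option maxHeartbeats 1000000
set_option synthInstance.maxHeartbeats 200000

universe u

open CategoryTheory CategoryTheory.Limits AlgebraicGeometry TopologicalSpace Opposite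

attribute [local instance] HasDerivedCategory.standard

noncomputable section

namespace Groth.Agent.CurveGor

open Groth.Agent KFlatLib

variable {k : Type u} [Field k] {X : Scheme.{u}}

/-- At a Gorenstein point of its support the dualizing module is free of rank one nearby. -/
theorem exists_restrict_iso_dualizing (f : X ⟶ Spec (CommRingCat.of k)) [IsProper f]
    [DCoh.HasRpush f] (h : DCoh.RpushPreservesQCoh f) [DCoh.HasShriek f h]
    (OY : DCoh.DQCoh (Spec (CommRingCat.of k)))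
    (hOY : Nonempty (OY.obj ≅ DCoh.inD (Spec (CommRingCat.of k)) (Coh.structureModule (Spec (CommRingCat.of k)))))
    (x : X) (hG : LocCoh.IsGorensteinLocalRing (X.presheaf.stalk x))
    (hx : x ∈ CohB1.support (DCoh.dualizingMod f h OY 1)) :
    ∃ W : X.Opens, x ∈ W ∧
      Nonempty ((DCoh.dualizingMod f h OY 1).restrict W.ι ≅ Coh.structureModule (W : Scheme.{u})) := by
  haveI : Dual3.IsSepFT f := ⟨inferInstance, inferInstance, inferInstance⟩
  haveI : Dual3.IsSepFT (𝟙 (Spec (CommRingCat.of k))) := ⟨inferInstance, inferInstance, inferInstance⟩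
  let c : DEt.Compactification f := ⟨X, 𝟙 X, f, inferInstance, inferInstance, Category.id_comp f⟩
  haveI : DCoh.HasRpush c.fbar := ‹DCoh.HasRpush f›
  have key := (S3616.result (Spec (CommRingCat.of k)) X (Spec (CommRingCat.of k)) f (𝟙 _) f
    (Category.comp_id f) c h (DCoh.shriek f h) (DCoh.shriekAdj f h) OY hOY).1
  obtain ⟨U, hxU, hU⟩ := (key x).1 (isGorensteinAt_field f x hG)
  obtain ⟨V, n, hxV, ⟨e⟩⟩ := hU ⟨x, hxU⟩
  let K := DCoh.dualizingCx f h OY
  have i1 : DCoh.HD ((DCoh.restrictD V.ι).obj ((DCoh.restrictD U.ι).obj ((DCoh.restrictD (𝟙 X)).obj K))) (-1) ≅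
      (Scheme.Modules.restrictFunctor V.ι).obj ((Scheme.Modules.restrictFunctor U.ι).obj
        ((Scheme.Modules.restrictFunctor (𝟙 X)).obj (DCoh.HD K (-1)))) :=
    restrictHDIso V.ι _ _ ≪≫ (Scheme.Modules.restrictFunctor V.ι).mapIso (restrictHDIso U.ι _ _ ≪≫
      (Scheme.Modules.restrictFunctor U.ι).mapIso (restrictHDIso (𝟙 X) K _))
  have i2 : DCoh.HD ((DCoh.inD (V : Scheme.{u}) (Coh.structureModule _))⟦n⟧) (-1) ≅
      (Scheme.Modules.restrictFunctor V.ι).obj ((Scheme.Modules.restrictFunctor U.ι).obj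
        ((Scheme.Modules.restrictFunctor (𝟙 X)).obj (DCoh.HD K (-1)))) :=
    ((DerivedCategory.homologyFunctor _ (-1)).mapIso e.symm) ≪≫ i1
  let j' : (V : Scheme.{u}) ⟶ X := V.ι ≫ U.ι
  let M := DCoh.dualizingMod f h OY 1
  let i3 : DCoh.HD ((DCoh.inD (V : Scheme.{u}) (Coh.structureModule _))⟦n⟧) (-1) ≅ M.restrict j' :=
    i2 ≪≫ (Scheme.Modules.restrictFunctor V.ι).mapIso
      (restrict₂Iso U.ι (𝟙 X) U.ι (Category.comp_id _) M) ≪≫ restrict₂Iso V.ι U.ι j' rfl M
  rcases hd_shift_structure (V : Scheme.{u}) n with ⟨⟨i4⟩⟩ | hz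
  · let W := j'.opensRange
    let i : (W : Scheme.{u}) ⟶ (V : Scheme.{u}) := j'.isoOpensRange.inv
    haveI : IsOpenImmersion i := inferInstanceAs (IsOpenImmersion j'.isoOpensRange.inv)
    obtain ⟨e₀⟩ := PicClLib.nonempty_pullback_structureModule i
    refine ⟨W, ⟨⟨⟨x, hxU⟩, hxV⟩, rfl⟩, ⟨?_⟩⟩
    exact (restrict₂Iso i j' W.ι (by simp [i, W]) M).symm ≪≫
      (Scheme.Modules.restrictFunctor i).mapIso (i3.symm ≪≫ i4) ≪≫
      (Scheme.Modules.restrictFunctorIsoPullback i).app _ ≪≫ e₀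
  · have h0 := H9Misc.QCohHull.isZero_stalk_of_restrict j' M (hz.of_iso i3.symm) ⟨⟨x, hxU⟩, hxV⟩
    haveI := ModuleCat.subsingleton_of_isZero h0
    exact absurd this hx

variable [X.Over (Spec (CommRingCat.of k))] [IsProper (X ↘ Spec (CommRingCat.of k))]

/-- Dualizing pairs are unique. -/
theorem exists_iso_of_isRDualOver {ω ω' : X.Modules} {t : Coh.HH X ω 1 →ₗ[k] k} {t' : Coh.HH X ω' 1 →ₗ[k] k}
    (h : Canon.IsRDualOver k X 1 ω t) (h' : Canon.IsRDualOver k X 1 ω' t') : Nonempty (ω' ≅ ω) := by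
  obtain ⟨φ, hφ⟩ := (h.2 ω' h'.1).2 t'
  obtain ⟨ψ, hψ⟩ := (h'.2 ω h.1).2 t
  refine ⟨⟨φ, ψ, (h'.2 ω' h'.1).1 ?_, (h.2 ω h.1).1 ?_⟩⟩
  · refine LinearMap.ext fun x => ?_
    rw [CurveDual.dualityMap_eq, CurveDual.dualityMap_eq]
    show t' (Canon.HHlin k (φ ≫ ψ) 1 x) = t' (Canon.HHlin k (𝟙 ω') 1 x)
    rw [CurveDual.HHlin_apply, CurveDual.HHlin_apply, Functor.map_comp, Sheaf.H.map_comp_apply, CategoryTheory.Functor.map_id,
      ← CurveDual.HHlin_apply (k := k), ← CurveDual.HHlin_apply (k := k), ← CurveDual.dualityMap_eq, hψ,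
      ← CurveDual.dualityMap_eq, hφ, Sheaf.H.map_id_apply]
  · refine LinearMap.ext fun x => ?_
    rw [CurveDual.dualityMap_eq, CurveDual.dualityMap_eq]
    show t (Canon.HHlin k (ψ ≫ φ) 1 x) = t (Canon.HHlin k (𝟙 ω) 1 x)
    rw [CurveDual.HHlin_apply, CurveDual.HHlin_apply, Functor.map_comp, Sheaf.H.map_comp_apply, CategoryTheory.Functor.map_id,
      ← CurveDual.HHlin_apply (k := k), ← CurveDual.HHlin_apply (k := k), ← CurveDual.dualityMap_eq, hφ,
      ← CurveDual.dualityMap_eq, hψ, Sheaf.H.map_id_apply]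

end Groth.Agent.CurveGor
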