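import Groth.Agent.CurveGor.Bridge
import Groth.Agent.CurveGor.Points

/-!
# Nonspeciality and global generation on reduced Gorenstein curves
-/

set_option autoImplicit false
set_option linter.style.haveILetI false
set_option linter.unusedSectionVars false
set_option backward.isDefEq.respectTransparency false
set_option backward.isDefEq.respectTransparency.types false
set_option maxHeartbeats 1000000
set_option synthInstance.maxHeartbeats 200000

universe u

open CategoryTheory CategoryTheory.Limits AlgebraicGeometry TopologicalSpace Opposite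

noncomputable section

namespace Groth.Agent.CurveGor

open Groth.Agent TFOneX

variable {X : Scheme.{u}} [IsNoetherian X] [AlgebraicGeometry.IsReduced X]
variable {k : Type u} [Field k] [X.Over (Spec (CommRingCat.of k))] [IsProper (X ↘ Spec (CommRingCat.of k))]

/-- Degrees on subcurves add under tensor products. -/
theorem degOn_tensor (hdim : topologicalKrullDim X ≤ 1) {A B : X.Modules} (hA : PicF.IsInvertible A)
    (hB : PicF.IsInvertible B) {Y : Set X} (hY : IsClosed Y) :
    degOn k (CohB1.tensorMod A B) 1 Y hY = degOn k A 1 Y hY + degOn k B 1 Y hY := by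
  have hrA := InvEnd.isFinLocFreeOfRank_one hA
  have hrB := InvEnd.isFinLocFreeOfRank_one hB
  have hAB := InvX.isInvertible_tensorMod hA hB
  let F := ClSub.quotMod (vI Y hY)
  have hF : Coh.IsCoh F := ParShLib.isCoh_quotMod _
  rw [degOn_eq k (InvEnd.isFinLocFreeOfRank_one hAB) Y hY, degOn_eq k hrA Y hY, degOn_eq k hrB Y hY]
  show Curv2.euler k X ((DCoh.tensorBi.obj (CohB1.tensorMod A B)).obj F) - ((1 : ℕ) : ℤ) * Curv2.euler k X F =
    (Curv2.euler k X ((DCoh.tensorBi.obj A).obj F) - ((1 : ℕ) : ℤ) * Curv2.euler k X F) +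
      (Curv2.euler k X ((DCoh.tensorBi.obj B).obj F) - ((1 : ℕ) : ℤ) * Curv2.euler k X F)
  obtain ⟨w⟩ : Nonempty ((DCoh.tensorBi.obj (CohB1.tensorMod A B)).obj F ≅
      (DCoh.tensorBi.obj A).obj ((DCoh.tensorBi.obj B).obj F)) := by
    letI := H23.PicMul.clMonoid X
    refine H23.PicMul.cl_eq_iff.1 ?_
    show PicF.cl (CohB1.tensorMod (CohB1.tensorMod A B) F) = PicF.cl (CohB1.tensorMod A (CohB1.tensorMod B F))
    simp only [H23.PicMul.cl_tensor]
    exact mul_assoc _ _ _
  have h := CurvePsi.Psi.tensor_eq (CurvePsi.eulerPsi k hrA) hdim hrB hF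
  simp only [CurvePsi.eulerPsi] at h
  rw [CurveCohLib.euler_congr (k := k) w]
  push_cast at h ⊢
  linarith

theorem degOn_pow (hdim : topologicalKrullDim X ≤ 1) {A : X.Modules} (hA : PicF.IsInvertible A)
    {Y : Set X} (hY : IsClosed Y) :
    ∀ n : ℕ, degOn k (CohB1.tensorPow A n) 1 Y hY = n * degOn k A 1 Y hY
  | 0 => by
    rw [degOn_eq k (InvEnd.isFinLocFreeOfRank_one (H23.PicMul.isInvertible_tensorPow hA 0)) Y hY]
    let F := ClSub.quotMod (vI Y hY)
    show Curv2.euler k X ((DCoh.tensorBi.obj (Coh.structureModule X)).obj F) -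
      ((1 : ℕ) : ℤ) * Curv2.euler k X F = _
    rw [CurveCohLib.euler_congr (k := k) (CurveTensor.structureTensorIso F), Nat.cast_one, one_mul, sub_self,
      Nat.cast_zero, zero_mul]
  | n + 1 => by
    have e := degOn_tensor (k := k) hdim (H23.PicMul.isInvertible_tensorPow hA n) hA hY
    show degOn k (CohB1.tensorMod (CohB1.tensorPow A n) A) 1 Y hY = _
    rw [e, degOn_pow hdim hA hY n]
    push_cast
    ring

variable (hdim : topologicalKrullDim X ≤ 1)
  (hgen : ∀ x ∈ genericPoints (X : Type u), ¬ IsClosed ({x} : Set X))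
  {ω : X.Modules} {t : Coh.HH X ω 1 →ₗ[k] k} (hω : Canon.IsRDualOver k X 1 ω t) (hωi : PicF.IsInvertible ω)

include hdim hgen hω hωi in
/-- Nonspeciality from degrees on connected subcurves. -/
theorem subsingleton_H1_of_deg {N : X.Modules} (hN : PicF.IsInvertible N)
    (h : ∀ (Y : Set X) (hY : IsClosed Y), IsCompUnion Y → _root_.IsConnected Y →
      0 < degOn k N 1 Y hY + 2 * chiY k Y hY) : Subsingleton (Coh.HH X N 1) := by
  by_contra hcon
  obtain ⟨Y, hY, hc, hconn, hle⟩ := exists_connected_deg hdim hgen hω hωi hN hcon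
  have := h Y hY hc hconn
  omega

include hdim hgen hω hωi in
/-- Global generation from degrees on connected subcurves. -/
theorem isGloballyGenerated_of_deg [IsAlgClosed k] {N : X.Modules} (hN : PicF.IsInvertible N)
    (h : ∀ (Y : Set X) (hY : IsClosed Y), IsCompUnion Y → _root_.IsConnected Y →
      2 ≤ degOn k N 1 Y hY + 2 * chiY k Y hY) : Curv2.IsGloballyGenerated N := by
  refine isGloballyGenerated_of_points (k := k) hN fun p hp => by_contra fun hcon => ?_
  obtain ⟨C, f, g, w, hT, hC, hsupp, he, -⟩ := exists_eval (k := k) hN p hp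
  have hcl : ∀ x ∈ CohB1.support C, IsClosed ({x} : Set X) := fun x hx =>
    Set.mem_singleton_iff.1 (hsupp hx) ▸ hp
  haveI : Mono f := hT.mono_f
  let e : cokernel f ≅ C :=
    IsColimit.coconePointUniqueUpToIso (cokernelIsCokernel f) hT.gIsCokernel
  have hQ : ∀ x ∈ CohB1.support (cokernel f), IsClosed ({x} : Set X) := fun x hx =>
    hcl x (support_subset_of_mono e.hom hx)
  have hNc : Coh.IsCoh N := CurveDeg.isCoh_of_isInvertible hN
  have hr := InvEnd.isFinLocFreeOfRank_one hN
  have hL : Coh.IsCoh ((DCoh.tensorBi.obj N).obj (CurvePoint.ptMod p hp)) :=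
    CurveTensor.isCoh_tensor (fun y => let ⟨W, hy, he⟩ := hr y; ⟨W, 1, hy, he⟩) (NormalLib.isCoh_idealMod _)
  obtain ⟨Y, hY, hc, hconn, hle⟩ := exists_connected_deg_sub hdim hgen hω hωi hN hL f hQ hcon
  have h2 : (Module.finrank k (Coh.HH X (cokernel f) 0) : ℤ) = 1 := by
    rw [← CurveCohLib.euler_eq_finrank_zero (k := k) (QCoh.isCoh_cokernel hL.1 hNc f) hQ,
      CurveCohLib.euler_congr (k := k) e, he]
  have := h Y hY hc hconn
  omega

end Groth.Agent.CurveGor
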