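import Groth.Agent.CurveGor.Nodal
import Groth.Agent.S1766
import Groth.Agent.S0998
import Groth.Agent.KFlatLib.Scheme.ProjLocFree

/-!
# Nodal curves have invertible dualizing modules
-/

set_option autoImplicit false
set_option linter.style.haveILetI false
set_option linter.unusedSectionVars false
set_option backward.isDefEq.respectTransparency false
set_option backward.isDefEq.respectTransparency.types false
set_option maxHeartbeats 1000000
set_option synthInstance.maxHeartbeats 200000

universe u

open CategoryTheory CategoryTheory.Limits AlgebraicGeometry TopologicalSpace Opposite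

attribute [local instance] HasDerivedCategory.standard

noncomputable section

namespace Groth.Agent.CurveGor

open Groth.Agent

theorem exists_invertible_dual (k : Type u) [Field k] [IsAlgClosed k] (X : Scheme.{u})
    [X.Over (Spec (CommRingCat.of k))] [IsProper (X ↘ Spec (CommRingCat.of k))] [ConnectedSpace X]
    (hdim : topologicalKrullDim X = 1) (hX : Curv2.AtWorstNodal k X) :
    ∃ (ω : X.Modules) (t : Coh.HH X ω 1 →ₗ[k] k), Canon.IsRDualOver k X 1 ω t ∧ PicF.IsInvertible ω := by
  haveI := CurveCohLib.isNoetherian_of_proper (k := k) (X := X)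
  let f := X ↘ Spec (CommRingCat.of k)
  haveI : DCoh.HasRpush f := KFlatLib.hasRpush_scheme f
  have h : DCoh.RpushPreservesQCoh f := fun K hK => S0998.result f K hK
  haveI : DCoh.HasShriek f h := S1766.result _ _ f h
  let Y := Spec (CommRingCat.of k)
  let OY : DCoh.DQCoh Y := ⟨DCoh.inD Y (Coh.structureModule Y), RelPC17.isQCohD_structure⟩
  obtain ⟨t, ht, -⟩ := CurveDual.exists_dual hdim.le h OY ⟨Iso.refl _⟩
  exact ⟨_, t, ht, isInvertible_dualizing_of_nodal hdim hX h OY ⟨Iso.refl _⟩⟩

end Groth.Agent.CurveGor
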