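import Mathlib

/-!
# Expansions along a uniformizer and maps out of completions
-/

set_option autoImplicit false
set_option linter.style.haveILetI false
set_option backward.isDefEq.respectTransparency false
set_option backward.isDefEq.respectTransparency.types false

universe u v

open IsLocalRing PowerSeries

noncomputable section

namespace Groth.Agent.CurveGor.Multi

variable {k : Type u} [Field k]

/-- A local domain with principal maximal ideal and coefficient field `k` embeds densely in `k⟦X⟧`. -/
theorem exists_expansion (R : Type v) [CommRing R] [IsLocalRing R] [IsDomain R] [Algebra k R] {π : R}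
    (hπ : maximalIdeal R = Ideal.span {π}) (h0 : π ≠ 0)
    (hres : Function.Surjective ((residue R).comp (algebraMap k R))) :
    ∃ ψ : R →ₐ[k] PowerSeries k, (∀ r x, x ∈ maximalIdeal R ^ r ↔ X ^ r ∣ ψ x) ∧
      ∀ r f, ∃ x, X ^ r ∣ ψ x - f := by
  classical
  let ev : Polynomial k →ₐ[k] R := Polynomial.aeval π
  have hevX : ∀ r (Q : Polynomial k), ev (Polynomial.X ^ r * Q) = π ^ r * ev Q := fun r Q => by
    rw [map_mul, map_pow]; simp [ev]
  have hpow : ∀ r x, x ∈ maximalIdeal R ^ r ↔ π ^ r ∣ x := fun r x => by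
    rw [hπ, Ideal.span_singleton_pow, Ideal.mem_span_singleton]
  have hker : ∀ r (Q : Polynomial k), ev Q ∈ maximalIdeal R ^ r ↔ Polynomial.X ^ r ∣ Q := by
    intro r
    induction r with
    | zero => intro Q; simp
    | succ r ih =>
      intro Q
      constructor
      · intro h
        obtain ⟨T, rfl⟩ := (ih Q).1 (Ideal.pow_le_pow_right (Nat.le_succ r) h)
        obtain ⟨d, hd⟩ := (hpow _ _).1 h
        have h1 : ev T = π * d := mul_left_cancel₀ (pow_ne_zero r h0) (by rw [← hevX, hd]; ring)
        refine pow_succ (Polynomial.X : Polynomial k) r ▸ mul_dvd_mul_left _ (Polynomial.X_dvd_iff.2 ?_)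
        by_contra hc
        obtain ⟨T', hT'⟩ : Polynomial.X ∣ T - Polynomial.C (T.coeff 0) := Polynomial.X_dvd_iff.2 (by simp)
        have h2 : algebraMap k R (T.coeff 0) = π * (d - ev T') := by
          have h3 := congrArg ev hT'
          rw [map_sub, ← pow_one Polynomial.X, hevX, pow_one, h1] at h3
          simp only [ev, Polynomial.aeval_C] at h3
          linear_combination -h3
        have h4 : algebraMap k R (T.coeff 0) ∈ maximalIdeal R :=
          hπ ▸ Ideal.mem_span_singleton.2 (h2 ▸ dvd_mul_right _ _)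
        exact (mem_maximalIdeal _).1 h4 ((IsUnit.mk0 _ hc).map (algebraMap k R))
      · rintro ⟨T, rfl⟩
        rw [hevX, hpow]
        exact dvd_mul_right _ _
  have hsur : ∀ r (x : R), ∃ Q : Polynomial k, x - ev Q ∈ maximalIdeal R ^ r := by
    intro r
    induction r with
    | zero => exact fun x => ⟨0, by simp⟩
    | succ r ih =>
      intro x
      obtain ⟨Q, hQ⟩ := ih x
      obtain ⟨d, hd⟩ := (hpow _ _).1 hQ
      obtain ⟨c, hc⟩ := hres (residue R d)
      obtain ⟨e, he⟩ : π ∣ d - algebraMap k R c := by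
        rw [← Ideal.mem_span_singleton, ← hπ]
        exact Ideal.Quotient.eq.1 hc.symm
      refine ⟨Q + Polynomial.X ^ r * Polynomial.C c, (hpow _ _).2 ⟨e, ?_⟩⟩
      rw [map_add, hevX]
      simp only [ev, Polynomial.aeval_C]
      rw [pow_succ]
      linear_combination hd + π ^ r * he
  choose P hP using hsur
  let ψ₀ : R → PowerSeries k := fun x => mk fun j => (P (j + 1) x).coeff j
  -- uniqueness of the expansion
  have hcl : ∀ r (x : R) (Q : Polynomial k), x - ev Q ∈ maximalIdeal R ^ r ↔
      X ^ r ∣ ψ₀ x - (Q : PowerSeries k) := by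
    intro r x Q
    have hag : ∀ (r : ℕ) (Q : Polynomial k), x - ev Q ∈ maximalIdeal R ^ r →
        ∀ j < r, Q.coeff j = coeff j (ψ₀ x) := fun r Q h j hj => by
      have h1 : ev (Q - P (j + 1) x) ∈ maximalIdeal R ^ (j + 1) := by
        rw [map_sub, show ev Q - ev (P (j + 1) x) = (x - ev (P (j + 1) x)) - (x - ev Q) by ring]
        exact sub_mem (hP _ _) (Ideal.pow_le_pow_right hj h)
      have h2 := Polynomial.X_pow_dvd_iff.1 ((hker _ _).1 h1) j (Nat.lt_succ_self j)
      rw [Polynomial.coeff_sub, sub_eq_zero] at h2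
      simp only [ψ₀, coeff_mk]
      exact h2
    rw [X_pow_dvd_iff]
    constructor
    · intro h j hj
      rw [map_sub, Polynomial.coeff_coe, hag r Q h j hj, sub_self]
    · intro h
      have h1 : ev (P r x - Q) ∈ maximalIdeal R ^ r := (hker _ _).2 (Polynomial.X_pow_dvd_iff.2 fun j hj => by
        rw [Polynomial.coeff_sub, hag r _ (hP r x) j hj]
        have h2 := h j hj
        rwa [map_sub, Polynomial.coeff_coe] at h2)
      rw [map_sub] at h1
      simpa using add_mem (hP r x) h1
  have hext : ∀ f g : PowerSeries k, (∀ r, X ^ r ∣ f - g) → f = g := fun f g h =>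
    PowerSeries.ext fun j => by
      have h1 := X_pow_dvd_iff.1 (h (j + 1)) j (Nat.lt_succ_self j)
      rwa [map_sub, sub_eq_zero] at h1
  have hexact : ∀ (Q : Polynomial k), ψ₀ (ev Q) = (Q : PowerSeries k) := fun Q =>
    hext _ _ fun r => (hcl r _ Q).1 (by rw [sub_self]; exact zero_mem _)
  have hadd : ∀ x y, ψ₀ (x + y) = ψ₀ x + ψ₀ y := fun x y => hext _ _ fun r => by
    have h1 := (hcl r (x + y) (P r x + P r y)).1 (by
      rw [map_add, add_sub_add_comm]; exact add_mem (hP r x) (hP r y))
    have h2 := (hcl r x (P r x)).1 (hP r x)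
    have h3 := (hcl r y (P r y)).1 (hP r y)
    rw [Polynomial.coe_add] at h1
    convert dvd_sub h1 (dvd_add h2 h3) using 1
    ring
  have hmul : ∀ x y, ψ₀ (x * y) = ψ₀ x * ψ₀ y := fun x y => hext _ _ fun r => by
    have h1 := (hcl r (x * y) (P r x * P r y)).1 (by
      rw [map_mul, show x * y - ev (P r x) * ev (P r y) = (x - ev (P r x)) * y + ev (P r x) * (y - ev (P r y)) by ring]
      exact add_mem (Ideal.mul_mem_right _ _ (hP r x)) (Ideal.mul_mem_left _ _ (hP r y)))
    have h2 := (hcl r x (P r x)).1 (hP r x)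
    have h3 := (hcl r y (P r y)).1 (hP r y)
    rw [Polynomial.coe_mul] at h1
    convert dvd_sub h1 (dvd_add (dvd_mul_of_dvd_left h2 (ψ₀ y))
      (dvd_mul_of_dvd_right h3 (P r x : PowerSeries k))) using 1
    ring
  have hcomm : ∀ c : k, ψ₀ (algebraMap k R c) = algebraMap k (PowerSeries k) c := fun c => by
    have h := hexact (Polynomial.C c)
    simp only [ev, Polynomial.aeval_C, Polynomial.coe_C] at h
    exact h
  let ψ : R →ₐ[k] PowerSeries k :=
    { toFun := ψ₀
      map_one' := by simpa using hcomm 1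
      map_mul' := hmul
      map_zero' := by simpa using hcomm 0
      map_add' := hadd
      commutes' := hcomm }
  refine ⟨ψ, fun r x => ?_, fun r f => ⟨ev (trunc r f), ?_⟩⟩
  · have h := hcl r x 0
    simp only [map_zero, sub_zero, Polynomial.coe_zero] at h
    exact h
  · show X ^ r ∣ ψ₀ (ev (trunc r f)) - f
    rw [hexact, X_pow_dvd_iff]
    intro j hj
    rw [map_sub, Polynomial.coeff_coe, coeff_trunc, if_pos hj, sub_self]

/-- A ring map to power series whose filtration is the `m`-adic one and which is dense in `S` identifies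
the completion with `S`. -/
theorem exists_completion_map {A : Type v} [CommRing A] (m : Ideal A) {ι : Type*}
    (θ : A →+* ι → PowerSeries k) (h : ∀ r a, a ∈ m ^ r ↔ ∀ i, X ^ r ∣ θ a i)
    (S : Set (ι → PowerSeries k))
    (hS : ∀ f, f ∈ S ↔ ∀ i j, constantCoeff (f i) = constantCoeff (f j))
    (hθ : ∀ a, θ a ∈ S)
    (hd : ∀ r, ∀ f ∈ S, ∃ a, ∀ i, X ^ r ∣ θ a i - f i) :
    ∃ φ : AdicCompletion m A →+* (ι → PowerSeries k),
      Function.Injective φ ∧ Set.range φ = S ∧ ∀ a, φ (algebraMap A _ a) = θ a := by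
  classical
  have hrep : ∀ (z : AdicCompletion m A) (r : ℕ), ∃ a, Ideal.Quotient.mk (m ^ r) a = AdicCompletion.evalₐ m r z :=
    fun z r => Ideal.Quotient.mk_surjective _
  choose a ha using hrep
  have hcong : ∀ z r a', Ideal.Quotient.mk (m ^ r) a' = AdicCompletion.evalₐ m r z → ∀ s ≥ r, ∀ i,
      X ^ r ∣ θ (a z s) i - θ a' i := fun z r a' ha' s hs i => by
    have h1 : a z s - a' ∈ m ^ r := by
      have hz1 := ha z s
      obtain ⟨c, hc⟩ := AdicCompletion.mk_surjective m A z
      subst hc
      rw [AdicCompletion.evalₐ_mk, Ideal.Quotient.eq] at ha' hz1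
      have h3 : c.val r - c.val s ∈ m ^ r := by
        have := c.2 hs
        rwa [SModEq.sub_mem, smul_eq_mul, Ideal.mul_top] at this
      rw [show a (AdicCompletion.mk m A c) s - a' =
        (a (AdicCompletion.mk m A c) s - c.val s) - (a' - c.val r) - (c.val r - c.val s) by ring]
      exact sub_mem (sub_mem (Ideal.pow_le_pow_right hs hz1) ha') h3
    have h2 := (h r _).1 h1 i
    rwa [map_sub, Pi.sub_apply] at h2
  let φ₀ : AdicCompletion m A → ι → PowerSeries k := fun z i => mk fun j => coeff j (θ (a z (j + 1)) i)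
  have hφ : ∀ z r a', Ideal.Quotient.mk (m ^ r) a' = AdicCompletion.evalₐ m r z → ∀ i,
      X ^ r ∣ φ₀ z i - θ a' i := fun z r a' ha' i => by
    refine X_pow_dvd_iff.2 fun j hj => ?_
    have h1 := X_pow_dvd_iff.1 (hcong z (j + 1) (a z (j + 1)) (ha _ _) r hj i) j (Nat.lt_succ_self j)
    have h2 := X_pow_dvd_iff.1 (hcong z r a' ha' r le_rfl i) j hj
    simp only [map_sub, φ₀, coeff_mk] at h1 h2 ⊢
    linear_combination h2 - h1
  have hext : ∀ f g : ι → PowerSeries k, (∀ r i, X ^ r ∣ f i - g i) → f = g := fun f g hfg =>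
    funext fun i => PowerSeries.ext fun j => by
      have h1 := X_pow_dvd_iff.1 (hfg (j + 1) i) j (Nat.lt_succ_self j)
      rwa [map_sub, sub_eq_zero] at h1
  have hof : ∀ x, φ₀ (algebraMap A _ x) = θ x := fun x => hext _ _ fun r i =>
    hφ _ r x (by rw [AlgHom.commutes]; rfl) i
  let φ : AdicCompletion m A →+* (ι → PowerSeries k) :=
    { toFun := φ₀
      map_one' := by rw [← map_one (algebraMap A (AdicCompletion m A)), hof, map_one]
      map_mul' := fun z w => hext _ _ fun r i => by
        have h1 := hφ (z * w) r (a z r * a w r) (by rw [map_mul, map_mul, ha, ha]) i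
        have h2 := hφ z r _ (ha z r) i
        have h3 := hφ w r _ (ha w r) i
        rw [map_mul, Pi.mul_apply] at h1
        rw [Pi.mul_apply]
        convert dvd_sub h1 (dvd_add (dvd_mul_of_dvd_left h2 (φ₀ w i)) (dvd_mul_of_dvd_right h3 (θ (a z r) i))) using 1
        ring
      map_zero' := by rw [← map_zero (algebraMap A (AdicCompletion m A)), hof, map_zero]
      map_add' := fun z w => hext _ _ fun r i => by
        have h1 := hφ (z + w) r (a z r + a w r) (by rw [map_add, map_add, ha, ha]) i
        have h2 := hφ z r _ (ha z r) i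
        have h3 := hφ w r _ (ha w r) i
        rw [map_add, Pi.add_apply] at h1
        rw [Pi.add_apply]
        convert dvd_sub h1 (dvd_add h2 h3) using 1
        ring }
  refine ⟨φ, (injective_iff_map_eq_zero φ).2 fun z hz => ?_, Set.Subset.antisymm ?_ fun f hf => ?_, hof⟩
  · refine AdicCompletion.ext_evalₐ fun r => ?_
    rw [map_zero, ← ha, Ideal.Quotient.eq_zero_iff_mem, h]
    intro i
    have h1 := hφ z r _ (ha z r) i
    rw [show φ₀ z i = 0 from congrFun hz i, zero_sub] at h1
    exact (dvd_neg).1 h1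
  · rintro _ ⟨z, rfl⟩
    have h1 := fun i => X_pow_dvd_iff.1 (hφ z 1 _ (ha z 1) i) 0 Nat.one_pos
    simp only [map_sub, coeff_zero_eq_constantCoeff_apply, sub_eq_zero] at h1
    rw [hS]
    intro i j
    show constantCoeff (φ₀ z i) = constantCoeff (φ₀ z j)
    rw [h1 i, h1 j]
    exact (hS _).1 (hθ _) i j
  · choose b hb using fun r => hd r f hf
    have hcau : ∀ {r s}, r ≤ s → b r - b s ∈ m ^ r := fun {r s} hrs => (h r _).2 fun i => by
      rw [map_sub, Pi.sub_apply]
      convert dvd_sub (hb r i) ((pow_dvd_pow X hrs).trans (hb s i)) using 1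
      ring
    let c : AdicCompletion.AdicCauchySequence m A := ⟨b, fun {r s} hrs => by
      rw [SModEq.sub_mem, smul_eq_mul, Ideal.mul_top]; exact hcau hrs⟩
    refine ⟨AdicCompletion.mk m A c, hext _ _ fun r i => ?_⟩
    have h1 := hφ (AdicCompletion.mk m A c) r (b r) (by rw [AdicCompletion.evalₐ_mk]) i
    convert dvd_add h1 (hb r i) using 1
    show φ₀ _ i - f i = _
    ring

end Groth.Agent.CurveGor.Multi
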