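import Groth.Agent.CurveGor.DeltaScheme
import Groth.Agent.GeomField.GlobalFunctions
import Groth.Agent.CurveVA.Criterion
import Groth.Agent.S1589

/-!
# Global functions and the genus formula for nodal curves
-/

set_option autoImplicit false
set_option linter.style.haveILetI false
set_option linter.unusedSectionVars false
set_option backward.isDefEq.respectTransparency false
set_option backward.isDefEq.respectTransparency.types false
set_option maxHeartbeats 1000000
set_option synthInstance.maxHeartbeats 200000

universe u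

open CategoryTheory CategoryTheory.Limits AlgebraicGeometry TopologicalSpace Opposite

noncomputable section

namespace Groth.Agent.CurveGor

open Groth.Agent
open Groth.Agent.CurveVA (resInv resInv_resMap resInv_eq_zero)

variable {X : Scheme.{u}}

attribute [local instance] Curv2.resAlgebra Curv2.stalkAlgebra GeomField.globalAlgebra

/-- A clopen set gives an idempotent function. -/
theorem exists_indicator (Z : Set X) (hZ : IsClopen Z) :
    ∃ e : Γ(X, ⊤), (∀ z ∈ Z, X.presheaf.germ ⊤ z trivial e = 1) ∧
      ∀ z ∉ Z, X.presheaf.germ ⊤ z trivial e = 0 := by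
  classical
  let A : Bool → X.Opens := fun b => cond b ⟨Z, hZ.isOpen⟩ ⟨Zᶜ, hZ.isClosed.isOpen_compl⟩
  let sf : (b : Bool) → Γ(X, A b) := fun b => cond b 1 0
  let F : TopCat.Sheaf CommRingCat X.toTopCat := X.sheaf
  have hcomp : TopCat.Presheaf.IsCompatible F.presheaf A sf := fun i j => by
    have hne : ∀ z, z ∈ A true → z ∈ A false → False := fun z h1 h2 => h2 h1
    rcases i with _ | _ <;> rcases j with _ | _
    · rfl
    · refine TopCat.Presheaf.section_ext F _ _ _ fun z hz => ?_
      exact (hne z hz.2 hz.1).elim
    · refine TopCat.Presheaf.section_ext F _ _ _ fun z hz => ?_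
      exact (hne z hz.1 hz.2).elim
    · rfl
  obtain ⟨e, he, -⟩ := F.existsUnique_gluing' A ⊤ (fun b => homOfLE le_top)
    (fun z _ => Opens.mem_iSup.2 (if h : z ∈ Z then ⟨true, h⟩ else ⟨false, h⟩)) sf hcomp
  refine ⟨e, fun z hz => ?_, fun z hz => ?_⟩
  · rw [← TopCat.Presheaf.germ_res_apply X.presheaf (homOfLE (le_top : A true ≤ ⊤)) z hz e]
    refine (congrArg (X.presheaf.germ (A true) z hz) (he true)).trans ?_
    exact map_one (X.presheaf.germ (A true) z hz).hom
  · rw [← TopCat.Presheaf.germ_res_apply X.presheaf (homOfLE (le_top : A false ≤ ⊤)) z hz e]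
    refine (congrArg (X.presheaf.germ (A false) z hz) (he false)).trans ?_
    exact map_zero (X.presheaf.germ (A false) z hz).hom

variable (k : Type u) [Field k] [IsAlgClosed k] [X.Over (Spec (CommRingCat.of k))]
  [IsProper (X ↘ Spec (CommRingCat.of k))] [AlgebraicGeometry.IsReduced X]

/-- Global functions on a reduced proper scheme are the functions on the set of connected components. -/
theorem finrank_globalFunctions :
    Finite (_root_.ConnectedComponents X) ∧
      Module.finrank k (Coh.HH X (Coh.structureModule X) 0) = Nat.card (_root_.ConnectedComponents X) := by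
  classical
  haveI := CurveCohLib.isNoetherian_of_proper (k := k) (X := X)
  have hfin : Finite (_root_.ConnectedComponents X) := by
    have hc : Finite (irreducibleComponents (X : Type u)) :=
      Set.finite_coe_iff.2 NoetherianSpace.finite_irreducibleComponents
    refine Finite.of_surjective (fun Z : irreducibleComponents (X : Type u) =>
      _root_.ConnectedComponents.mk Z.2.1.nonempty.some) fun c => ?_
    obtain ⟨x, rfl⟩ := _root_.ConnectedComponents.surjective_coe c
    refine ⟨⟨_, irreducibleComponent_mem_irreducibleComponents x⟩, ?_⟩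
    rw [ConnectedComponents.coe_eq_coe']
    exact isIrreducible_irreducibleComponent.isConnected.isPreconnected.subset_connectedComponent
      mem_irreducibleComponent
      (irreducibleComponent_mem_irreducibleComponents x).1.nonempty.some_mem
  refine ⟨hfin, ?_⟩
  haveI := GeomField.algebraMap_integral k X
  haveI : JacobsonSpace X := LocallyOfFiniteType.jacobsonSpace (X ↘ Spec (CommRingCat.of k))
  -- constancy on connected components
  have hconst : ∀ f : Γ(X, ⊤), ∀ z : X, ∃ (c : k) (Z : Set X), IsClopen Z ∧ z ∈ Z ∧
      ∀ w ∈ Z, GeomField.evalHom k X w f = algebraMap k _ c := fun f z => by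
    obtain ⟨p, hp, hpf⟩ := Algebra.IsIntegral.isIntegral (R := k) f
    let roots := p.roots.toFinset
    let T : k → Set X := fun c => {w | GeomField.evalHom k X w f = algebraMap k _ c}
    have hcl : ∀ c, IsClosed (T c) := fun c => by
      have : T c = (X.basicOpen (f - algebraMap k Γ(X, ⊤) c) : Set X)ᶜ := by
        ext w
        show GeomField.evalHom k X w f = _ ↔ ¬ w ∈ X.basicOpen _
        rw [Scheme.mem_basicOpen_top, IsLocalRing.notMem_maximalIdeal.symm, not_not,
          ← IsLocalRing.residue_eq_zero_iff, ← sub_eq_zero, ← (GeomField.evalHom k X w).commutes c, ← map_sub]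
        rfl
      rw [this]
      exact (X.basicOpen _).isOpen.isClosed_compl
    have hcov : ∀ w, ∃ c ∈ roots, w ∈ T c := fun w => by
      have h0 : Polynomial.eval₂ (algebraMap k (X.residueField w)) (GeomField.evalHom k X w f) p = 0 := by
        rw [← (GeomField.evalHom k X w).comp_algebraMap]
        refine (Polynomial.hom_eval₂ _ _ _ _).symm.trans ?_
        rw [hpf, map_zero]
      rw [(IsAlgClosed.splits p).eq_prod_roots_of_monic hp, Polynomial.eval₂_multiset_prod,
        Multiset.prod_eq_zero_iff, Multiset.map_map, Multiset.mem_map] at h0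
      obtain ⟨c, hc, hc0⟩ := h0
      refine ⟨c, Multiset.mem_toFinset.2 hc, ?_⟩
      simp only [Function.comp_apply, Polynomial.eval₂_sub, Polynomial.eval₂_X, Polynomial.eval₂_C] at hc0
      exact sub_eq_zero.1 hc0
    obtain ⟨c, hc, hz⟩ := hcov z
    refine ⟨c, T c, ⟨hcl c, ?_⟩, hz, fun w hw => hw⟩
    rw [← isClosed_compl_iff]
    have : (T c)ᶜ = ⋃ d ∈ roots.erase c, T d := by
      ext w
      simp only [Set.mem_compl_iff, Set.mem_iUnion, Finset.mem_erase]
      refine ⟨fun hw => ?_, ?_⟩
      · obtain ⟨d, hd, hwd⟩ := hcov w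
        exact ⟨d, ⟨fun h => hw (h ▸ hwd), hd⟩, hwd⟩
      · rintro ⟨d, ⟨hdc, -⟩, hwd⟩ hw
        exact hdc ((algebraMap k (X.residueField w)).injective ((hwd : _ = _).symm.trans hw))
    rw [this]
    exact isClosed_biUnion_finset fun d _ => hcl d
  -- closed points in each component
  have hpt : ∀ c : _root_.ConnectedComponents X, ∃ z : X, IsClosed ({z} : Set X) ∧
      (_root_.ConnectedComponents.mk z) = c := fun c => by
    obtain ⟨x, rfl⟩ := _root_.ConnectedComponents.surjective_coe c
    obtain ⟨z, hz, hzc⟩ := nonempty_inter_closedPoints (Z := closure ({x} : Set X))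
      ((Set.singleton_nonempty x).closure) isClosed_closure.isLocallyClosed
    refine ⟨z, hzc, ConnectedComponents.coe_eq_coe'.2 ?_⟩
    exact isIrreducible_singleton.closure.isConnected.isPreconnected.subset_connectedComponent
      (subset_closure rfl) hz
  choose z hzcl hzc using hpt
  let Φ : Γ(X, ⊤) →ₗ[k] (_root_.ConnectedComponents X → k) :=
    { toFun := fun f c => resInv k (hzcl c) (GeomField.evalHom k X (z c) f)
      map_add' := fun a b => funext fun c => by simp only [map_add, Pi.add_apply]
      map_smul' := fun r a => funext fun c => by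
        show resInv k (hzcl c) (GeomField.evalHom k X (z c) (r • a)) = r * resInv k (hzcl c) _
        rw [Algebra.smul_def, map_mul, map_mul, (GeomField.evalHom k X (z c)).commutes]
        exact congrArg (· * _) (resInv_resMap k (hzcl c) r) }
  have hΦ : Function.Bijective Φ := by
    refine ⟨(injective_iff_map_eq_zero Φ).2 fun f hf => ?_, fun v => ?_⟩
    · refine (AlgebraicGeometry.basicOpen_eq_bot_iff f).1 (Opens.ext (Set.eq_empty_iff_forall_notMem.2 fun w hw => ?_))
      obtain ⟨c, Z, hZ, hwZ, hc⟩ := hconst f w
      have hzZ : z (_root_.ConnectedComponents.mk w) ∈ Z := by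
        refine hZ.connectedComponent_subset hwZ ?_
        exact ConnectedComponents.coe_eq_coe'.1 (hzc _)
      have h0 : resInv k (hzcl _) (GeomField.evalHom k X (z (_root_.ConnectedComponents.mk w)) f) = 0 := congrFun hf _
      rw [hc _ hzZ] at h0
      have hc0 : c = 0 := (resInv_resMap k (hzcl _) c).symm.trans h0
      have := hc w hwZ
      rw [hc0, map_zero] at this
      exact (IsLocalRing.mem_maximalIdeal _).1 ((IsLocalRing.residue_eq_zero_iff _).1 this)
        ((Scheme.mem_basicOpen_top X f w).1 hw)
    · haveI := Fintype.ofFinite (_root_.ConnectedComponents X)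
      choose e he1 he0 using fun c : _root_.ConnectedComponents X =>
        exists_indicator (X := X) (_root_.ConnectedComponents.mk ⁻¹' {c}) (by
          haveI : DiscreteTopology (_root_.ConnectedComponents X) := discreteTopology_iff_isOpen_singleton.2 fun c => by
            rw [← isClosed_compl_iff, ← Set.biUnion_of_singleton ({c}ᶜ : Set (_root_.ConnectedComponents X))]
            exact (Set.toFinite _).isClosed_biUnion fun _ _ => isClosed_singleton
          exact (isClopen_discrete _).preimage ConnectedComponents.continuous_coe)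
      refine ⟨∑ c, v c • e c, funext fun d => ?_⟩
      rw [map_sum, Finset.sum_apply, Finset.sum_eq_single d]
      · rw [map_smul]
        show v d * resInv k (hzcl d) (X.residue (z d) (X.presheaf.germ ⊤ (z d) trivial (e d))) = v d
        rw [he1 d (z d) (hzc d), map_one, map_one, mul_one]
      · intro c _ hcd
        rw [map_smul]
        show v c * resInv k (hzcl d) (X.residue (z d) (X.presheaf.germ ⊤ (z d) trivial (e c))) = 0
        rw [he0 c (z d) (fun h => hcd ((h : _ = c).symm.trans (hzc d))), map_zero, map_zero, mul_zero]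
      · exact fun h => absurd (Finset.mem_univ d) h
  haveI := Fintype.ofFinite (_root_.ConnectedComponents X)
  rw [GeomField.finrank_HH_zero, (LinearEquiv.ofBijective Φ hΦ).finrank_eq, Module.finrank_pi,
    Nat.card_eq_fintype_card]

omit [AlgebraicGeometry.IsReduced X] in
/-- The genus formula. -/
theorem genus_formula (hequi : ∀ Z ∈ irreducibleComponents (X : Type u), topologicalKrullDim Z = 1)
    (hX : Curv2.AtWorstNodal k X) {Y : Scheme.{u}} (π : Y ⟶ X) [IsFinite π] (hY : Pi1.IsNormalScheme Y)
    (U : X.Opens) (hU : Dense (U : Set X)) (hU' : Dense ((π ⁻¹ᵁ U : Y.Opens) : Set Y)) [IsIso (π ∣_ U)] :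
    letI : Y.Over (Spec (CommRingCat.of k)) := ⟨π ≫ (X ↘ (Spec (CommRingCat.of k)))⟩
    (Curv2.genus k X : ℤ) + Nat.card (_root_.ConnectedComponents Y) =
      (Curv2.genus k Y : ℤ) + Nat.card {x : X // Curv2.IsNode k X x} + Nat.card (_root_.ConnectedComponents X) := by
  letI : Y.Over (Spec (CommRingCat.of k)) := ⟨π ≫ (X ↘ (Spec (CommRingCat.of k)))⟩
  haveI : IsProper (Y ↘ Spec (CommRingCat.of k)) :=
    inferInstanceAs (IsProper (π ≫ (X ↘ (Spec (CommRingCat.of k)))))
  haveI := CurveCohLib.isNoetherian_of_proper (k := k) (X := X)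
  have hN : NodeFam.NodalCurve (X ↘ Spec (CommRingCat.of k)) := ⟨hequi, hX⟩
  haveI : ∀ x : X, _root_.IsReduced (X.presheaf.stalk x) := fun x => (hN.reduced_gorenstein x).1
  haveI : AlgebraicGeometry.IsReduced X := isReduced_of_isReduced_stalk X
  haveI : ∀ y : Y, _root_.IsReduced (Y.presheaf.stalk y) := fun y => by
    haveI := (hY y).1; infer_instance
  haveI : AlgebraicGeometry.IsReduced Y := isReduced_of_isReduced_stalk Y
  haveI := CurveCohLib.isNoetherian_of_proper (k := k) (X := Y)
  rcases isEmpty_or_nonempty X with hempty | ⟨⟨x₀⟩⟩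
  · haveI : IsEmpty Y := ⟨fun y => hempty.false (π y)⟩
    haveI : IsEmpty (_root_.ConnectedComponents X) := ⟨fun c => hempty.false (_root_.ConnectedComponents.surjective_coe c).choose⟩
    haveI : IsEmpty (_root_.ConnectedComponents Y) := ⟨fun c => IsEmpty.false (_root_.ConnectedComponents.surjective_coe c).choose⟩
    haveI : IsEmpty {x : X // Curv2.IsNode k X x} := ⟨fun x => hempty.false x.1⟩
    obtain ⟨-, hcX⟩ := finrank_globalFunctions (X := X) k
    have hz : ∀ (Z : Scheme.{u}) [IsEmpty Z] [Z.Over (Spec (CommRingCat.of k))], Curv2.genus k Z = 0 := fun Z _ _ => by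
      haveI : Subsingleton (Coh.HH Z (Coh.structureModule Z) 1) :=
        Euler.subsingleton_HH_of_isZero (KFlatLib.isZero_of_stalk _ fun z => isEmptyElim z) 1
      exact Module.finrank_zero_of_subsingleton
    rw [hz X, hz Y, Nat.card_of_isEmpty, Nat.card_of_isEmpty, Nat.card_of_isEmpty]
    simp
  have hdim : topologicalKrullDim X = 1 := le_antisymm (TFOneX.dim_le_one hequi) (by
    have hC := irreducibleComponent_mem_irreducibleComponents x₀
    rw [← hequi _ hC]
    exact topologicalKrullDim_subspace_le _ _)
  have hdimY : topologicalKrullDim Y ≤ 1 := by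
    rw [VarDim.topologicalKrullDim_eq_iSup_deg (Y ↘ Spec (CommRingCat.of k))]
    refine iSup_le fun y => le_trans ?_ hdim.le
    rw [VarDim.topologicalKrullDim_eq_iSup_deg (X ↘ Spec (CommRingCat.of k))]
    obtain ⟨η, hη, hs⟩ := GenusLe.exists_generization_mem_dense (X := Y) hU' y
    let j := (π ∣_ U) ≫ U.ι
    refine le_iSup_of_le (j ⟨η, hη⟩) ?_
    have h1 : VarDim.deg (Y ↘ Spec (CommRingCat.of k)) η = VarDim.deg (X ↘ Spec (CommRingCat.of k)) (j ⟨η, hη⟩) := by
      rw [← VarDim.deg_comp (X ↘ Spec (CommRingCat.of k)) j ⟨η, hη⟩]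
      refine (VarDim.deg_comp (Y ↘ Spec (CommRingCat.of k)) (π ⁻¹ᵁ U).ι ⟨η, hη⟩).symm.trans ?_
      congr 1
      exact (morphismRestrict_ι_assoc π U _).symm.trans (Category.assoc _ _ _).symm
    rw [← h1]
    exact_mod_cast VarDim.deg_le_of_specializes (Y ↘ Spec (CommRingCat.of k)) hs
  obtain ⟨he, -⟩ := Delta.euler_normalization π k hdim hequi hX rfl hY hU hU'
  rw [NefH1.euler_eq k hdim.le QCoh.isQCoh_structureModule, NefH1.euler_eq k hdimY QCoh.isQCoh_structureModule,
    (finrank_globalFunctions (X := X) k).2, (finrank_globalFunctions (X := Y) k).2] at he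
  simp only [Curv2.genus]
  omega

end Groth.Agent.CurveGor
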