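import Groth.Agent.CurveGor.Sum
import Groth.Agent.CurveDual.Dual

/-!
# In genus one without rational tails the dualizing module is trivial
-/

set_option autoImplicit false
set_option linter.style.haveILetI false
set_option linter.unusedSectionVars false
set_option backward.isDefEq.respectTransparency false
set_option backward.isDefEq.respectTransparency.types false
set_option maxHeartbeats 1000000
set_option synthInstance.maxHeartbeats 200000

universe u

open CategoryTheory CategoryTheory.Limits AlgebraicGeometry TopologicalSpace Opposite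

noncomputable section

namespace Groth.Agent.CurveGor

open Groth.Agent TFOneX

variable {X : Scheme.{u}} {k : Type u} [Field k] [X.Over (Spec (CommRingCat.of k))]
  [IsProper (X ↘ Spec (CommRingCat.of k))] [IsNoetherian X] [AlgebraicGeometry.IsReduced X] [ConnectedSpace X]
  (hdim : topologicalKrullDim X ≤ 1)
  (hgen : ∀ x ∈ genericPoints (X : Type u), ¬ IsClosed ({x} : Set X))
  {ω : X.Modules} {t : Coh.HH X ω 1 →ₗ[k] k} (hω : Canon.IsRDualOver k X 1 ω t) (hωi : PicF.IsInvertible ω)

include hdim hgen hω hωi in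
theorem nonempty_iso_structure
    (hnt : ∀ (C : Set X) (hC : C ∈ irreducibleComponents (X : Type u)), ¬ Curv2.IsRationalTail X C hC)
    (h1 : Module.finrank k (Coh.HH X (Coh.structureModule X) 1) ≠ 0)
    (hχ : Curv2.euler k X (Coh.structureModule X) = 0) : Nonempty (ω ≅ Coh.structureModule X) := by
  classical
  have hu : IsCompUnion (Set.univ : Set X) := fun x _ =>
    let ⟨η, hη, hsp⟩ := NormAmpleX.exists_generic_specializes x; ⟨η, hη, trivial, hsp⟩
  have hd0 : degOn k ω 1 (Set.univ : Set X) isClosed_univ = 0 := by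
    rw [degOn_univ k hdim (InvEnd.isFinLocFreeOfRank_one hωi), deg_dualizing hdim hgen hω hωi, hχ, mul_zero]
  let S := (finite_genericPoints (X := X)).toFinset
  have hS : ∀ η, η ∈ S ↔ η ∈ genericPoints (X : Type u) ∧ η ∈ (Set.univ : Set X) := fun η => by simp [S]
  have hnn : ∀ η ∈ genericPoints (X : Type u), 0 ≤ degOn k ω 1 (closure ({η} : Set X)) isClosed_closure := by
    intro η hη
    by_cases h : closure ({η} : Set X) = Set.univ
    · have e : degOn k ω 1 (closure ({η} : Set X)) isClosed_closure = 0 := by simp only [h]; exact hd0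
      rw [e]
    · exact degOn_component_nonneg hdim hgen hω hωi hnt hη h
  have hz : ∀ (Y : Set X) (hY : IsClosed Y), IsCompUnion Y → degOn k ω 1 Y hY = 0 := by
    intro Y hY hc
    rw [degOn_eq_sum hdim hωi _ isClosed_univ hu S hS] at hd0
    have h := (Finset.sum_eq_zero_iff_of_nonneg fun η hη => hnn η ((hS η).1 hη).1).1 hd0
    rw [degOn_eq_sum hdim hωi Y hY hc (finite_genericPoints.inter_of_left Y).toFinset fun η => Set.Finite.mem_toFinset _]
    exact Finset.sum_eq_zero fun η hη => h η ((hS η).2 ⟨((Set.Finite.mem_toFinset _).1 hη).1, trivial⟩)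
  obtain ⟨φ, hφ⟩ : ∃ φ : Coh.structureModule X ⟶ ω, φ ≠ 0 := by
    by_contra hcon
    haveI : Subsingleton (Coh.structureModule X ⟶ ω) :=
      subsingleton_of_forall_eq 0 fun φ => by_contra fun h => hcon ⟨φ, h⟩
    exact h1 ((CurveDual.finrank_hom hω QCoh.isQCoh_structureModule).symm.trans
      Module.finrank_zero_of_subsingleton)
  let T : Set X := {η | η ∈ genericPoints (X : Type u) ∧ ∃ a, sm φ η a ≠ 0}
  let Y : Set X := ⋃ η ∈ T, closure ({η} : Set X)
  have hY : IsClosed Y :=
    (finite_genericPoints.subset fun η hη => hη.1).isClosed_biUnion fun _ _ => isClosed_closure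
  have hc : IsCompUnion Y := fun x hx => by
    obtain ⟨η, hη, hxη⟩ := Set.mem_iUnion₂.1 hx
    exact ⟨η, hη.1, Set.mem_iUnion₂.2 ⟨η, hη, subset_closure rfl⟩, specializes_iff_mem_closure.2 hxη⟩
  have hmem : ∀ η ∈ genericPoints (X : Type u), η ∈ Y ↔ ∃ a, sm φ η a ≠ 0 := fun η hη => by
    refine ⟨fun h => ?_, fun h => Set.mem_iUnion₂.2 ⟨η, ⟨hη, h⟩, subset_closure rfl⟩⟩
    obtain ⟨η', hη', hηη⟩ := Set.mem_iUnion₂.1 h
    rw [← NormAmpleX.eq_of_specializes_generic hη (specializes_iff_mem_closure.2 hηη)]
    exact hη'.2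
  have hne : Y.Nonempty := by
    by_contra hcon
    exact hφ (hom_eq_zero (CurveDeg.isCoh_of_isInvertible hωi).1 (isTorsionFree_of_isInvertible hωi) φ
      fun η hη _ a => by_contra fun h => hcon ⟨η, (hmem η hη).2 ⟨a, h⟩⟩)
  have hle := le_of_hom hdim hgen hω hωi isRkOne_structure φ hY hc hmem (isQuotOn_quot hY hc)
  change chiY k Y hY + chiY k Y hY ≤ 0 at hle
  have hYu : Y = Set.univ := by
    by_contra hne'
    have h1 := one_le_kY (k := k) hdim hY hne hne'
    have h2 := degOn_dualizing hdim hgen hω hωi hY hc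
    rw [hz Y hY hc] at h2
    omega
  have hall : ∀ η ∈ genericPoints (X : Type u), ∃ a, sm φ η a ≠ 0 := fun η hη => (hmem η hη).1 (hYu ▸ trivial)
  haveI : Mono φ := Preadditive.mono_of_cancel_zero _ fun {W} z hzz =>
    hom_eq_zero QCoh.isQCoh_structureModule isTorsionFree_structure z fun η hη _ a =>
      injective_sm_of_ne isRkOne_structure φ hη (hall η hη) (by rw [← sm_comp, hzz, sm_zero, map_zero])
  have hcl : ∀ x ∈ CohB1.support (cokernel φ), IsClosed ({x} : Set X) := fun x hx =>
    isClosed_singleton_of_notMem hdim fun hη => notMem_support_cokernel φ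
      (surjective_of_injective (isRkOne_of_isInvertible hωi) φ hη (hall x hη)) hx
  have hωc := CurveDeg.isCoh_of_isInvertible hωi
  have hQc : Coh.IsCoh (cokernel φ) := QCoh.isCoh_cokernel QCoh.isQCoh_structureModule hωc φ
  have e := CurveCohLib.euler_additive (k := k) (CurveSlope.shortExact_cokernel_of_mono φ)
    QCoh.isCoh_structureModule' hωc hQc
  dsimp only at e
  have hω0 : Curv2.euler k X ω = 0 := by
    have := deg_dualizing hdim hgen hω hωi
    unfold Curv2.deg at this
    rw [hχ, Nat.cast_one, one_mul, mul_zero, sub_zero] at this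
    exact this
  rw [hω0, hχ, zero_add, CurveCohLib.euler_eq_finrank_zero (k := k) hQc hcl] at e
  haveI := S0002.result k X (cokernel φ) hQc 0
  haveI : Subsingleton (Coh.HH X (cokernel φ) 0) :=
    (Module.finrank_zero_iff (R := k)).1 (by exact_mod_cast e.symm)
  have hzq : IsZero (cokernel φ) := by
    rw [IsZero.iff_id_eq_zero]
    refine (Euler.good_of_support hQc fun y hy => (hcl y hy).closure_eq).2 _ (𝟙 (cokernel φ)) fun s => ?_
    rw [Category.comp_id]
    exact (CurveDual.homH0 (k := k) (cokernel φ)).injective (Subsingleton.elim _ _)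
  haveI : Epi φ := Preadditive.epi_of_isZero_cokernel φ hzq
  haveI := isIso_of_mono_of_epi φ
  exact ⟨(asIso φ).symm⟩

end Groth.Agent.CurveGor
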