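import Groth.Agent.CurveDual.Support
import Groth.Agent.CurveDual.Coherent
import Groth.Agent.CurvLocusLib.LocP
import Groth.Agent.S3616
import Groth.Agent.KFlatLib.Scheme.PCQCoh
import Groth.Agent.KFlatLib.Perfect.Top
import Groth.Agent.KFlatLib.PsiC
import Groth.Agent.H9Misc.QCohHull

/-!
# Gorenstein proper curves have invertible dualizing modules
-/

set_option autoImplicit false
set_option linter.style.haveILetI false
set_option linter.unusedSectionVars false
set_option backward.isDefEq.respectTransparency false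
set_option backward.isDefEq.respectTransparency.types false
set_option maxHeartbeats 1000000
set_option synthInstance.maxHeartbeats 200000

universe u

open CategoryTheory CategoryTheory.Limits AlgebraicGeometry TopologicalSpace Opposite

attribute [local instance] HasDerivedCategory.standard

noncomputable section

namespace Groth.Agent.CurveGor

open Groth.Agent KFlatLib

variable {k : Type u} [Field k] {X : Scheme.{u}}

/-- Gorenstein local rings give Gorenstein points over a field. -/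
theorem isGorensteinAt_field (f : X ⟶ Spec (CommRingCat.of k)) (x : X)
    (h : LocCoh.IsGorensteinLocalRing (X.presheaf.stalk x)) : Dual3.IsGorensteinAt f x := by
  obtain ⟨hfl, ⟨e⟩⟩ := CurvLocusLib.fibre_of_etale_base f (𝟙 _) x
  exact ⟨hfl, CurvLocusLib.gor_of_equiv e h⟩

/-- `H^{-1}` of the restriction of `O[n]`. -/
theorem hd_shift_structure (U : Scheme.{u}) (n : ℤ) :
    Nonempty (DCoh.HD ((DCoh.inD U (Coh.structureModule U))⟦n⟧) (-1) ≅ Coh.structureModule U) ∨
      IsZero (DCoh.HD ((DCoh.inD U (Coh.structureModule U))⟦n⟧) (-1)) := by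
  let H := DerivedCategory.homologyFunctor U.Modules
  let e := ((DerivedCategory.homologyFunctor U.Modules 0).shiftIso n (-1) (n + -1) rfl).app
    (DCoh.inD U (Coh.structureModule U))
  by_cases hn : n + -1 = 0
  · exact Or.inl ⟨e ≪≫ eqToIso (by rw [hn]; rfl) ≪≫ hdSingleIso _⟩
  · exact Or.inr ((hd_single_isZero _ _ hn).of_iso e)

theorem isInvertible_dualizing (f : X ⟶ Spec (CommRingCat.of k)) [IsProper f]
    [DCoh.HasRpush f] (h : DCoh.RpushPreservesQCoh f) [DCoh.HasShriek f h]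
    (OY : DCoh.DQCoh (Spec (CommRingCat.of k)))
    (hOY : Nonempty (OY.obj ≅ DCoh.inD (Spec (CommRingCat.of k)) (Coh.structureModule (Spec (CommRingCat.of k)))))
    (hG : ∀ x : X, LocCoh.IsGorensteinLocalRing (X.presheaf.stalk x))
    (hsupp : CohB1.support (DCoh.dualizingMod f h OY 1) = Set.univ) :
    PicF.IsInvertible (DCoh.dualizingMod f h OY 1) := by
  haveI : Dual3.IsSepFT f := ⟨inferInstance, inferInstance, inferInstance⟩
  haveI : Dual3.IsSepFT (𝟙 (Spec (CommRingCat.of k))) := ⟨inferInstance, inferInstance, inferInstance⟩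
  let c : DEt.Compactification f := ⟨X, 𝟙 X, f, inferInstance, inferInstance, Category.id_comp f⟩
  haveI : DCoh.HasRpush c.fbar := ‹DCoh.HasRpush f›
  have key := (S3616.result (Spec (CommRingCat.of k)) X (Spec (CommRingCat.of k)) f (𝟙 _) f
    (Category.comp_id f) c h (DCoh.shriek f h) (DCoh.shriekAdj f h) OY hOY).1
  intro x
  obtain ⟨U, hxU, hU⟩ := (key x).1 (isGorensteinAt_field f x (hG x))
  obtain ⟨V, n, hxV, ⟨e⟩⟩ := hU ⟨x, hxU⟩
  let j : (V : Scheme.{u}) ⟶ X := V.ι ≫ U.ι ≫ 𝟙 X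
  let K := DCoh.dualizingCx f h OY
  have i1 : DCoh.HD ((DCoh.restrictD V.ι).obj ((DCoh.restrictD U.ι).obj ((DCoh.restrictD (𝟙 X)).obj K))) (-1) ≅
      (Scheme.Modules.restrictFunctor V.ι).obj ((Scheme.Modules.restrictFunctor U.ι).obj
        ((Scheme.Modules.restrictFunctor (𝟙 X)).obj (DCoh.HD K (-1)))) :=
    restrictHDIso V.ι _ _ ≪≫ (Scheme.Modules.restrictFunctor V.ι).mapIso (restrictHDIso U.ι _ _ ≪≫
      (Scheme.Modules.restrictFunctor U.ι).mapIso (restrictHDIso (𝟙 X) K _))
  have i2 : DCoh.HD ((DCoh.inD (V : Scheme.{u}) (Coh.structureModule _))⟦n⟧) (-1) ≅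
      (Scheme.Modules.restrictFunctor V.ι).obj ((Scheme.Modules.restrictFunctor U.ι).obj
        ((Scheme.Modules.restrictFunctor (𝟙 X)).obj (DCoh.HD K (-1)))) :=
    ((DerivedCategory.homologyFunctor _ (-1)).mapIso e.symm) ≪≫ i1
  let j' : (V : Scheme.{u}) ⟶ X := V.ι ≫ U.ι
  let M := DCoh.dualizingMod f h OY 1
  let i3 : DCoh.HD ((DCoh.inD (V : Scheme.{u}) (Coh.structureModule _))⟦n⟧) (-1) ≅ M.restrict j' :=
    i2 ≪≫ (Scheme.Modules.restrictFunctor V.ι).mapIso
      (restrict₂Iso U.ι (𝟙 X) U.ι (Category.comp_id _) M) ≪≫ restrict₂Iso V.ι U.ι j' rfl M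
  rcases hd_shift_structure (V : Scheme.{u}) n with ⟨⟨i4⟩⟩ | hz
  · let W := j'.opensRange
    let i : (W : Scheme.{u}) ⟶ (V : Scheme.{u}) := j'.isoOpensRange.inv
    haveI : IsOpenImmersion i := inferInstanceAs (IsOpenImmersion j'.isoOpensRange.inv)
    obtain ⟨e₀⟩ := PicClLib.nonempty_pullback_structureModule i
    refine ⟨W, ⟨⟨⟨x, hxU⟩, hxV⟩, rfl⟩, ⟨?_⟩⟩
    exact (restrict₂Iso i j' W.ι (by simp [i, W]) M).symm ≪≫
      (Scheme.Modules.restrictFunctor i).mapIso (i3.symm ≪≫ i4) ≪≫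
      (Scheme.Modules.restrictFunctorIsoPullback i).app _ ≪≫ e₀
  · have h0 := H9Misc.QCohHull.isZero_stalk_of_restrict j' M (hz.of_iso i3.symm) ⟨⟨x, hxU⟩, hxV⟩
    have hx : x ∈ CohB1.support M := hsupp ▸ Set.mem_univ x
    haveI := ModuleCat.subsingleton_of_isZero h0
    exact absurd this hx

end Groth.Agent.CurveGor
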