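import Groth.Agent.CurveGor.PointedTwist
import Groth.Agent.Pic13Lib.SectBound

/-!
# Degrees of pullbacks of `O(1)` along maps to projective space
-/

set_option autoImplicit false
set_option linter.style.haveILetI false
set_option linter.unusedSectionVars false
set_option backward.isDefEq.respectTransparency false
set_option backward.isDefEq.respectTransparency.types false
set_option maxHeartbeats 1000000
set_option synthInstance.maxHeartbeats 200000

universe u

open CategoryTheory CategoryTheory.Limits AlgebraicGeometry TopologicalSpace Opposite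

noncomputable section

namespace Groth.Agent.CurveGor

open Groth.Agent TFOneX

variable {X : Scheme.{u}} {k : Type u} [Field k] [X.Over (Spec (CommRingCat.of k))]
  [IsProper (X ↘ Spec (CommRingCat.of k))] [IsNoetherian X] [AlgebraicGeometry.IsReduced X]
  {N : ℕ} (π : X ⟶ CohB1.ProjSpace N k) (hπ : π ≫ CohB1.ProjSpace.toSpec N k = X ↘ Spec (CommRingCat.of k))
  (hdim : topologicalKrullDim X ≤ 1) (hgen : ∀ x ∈ genericPoints (X : Type u), ¬ IsClosed ({x} : Set X))

include hπ hdim hgen in
/-- A component is contracted or has positive degree. -/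
theorem one_le_degOn_of_nonconstant {η : X} (hη : η ∈ genericPoints (X : Type u))
    (hne : ¬ IsClosed ({π η} : Set (CohB1.ProjSpace N k))) :
    1 ≤ degOn k ((Scheme.Modules.pullback π).obj (Twist.twistProjSpace N k 1)) 1
      (closure ({η} : Set X)) isClosed_closure := by
  let I := vI (closure ({η} : Set X)) isClosed_closure
  haveI := isIntegral_closure (k := k) η
  letI : I.subscheme.Over (Spec (CommRingCat.of k)) := ⟨I.subschemeι ≫ (X ↘ (Spec (CommRingCat.of k)))⟩
  haveI : IsProper (I.subscheme ↘ Spec (CommRingCat.of k)) :=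
    inferInstanceAs (IsProper (I.subschemeι ≫ (X ↘ (Spec (CommRingCat.of k)))))
  haveI : IsNoetherian I.subscheme := CurveCohLib.isNoetherian_of_proper (k := k) (X := I.subscheme)
  haveI : IsProper (CohB1.ProjSpace.toSpec N k) := PnCoh.Chow.isProper_toSpec N k
  let g := I.subschemeι ≫ π
  haveI : IsProper g := by
    haveI : IsProper (g ≫ CohB1.ProjSpace.toSpec N k) := by
      rw [Category.assoc, hπ]; infer_instance
    exact IsProper.of_comp g (CohB1.ProjSpace.toSpec N k)
  have hd := dim_subscheme (k := k) hdim hgen isClosed_closure (isCompUnion_closure hη) ⟨η, subset_closure rfl⟩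
  obtain ⟨z, hz⟩ : η ∈ Set.range I.subschemeι := (range_subschι _ isClosed_closure).symm ▸ subset_closure rfl
  have hzgen : ∀ w : I.subscheme, z ⤳ w := fun w => by
    rw [← I.subschemeι.isClosedEmbedding.isInducing.specializes_iff, hz, specializes_iff_mem_closure]
    exact (range_subschι _ isClosed_closure) ▸ Set.mem_range_self w
  have hcl : ∀ w : I.subscheme, w ≠ z → IsClosed ({w} : Set I.subscheme) := fun w hw =>
    isClosed_singleton_of_notMem (hd.le) fun hg =>
      hw (NormAmpleX.eq_of_specializes_generic hg (hzgen w)).symm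
  have hgz : ¬ IsClosed ({g z} : Set (CohB1.ProjSpace N k)) := by
    show ¬ IsClosed ({π (I.subschemeι z)} : Set (CohB1.ProjSpace N k))
    rwa [hz]
  haveI : LocallyQuasiFinite g := by
    rw [locallyQuasiFinite_iff_finite_preimage_singleton]
    intro y
    by_cases h : z ∈ g ⁻¹' closure {y}
    · refine (Set.finite_singleton z).subset fun w (hw : g w = y) => by_contra fun hwz => ?_
      have h1 : y ⤳ g z := specializes_iff_mem_closure.2 h
      have h2 : g z ⤳ y := hw ▸ (hzgen w).map g.continuous
      have h3 : y = g z := (h1.antisymm h2).eq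
      refine hgz ?_
      rw [← h3, ← hw, ← Set.image_singleton]
      exact g.isClosedMap _ (hcl w hwz)
    · refine (CurveCohLib.finite_of_closedPoints (isClosed_closure.preimage g.continuous)
        fun w hw => hcl w fun e => h (e ▸ hw)).subset fun w (hw : g w = y) => ?_
      show g w ∈ closure {y}
      rw [hw]
      exact subset_closure rfl
  haveI : IsFinite g := IsFinite.of_isProper_of_locallyQuasiFinite g
  have hA := AmpleVan.FiniteSurj.isAmple_pullback_of_isAffineHom g
    (Pic13Lib.NumTriv.isAmple_twistProjSpace_one (k := k) (n := N))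
  have h := CurveAmple.deg_pos_of_ample (k := k) hd hA
  rw [← CurveRR.deg_congr k ((Scheme.Modules.pullbackComp I.subschemeι π).app
    (Twist.twistProjSpace N k 1)) 1] at h
  exact h

include hπ in
/-- A connected subcurve all of whose components are contracted goes to a point. -/
theorem constant_of_contracted {Y : Set X} (hY : IsClosed Y) (hc : IsCompUnion Y) (hconn : _root_.IsConnected Y)
    (h : ∀ η ∈ genericPoints (X : Type u), η ∈ Y → IsClosed ({π η} : Set (CohB1.ProjSpace N k)))
    {x y : X} (hx : x ∈ Y) (hy : y ∈ Y) : π x = π y := by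
  have hG : (π '' (genericPoints (X : Type u) ∩ Y)).Finite := (finite_genericPoints.inter_of_left Y).image _
  have hsub : π '' Y ⊆ π '' (genericPoints (X : Type u) ∩ Y) := by
    rintro _ ⟨w, hw, rfl⟩
    obtain ⟨η, hη, hηY, hsp⟩ := hc w hw
    exact ⟨η, ⟨hη, hηY⟩, ((hsp.map π.continuous).mem_closed (h η hη hηY) rfl).symm⟩
  have hcl : ∀ S ⊆ π '' (genericPoints (X : Type u) ∩ Y), IsClosed S := fun S hS => by
    rw [← Set.biUnion_of_singleton S]
    refine (hG.subset hS).isClosed_biUnion fun s hs => ?_
    obtain ⟨η, hη, rfl⟩ := hS hs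
    exact h η hη.1 hη.2
  by_contra hne
  obtain ⟨z, -, hz1, hz2⟩ := (isPreconnected_closed_iff.1 (hconn.isPreconnected.image π π.continuous.continuousOn))
    {π x} (π '' Y \ {π x}) (hcl _ (Set.singleton_subset_iff.2 (hsub ⟨x, hx, rfl⟩)))
    (hcl _ (Set.diff_subset.trans hsub))
    (fun w hw => (em (w = π x)).imp id fun h => ⟨hw, h⟩)
    ⟨π x, ⟨x, hx, rfl⟩, rfl⟩ ⟨π y, ⟨y, hy, rfl⟩, ⟨y, hy, rfl⟩, fun h => hne h.symm⟩
  exact hz2.2 hz1

end Groth.Agent.CurveGor
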