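import Groth.Agent.CurveGor.Num
import Groth.Agent.CurveGor.Nodal
import Groth.Agent.GeomField.GlobalFunctions
import Groth.Agent.PnCoh.PushNat
import Groth.Agent.CurveGor.Meet

/-!
# Rational tails: subcurves over the field of their global functions
-/

set_option autoImplicit false
set_option linter.style.haveILetI false
set_option linter.unusedSectionVars false
set_option backward.isDefEq.respectTransparency false
set_option backward.isDefEq.respectTransparency.types false
set_option maxHeartbeats 1000000
set_option synthInstance.maxHeartbeats 200000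

universe u

open CategoryTheory CategoryTheory.Limits AlgebraicGeometry TopologicalSpace Opposite

attribute [local instance] HasDerivedCategory.standard

noncomputable section

namespace Groth.Agent.CurveGor

open Groth.Agent TFOneX

variable {X : Scheme.{u}} {k : Type u} [Field k] [X.Over (Spec (CommRingCat.of k))]
  [IsProper (X ↘ Spec (CommRingCat.of k))]

/-- The scheme `Y` over `k`. -/
@[reducible] def overSub (J : X.IdealSheafData) : J.subscheme.Over (Spec (CommRingCat.of k)) :=
  ⟨J.subschemeι ≫ (X ↘ Spec (CommRingCat.of k))⟩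

/-- The ideal of the closure of an open complement. -/
theorem ker_compl_eq [AlgebraicGeometry.IsReduced X] [IsNoetherian X] {C : Set X} (hC : IsClosed C) :
    (Scheme.Opens.ι (⟨Cᶜ, hC.isOpen_compl⟩ : X.Opens)).ker = cI C := by
  let V : X.Opens := ⟨Cᶜ, hC.isOpen_compl⟩
  refine Scheme.IdealSheafData.ext (funext fun U => Ideal.ext fun r => ?_)
  rw [Scheme.Hom.ker_apply, RingHom.mem_ker, mem_vI_ideal]
  constructor
  · intro h x hx hxU hb
    obtain ⟨z, hz, hzV⟩ := mem_closure_iff.1 hx _ (X.basicOpen r).2 hb
    have h1 : (⟨z, hzV⟩ : V) ∈ V.ι ⁻¹ᵁ X.basicOpen r := hz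
    rw [Scheme.preimage_basicOpen, h, Scheme.basicOpen_zero] at h1
    exact h1
  · intro h
    refine eq_zero_of_basicOpen_eq_bot _ (Opens.ext (Set.eq_empty_iff_forall_notMem.2 fun z hz => ?_))
    rw [← Scheme.preimage_basicOpen] at hz
    exact h (V.ι z) (subset_closure z.2) (X.basicOpen_le r hz) hz

variable [AlgebraicGeometry.IsReduced X]

/-- `h^0(O_Y)`. -/
def ell (k : Type u) [Field k] [X.Over (Spec (CommRingCat.of k))] (Y : Set X) (hY : IsClosed Y) : ℕ :=
  Module.finrank k (Coh.HH X (ClSub.quotMod (vI Y hY)) 0)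

/-- `h^1(O_Y)`. -/
def gam (k : Type u) [Field k] [X.Over (Spec (CommRingCat.of k))] (Y : Set X) (hY : IsClosed Y) : ℕ :=
  Module.finrank k (Coh.HH X (ClSub.quotMod (vI Y hY)) 1)

theorem chiY_eq' [IsNoetherian X] (hdim : topologicalKrullDim X ≤ 1) {Y : Set X} (hY : IsClosed Y) :
    chiY k Y hY = (ell k Y hY : ℤ) - (gam k Y hY : ℤ) :=
  NefH1.euler_eq k hdim (ParShLib.isCoh_quotMod _).1

theorem finrank_HH_quot (J : X.IdealSheafData) (n : ℕ) :
    Module.finrank k (Coh.HH X (ClSub.quotMod J) n) =
      @Module.finrank k (Coh.HH J.subscheme (Coh.structureModule J.subscheme) n) _ _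
        (letI := overSub (k := k) J; inferInstance) := by
  haveI := CurveCohLib.isNoetherian_of_proper (k := k) (X := X)
  letI := overSub (k := k) J
  obtain ⟨l⟩ := PnCoh.exists_linearEquiv_push k J.subschemeι rfl
    (QCoh.isQCoh_structureModule (X := J.subscheme)) n
  exact l.finrank_eq.symm

theorem finrank_zero_quot (J : X.IdealSheafData) :
    Module.finrank k (Coh.HH X (ClSub.quotMod J) 0) =
      @Module.finrank k Γ(J.subscheme, ⊤) _ _
        (letI := overSub (k := k) J; letI := GeomField.globalAlgebra k J.subscheme; inferInstance) := by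
  letI := overSub (k := k) J
  exact (finrank_HH_quot J 0).trans (GeomField.finrank_HH_zero k J.subscheme)

include k in
theorem isField_sections {Y : Set X} (hY : IsClosed Y) (hconn : _root_.IsConnected Y) :
    IsField Γ((vI Y hY).subscheme, ⊤) := by
  letI := overSub (k := k) (vI Y hY)
  haveI := connectedSpace_subscheme hY hconn
  haveI : IsProper ((vI Y hY).subscheme ↘ Spec (CommRingCat.of k)) :=
    inferInstanceAs (IsProper ((vI Y hY).subschemeι ≫ (X ↘ Spec (CommRingCat.of k))))
  exact GeomField.isField_globalFunctions k (vI Y hY).subscheme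

/-- `h^1` of a connected reduced curve is at least `h^0` unless it is zero. -/
theorem ell_le_gam {Y : Set X} (hY : IsClosed Y) (hconn : _root_.IsConnected Y) (h : gam k Y hY ≠ 0) :
    ell k Y hY ≤ gam k Y hY := by
  haveI := CurveCohLib.isNoetherian_of_proper (k := k) (X := X)
  let Z := (vI Y hY).subscheme
  letI := overSub (k := k) (vI Y hY)
  haveI : IsProper (Z ↘ Spec (CommRingCat.of k)) :=
    inferInstanceAs (IsProper ((vI Y hY).subschemeι ≫ (X ↘ Spec (CommRingCat.of k))))
  rw [ell, finrank_zero_quot, gam, finrank_HH_quot]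
  rw [gam, finrank_HH_quot] at h
  letI := GeomField.globalAlgebra k Z
  let H := Coh.HH Z (Coh.structureModule Z) 1
  letI mZ : Module Γ(Z, ⊤) H :=
    Module.compHom H (RingHom.id Γ(Z, ⊤) : Γ(Z, ⊤) →+* Coh.Γtop Z)
  haveI : IsScalarTower k Γ(Z, ⊤) H := IsScalarTower.of_algebraMap_smul fun r x => rfl
  letI : DivisionRing Γ(Z, ⊤) := ((isField_sections (k := k) hY hconn).toField).toDivisionRing
  haveI : Module.Free Γ(Z, ⊤) H := Module.Free.of_divisionRing _ _
  have e := Module.finrank_mul_finrank k Γ(Z, ⊤) H
  have hne : Module.finrank Γ(Z, ⊤) H ≠ 0 := fun h0 => h (by rw [← e, h0, mul_zero])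
  exact e ▸ Nat.le_mul_of_pos_right _ (Nat.pos_of_ne_zero hne)

/-- `k_Y` is a positive multiple of `h^0(O_Y)`. -/
theorem exists_kY_mul [ConnectedSpace X] (hdim : topologicalKrullDim X ≤ 1) {Y : Set X} (hY : IsClosed Y)
    (hconn : _root_.IsConnected Y) (hu : Y ≠ Set.univ) :
    ∃ a : ℕ, 1 ≤ a ∧ kY k Y hY = (ell k Y hY : ℤ) * a ∧
      (a = 1 → Function.Bijective (Scheme.IdealSheafData.inclusion
        (le_sup_left : vI Y hY ≤ vI Y hY ⊔ cI Y)).appTop) := by
  haveI := CurveCohLib.isNoetherian_of_proper (k := k) (X := X)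
  have h1 := one_le_kY (k := k) hdim hY hconn.nonempty hu
  let I := vI Y hY ⊔ cI Y
  let C := (vI Y hY).subscheme
  letI := overSub (k := k) (vI Y hY)
  letI := overSub (k := k) I
  haveI : IsProper (I.subscheme ↘ Spec (CommRingCat.of k)) :=
    inferInstanceAs (IsProper (I.subschemeι ≫ (X ↘ Spec (CommRingCat.of k))))
  have eI : kY k Y hY = (@Module.finrank k Γ(I.subscheme, ⊤) _ _
      (letI := GeomField.globalAlgebra k I.subscheme; inferInstance) : ℤ) := by
    rw [kY, finrank_zero_quot]
  letI := GeomField.globalAlgebra k C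
  letI := GeomField.globalAlgebra k I.subscheme
  let r := (Scheme.IdealSheafData.inclusion (le_sup_left : vI Y hY ≤ I)).appTop.hom
  letI : Algebra Γ(C, ⊤) Γ(I.subscheme, ⊤) := r.toAlgebra
  haveI : IsScalarTower k Γ(C, ⊤) Γ(I.subscheme, ⊤) := IsScalarTower.of_algebraMap_eq fun c => by
    show (I.subschemeι ≫ (X ↘ Spec (CommRingCat.of k))).appTop ((Scheme.ΓSpecIso _).inv c) =
      (Scheme.IdealSheafData.inclusion (le_sup_left : vI Y hY ≤ I)).appTop
        (((vI Y hY).subschemeι ≫ (X ↘ Spec (CommRingCat.of k))).appTop ((Scheme.ΓSpecIso _).inv c))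
    rw [← Scheme.IdealSheafData.inclusion_subschemeι (le_sup_left : vI Y hY ≤ I), Category.assoc,
      Scheme.Hom.comp_appTop]
    rfl
  letI : Field Γ(C, ⊤) := (isField_sections (k := k) hY hconn).toField
  have e := Module.finrank_mul_finrank k Γ(C, ⊤) Γ(I.subscheme, ⊤)
  have eC : ell k Y hY = Module.finrank k Γ(C, ⊤) := by rw [ell, finrank_zero_quot]
  rw [eI] at h1
  have hk0 : Module.finrank k Γ(I.subscheme, ⊤) ≠ 0 := by omega
  have ha : Module.finrank Γ(C, ⊤) Γ(I.subscheme, ⊤) ≠ 0 := fun h0 => hk0 (by rw [← e, h0, mul_zero])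
  refine ⟨Module.finrank Γ(C, ⊤) Γ(I.subscheme, ⊤), Nat.pos_of_ne_zero ha, ?_, fun h1 => ?_⟩
  · rw [eI, eC, ← e]
    push_cast
    rfl
  · haveI : Nontrivial Γ(I.subscheme, ⊤) := Module.nontrivial_of_finrank_eq_succ h1
    refine ⟨r.injective, fun b => ?_⟩
    obtain ⟨a, ha⟩ := exists_smul_eq_of_finrank_eq_one h1 (x := (1 : Γ(I.subscheme, ⊤))) one_ne_zero b
    exact ⟨a, by rw [← ha, Algebra.smul_def, mul_one]; rfl⟩

omit [AlgebraicGeometry.IsReduced X] in
theorem residueFieldMap_surjective {A B : Scheme.{u}} (f : A ⟶ B) [IsClosedImmersion f] (c : A) :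
    Function.Surjective (f.residueFieldMap c) := fun y => by
  obtain ⟨s, rfl⟩ := A.residue_surjective c y
  obtain ⟨t, rfl⟩ := f.stalkMap_surjective c s
  exact ⟨B.residue (f c) t, congr(($(Scheme.residue_residueFieldMap f c)) t)⟩

/-- The conditions of a rational tail, with the ideal of the rest as a parameter. -/
def TailCond (IC IX' : X.IdealSheafData) : Prop :=
  (IX'.support : Set X).Nonempty ∧
    Nonempty (IC ⊔ IX').subscheme ∧ Subsingleton (IC ⊔ IX').subscheme ∧ AlgebraicGeometry.IsReduced (IC ⊔ IX').subscheme ∧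
    (∀ c : (IC ⊔ IX').subscheme, Function.Bijective
      (IC.subscheme.evaluation ⊤ ((Scheme.IdealSheafData.inclusion (le_sup_left : IC ≤ IC ⊔ IX')).base c) trivial)) ∧
    Subsingleton (Coh.HH IC.subscheme (Coh.structureModule IC.subscheme) 1)

theorem isRationalTail_iff [IsNoetherian X] {C : Set X} (hC : C ∈ irreducibleComponents (X : Type u)) :
    Curv2.IsRationalTail X C hC ↔
      TailCond (vI C (isClosed_of_mem_irreducibleComponents C hC)) (cI C) := by
  rw [← ker_compl_eq (isClosed_of_mem_irreducibleComponents C hC)]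
  exact Iff.rfl

/-- A component meeting the rest in one point of its field of functions is a rational tail. -/
theorem isRationalTail_of [ConnectedSpace X] (hdim : topologicalKrullDim X ≤ 1) {C : Set X}
    (hC : C ∈ irreducibleComponents (X : Type u))
    (hu : C ≠ Set.univ) (hg : gam k C (isClosed_of_mem_irreducibleComponents C hC) = 0)
    (hbij : Function.Bijective (Scheme.IdealSheafData.inclusion
        (le_sup_left : vI C (isClosed_of_mem_irreducibleComponents C hC) ≤
          vI C (isClosed_of_mem_irreducibleComponents C hC) ⊔ cI C)).appTop) :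
    Curv2.IsRationalTail X C hC := by
  haveI := CurveCohLib.isNoetherian_of_proper (k := k) (X := X)
  have hCc := isClosed_of_mem_irreducibleComponents C hC
  have hconn : _root_.IsConnected C := hC.1.isConnected
  rw [isRationalTail_iff]
  let I := vI C hCc ⊔ cI C
  let Z := I.subscheme
  letI := overSub (k := k) I
  haveI : IsProper (Z ↘ Spec (CommRingCat.of k)) :=
    inferInstanceAs (IsProper (I.subschemeι ≫ (X ↘ Spec (CommRingCat.of k))))
  haveI : IsNoetherian Z := CurveCohLib.isNoetherian_of_proper (k := k) (X := Z)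
  have hcl : ∀ z : Z, IsClosed ({z} : Set Z) := fun z => by
    have hz : I.subschemeι z ∈ C ∩ closure Cᶜ := by
      have : I.subschemeι z ∈ (I.support : Set X) := I.range_subschemeι.le (Set.mem_range_self z)
      rw [Scheme.IdealSheafData.support_sup, Closeds.coe_inf, Scheme.IdealSheafData.coe_support_vanishingIdeal,
        Scheme.IdealSheafData.coe_support_vanishingIdeal] at this
      exact this
    rw [← Set.preimage_image_eq ({z} : Set Z) I.subschemeι.isClosedEmbedding.injective, Set.image_singleton]
    exact (isClosed_singleton_of_meet hdim hCc hz).preimage I.subschemeι.continuous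
  haveI : Finite Z := Set.finite_univ_iff.1 (CurveCohLib.finite_of_closedPoints isClosed_univ fun z _ => hcl z)
  haveI : T1Space Z := ⟨hcl⟩
  haveI : DiscreteTopology Z := inferInstance
  haveI : IsAffine Z := inferInstance
  have hF : IsField Γ(Z, ⊤) := by
    have hfC := isField_sections (k := k) hCc hconn
    exact MulEquiv.isField hfC (RingEquiv.ofBijective _ hbij).symm.toMulEquiv
  haveI := hF.isDomain
  haveI : Subsingleton (PrimeSpectrum Γ(Z, ⊤)) := by
    letI := hF.toField
    infer_instance
  haveI : Subsingleton (Spec Γ(Z, ⊤)) := ‹Subsingleton (PrimeSpectrum Γ(Z, ⊤))›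
  haveI hsub : Subsingleton Z := Z.isoSpec.hom.homeomorph.injective.subsingleton
  haveI : AlgebraicGeometry.IsReduced Z := by
    haveI : _root_.IsReduced Γ(Z, ⊤) := inferInstance
    exact isReduced_of_isOpenImmersion Z.isoSpec.hom
  haveI : Nonempty Z := by
    by_contra hcon
    haveI := not_nonempty_iff.1 hcon
    letI := hF.toField
    exact not_subsingleton Γ(Z, ⊤) inferInstance
  refine ⟨?_, inferInstance, hsub, inferInstance, fun c => ?_, ?_⟩
  · rw [Scheme.IdealSheafData.coe_support_vanishingIdeal]
    exact (Set.nonempty_compl.2 hu).mono subset_closure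
  · let i := Scheme.IdealSheafData.inclusion (le_sup_left : vI C hCc ≤ I)
    have hevZ : Function.Surjective (Z.evaluation ⊤ c trivial) := fun y => by
      obtain ⟨s, rfl⟩ := Z.residue_surjective c y
      haveI : Nonempty (⊤ : Z.Opens) := ⟨⟨c, trivial⟩⟩
      obtain ⟨W, hcW, t, rfl⟩ := Z.presheaf.exists_germ_eq (x := c) s
      obtain rfl : W = ⊤ := top_unique fun z _ => (Subsingleton.elim c z) ▸ hcW
      exact ⟨t, rfl⟩
    letI := (isField_sections (k := k) hCc hconn).toField
    refine ⟨((vI C hCc).subscheme.evaluation ⊤ (i c) trivial).hom.injective, fun y => ?_⟩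
    obtain ⟨z, hz⟩ := hevZ (i.residueFieldMap c y)
    obtain ⟨t, rfl⟩ := hbij.2 z
    refine ⟨t, (i.residueFieldMap c).hom.injective ?_⟩
    exact (Scheme.Γevaluation_naturality_apply i c t).trans hz
  · letI := overSub (k := k) (vI C hCc)
    rw [gam, finrank_HH_quot] at hg
    haveI : IsProper ((vI C hCc).subscheme ↘ Spec (CommRingCat.of k)) :=
      inferInstanceAs (IsProper ((vI C hCc).subschemeι ≫ (X ↘ Spec (CommRingCat.of k))))
    haveI : IsNoetherian (vI C hCc).subscheme := CurveCohLib.isNoetherian_of_proper (k := k) (X := (vI C hCc).subscheme)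
    haveI := S0002.result k (vI C hCc).subscheme (Coh.structureModule _) QCoh.isCoh_structureModule' 1
    exact (Module.finrank_zero_iff (R := k)).1 hg

/-- A rational tail has `k_C ≤ h^0` and no `h^1`. -/
theorem of_isRationalTail [ConnectedSpace X] (hdim : topologicalKrullDim X ≤ 1) {C : Set X}
    (hC : C ∈ irreducibleComponents (X : Type u)) (h : Curv2.IsRationalTail X C hC) :
    C ≠ Set.univ ∧ gam k C (isClosed_of_mem_irreducibleComponents C hC) = 0 ∧
      kY k C (isClosed_of_mem_irreducibleComponents C hC) = ell k C (isClosed_of_mem_irreducibleComponents C hC) := by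
  haveI := CurveCohLib.isNoetherian_of_proper (k := k) (X := X)
  have hCc := isClosed_of_mem_irreducibleComponents C hC
  have hconn : _root_.IsConnected C := hC.1.isConnected
  rw [isRationalTail_iff] at h
  obtain ⟨hne, hnZ, hsub, hred, heval, h1⟩ := h
  have hu : C ≠ Set.univ := fun hu => by
    rw [Scheme.IdealSheafData.coe_support_vanishingIdeal] at hne
    simp [hu] at hne
  refine ⟨hu, ?_, ?_⟩
  · letI := overSub (k := k) (vI C hCc)
    rw [gam, finrank_HH_quot]
    haveI := h1
    exact Module.finrank_zero_of_subsingleton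
  · let I := vI C hCc ⊔ cI C
    let i := Scheme.IdealSheafData.inclusion (le_sup_left : vI C hCc ≤ I)
    letI := overSub (k := k) (vI C hCc)
    letI := overSub (k := k) I
    have eI : kY k C hCc = (@Module.finrank k Γ(I.subscheme, ⊤) _ _
        (letI := GeomField.globalAlgebra k I.subscheme; inferInstance) : ℤ) := by
      rw [kY, finrank_zero_quot]
    rw [eI, ell, finrank_zero_quot]
    letI := GeomField.globalAlgebra k (vI C hCc).subscheme
    letI := GeomField.globalAlgebra k I.subscheme
    let r : Γ((vI C hCc).subscheme, ⊤) →ₐ[k] Γ(I.subscheme, ⊤) :=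
      { toRingHom := i.appTop.hom
        commutes' := fun c => by
          show i.appTop (((vI C hCc).subschemeι ≫ (X ↘ Spec (CommRingCat.of k))).appTop ((Scheme.ΓSpecIso _).inv c)) =
            (I.subschemeι ≫ (X ↘ Spec (CommRingCat.of k))).appTop ((Scheme.ΓSpecIso _).inv c)
          rw [← Scheme.IdealSheafData.inclusion_subschemeι (le_sup_left : vI C hCc ≤ I), Category.assoc,
            Scheme.Hom.comp_appTop i]
          rfl }
    have hsurj : Function.Surjective r := fun z => by
      obtain ⟨c⟩ := hnZ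
      obtain ⟨y, hy⟩ : ∃ y, i.residueFieldMap c y = I.subscheme.evaluation ⊤ c trivial z :=
        residueFieldMap_surjective i c _
      obtain ⟨t, ht⟩ := (heval c).2 y
      refine ⟨t, sub_eq_zero.1 (eq_zero_of_basicOpen_eq_bot _ (Opens.ext
        (Set.eq_empty_iff_forall_notMem.2 fun d hd => ?_)))⟩
      obtain rfl : d = c := Subsingleton.elim _ _
      refine ((Scheme.evaluation_eq_zero_iff_notMem_basicOpen _ d (Opens.mem_top d) _).1 ?_) hd
      rw [map_sub, sub_eq_zero, ← hy, ← ht]
      exact (Scheme.Γevaluation_naturality_apply i d t).symm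
    letI : Field Γ((vI C hCc).subscheme, ⊤) := (isField_sections (k := k) hCc hconn).toField
    haveI : Nonempty I.subscheme := hnZ
    haveI : Nonempty (⊤ : I.subscheme.Opens) := ⟨⟨hnZ.some, trivial⟩⟩
    have hb : Function.Bijective r := ⟨r.toRingHom.injective, hsurj⟩
    rw [(AlgEquiv.ofBijective r hb).toLinearEquiv.finrank_eq]

end Groth.Agent.CurveGor
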