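import Groth.Agent.CurveGor.Num
import Groth.Agent.CurveGor.Tails

/-!
# Degrees on subcurves are sums over components; curves without rational tails
-/

set_option autoImplicit false
set_option linter.style.haveILetI false
set_option linter.unusedSectionVars false
set_option backward.isDefEq.respectTransparency false
set_option backward.isDefEq.respectTransparency.types false
set_option maxHeartbeats 1000000
set_option synthInstance.maxHeartbeats 200000

universe u

open CategoryTheory CategoryTheory.Limits AlgebraicGeometry TopologicalSpace Opposite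

attribute [local instance] HasDerivedCategory.standard

noncomputable section

namespace Groth.Agent.CurveGor

open Groth.Agent TFOneX

variable {X : Scheme.{u}} {k : Type u} [Field k] [X.Over (Spec (CommRingCat.of k))]
  [IsProper (X ↘ Spec (CommRingCat.of k))] [IsNoetherian X] [AlgebraicGeometry.IsReduced X]

/-- The degree on a union of components is the sum over its components. -/
theorem degOn_eq_sum (hdim : topologicalKrullDim X ≤ 1) {L : X.Modules} (hL : PicF.IsInvertible L)
    (Y : Set X) (hY : IsClosed Y) (hc : IsCompUnion Y) (S : Finset X)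
    (hS : ∀ η, η ∈ S ↔ η ∈ genericPoints (X : Type u) ∧ η ∈ Y) :
    degOn k L 1 Y hY = ∑ η ∈ S, degOn k L 1 (closure ({η} : Set X)) isClosed_closure := by
  classical
  have hr := InvEnd.isFinLocFreeOfRank_one hL
  induction S using Finset.induction_on generalizing Y with
  | empty =>
    obtain rfl : Y = ∅ := Set.eq_empty_iff_forall_notMem.2 fun x hx => by
      obtain ⟨η, hη, hηY, -⟩ := hc x hx
      exact Finset.notMem_empty η ((hS η).2 ⟨hη, hηY⟩)
    rw [degOn_empty k hr, Finset.sum_empty]
  | insert η S hηS ih =>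
    obtain ⟨hη, hηY⟩ := (hS η).1 (Finset.mem_insert_self η S)
    let R : Set X := ⋃ ξ ∈ (S : Set X), closure ({ξ} : Set X)
    have hR : IsClosed R := S.finite_toSet.isClosed_biUnion fun _ _ => isClosed_closure
    have hSg : ∀ ξ ∈ S, ξ ∈ genericPoints (X : Type u) ∧ ξ ∈ Y := fun ξ hξ => (hS ξ).1 (Finset.mem_insert_of_mem hξ)
    have hcR : IsCompUnion R := fun x hx => by
      obtain ⟨ξ, hξ, hxξ⟩ := Set.mem_iUnion₂.1 hx
      exact ⟨ξ, (hSg ξ hξ).1, Set.mem_iUnion₂.2 ⟨ξ, hξ, subset_closure rfl⟩, specializes_iff_mem_closure.2 hxξ⟩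
    have hgR : ∀ ξ, ξ ∈ genericPoints (X : Type u) → (ξ ∈ R ↔ ξ ∈ S) := fun ξ hξ => by
      constructor
      · intro h
        obtain ⟨ξ', hξ', hh⟩ := Set.mem_iUnion₂.1 h
        rwa [← NormAmpleX.eq_of_specializes_generic hξ (specializes_iff_mem_closure.2 hh)]
      · exact fun h => Set.mem_iUnion₂.2 ⟨ξ, h, subset_closure rfl⟩
    have hgE : ∀ ξ ∈ genericPoints (X : Type u), ξ ∈ closure ({η} : Set X) ↔ ξ = η := fun ξ hξ =>
      ⟨fun h => (NormAmpleX.eq_of_specializes_generic hξ (specializes_iff_mem_closure.2 h)).symm,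
        fun h => subset_closure h⟩
    have e := degOn_mv k hdim hr (Y := closure ({η} : Set X)) (Z := R) (W := ∅) (U := Y) isClosed_closure hR
      isClosed_empty hY (isSubcurve_or_empty isClosed_closure (isCompUnion_closure hη)) (isSubcurve_or_empty hR hcR)
      (Or.inl rfl) (isSubcurve_or_empty hY hc)
      (fun ξ hξ => by
        rw [hgE ξ hξ, hgR ξ hξ]
        constructor
        · exact fun h => Finset.mem_insert.1 ((hS ξ).2 ⟨hξ, h⟩)
        · exact fun h => ((hS ξ).1 (Finset.mem_insert.2 h)).2)
      (fun ξ hξ => by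
        rw [hgE ξ hξ, hgR ξ hξ]
        simp only [Set.mem_empty_iff_false, false_iff, not_and]
        rintro rfl
        exact hηS)
    rw [degOn_empty k hr, add_zero] at e
    rw [Finset.sum_insert hηS, e, ih R hR hcR fun ξ =>
      ⟨fun h => ⟨(hSg ξ h).1, (hgR ξ (hSg ξ h).1).2 h⟩, fun h => (hgR ξ h.1).1 h.2⟩]

theorem degOn_nonneg (hdim : topologicalKrullDim X ≤ 1) {L : X.Modules} (hL : PicF.IsInvertible L)
    (h : ∀ η ∈ genericPoints (X : Type u), 0 ≤ degOn k L 1 (closure ({η} : Set X)) isClosed_closure)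
    (Y : Set X) (hY : IsClosed Y) (hc : IsCompUnion Y) : 0 ≤ degOn k L 1 Y hY := by
  rw [degOn_eq_sum hdim hL Y hY hc (finite_genericPoints.inter_of_left Y).toFinset fun η => Set.Finite.mem_toFinset _]
  exact Finset.sum_nonneg fun η hη => h η ((Set.Finite.mem_toFinset _).1 hη).1

variable [ConnectedSpace X] (hdim : topologicalKrullDim X ≤ 1)
  (hgen : ∀ x ∈ genericPoints (X : Type u), ¬ IsClosed ({x} : Set X))
  {ω : X.Modules} {t : Coh.HH X ω 1 →ₗ[k] k} (hω : Canon.IsRDualOver k X 1 ω t) (hωi : PicF.IsInvertible ω)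

include hdim hgen hω hωi in
theorem degOn_dualizing_parts {Y : Set X} (hY : IsClosed Y) (hc : IsCompUnion Y) :
    degOn k ω 1 Y hY = 2 * (gam k Y hY : ℤ) - 2 * (ell k Y hY : ℤ) + kY k Y hY := by
  rw [degOn_dualizing hdim hgen hω hωi hY hc, chiY_eq' hdim hY]
  ring

include hdim hgen hω hωi in
/-- Without rational tails, `ω` is nef on the components of a proper subcurve. -/
theorem degOn_component_nonneg
    (hnt : ∀ (C : Set X) (hC : C ∈ irreducibleComponents (X : Type u)), ¬ Curv2.IsRationalTail X C hC)
    {η : X} (hη : η ∈ genericPoints (X : Type u)) (hu : closure ({η} : Set X) ≠ Set.univ) :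
    0 ≤ degOn k ω 1 (closure ({η} : Set X)) isClosed_closure := by
  have hC : closure ({η} : Set X) ∈ irreducibleComponents (X : Type u) := hη
  have hconn : _root_.IsConnected (closure ({η} : Set X)) := isIrreducible_singleton.closure.isConnected
  obtain ⟨a, ha, hk, hb⟩ := exists_kY_mul (k := k) hdim isClosed_closure hconn hu
  rw [degOn_dualizing_parts hdim hgen hω hωi _ (isCompUnion_closure hη), hk]
  by_cases hg : gam k (closure ({η} : Set X)) isClosed_closure = 0
  · rcases (by omega : a = 1 ∨ 2 ≤ a) with h1 | h2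
    · exact absurd (isRationalTail_of hdim hC hu hg (hb h1)) (hnt _ hC)
    · rw [hg]
      generalize ell k (closure ({η} : Set X)) isClosed_closure = l at *
      have : 2 * l ≤ l * a := by rw [mul_comm 2 l]; exact Nat.mul_le_mul_left l h2
      push_cast
      have h3 : (2 : ℤ) * l ≤ (l : ℤ) * a := by exact_mod_cast this
      omega
  · have h := ell_le_gam (k := k) isClosed_closure hconn hg
    generalize ell k (closure ({η} : Set X)) isClosed_closure = l at *
    generalize gam k (closure ({η} : Set X)) isClosed_closure = g at *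
    have : (0 : ℤ) ≤ (l : ℤ) * a := by positivity
    omega

include hdim hgen hω hωi in
/-- Without rational tails, `deg ω|_Y ≥ h¹(O_Y)` on proper connected subcurves. -/
theorem gam_le_degOn
    (hnt : ∀ (C : Set X) (hC : C ∈ irreducibleComponents (X : Type u)), ¬ Curv2.IsRationalTail X C hC)
    {Y : Set X} (hY : IsClosed Y) (hc : IsCompUnion Y) (hconn : _root_.IsConnected Y) (hu : Y ≠ Set.univ) :
    (gam k Y hY : ℤ) ≤ degOn k ω 1 Y hY := by
  by_cases hg : gam k Y hY = 0
  · rw [hg, Nat.cast_zero]
    rw [degOn_eq_sum hdim hωi Y hY hc (finite_genericPoints.inter_of_left Y).toFinset fun η => Set.Finite.mem_toFinset _]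
    refine Finset.sum_nonneg fun η hη => ?_
    obtain ⟨hη, hηY⟩ := (Set.Finite.mem_toFinset _).1 hη
    refine degOn_component_nonneg hdim hgen hω hωi hnt hη fun he => hu (Set.eq_univ_of_univ_subset ?_)
    exact he ▸ hY.closure_subset_iff.2 (Set.singleton_subset_iff.2 hηY)
  · have h := ell_le_gam (k := k) hY hconn hg
    obtain ⟨a, ha, hk, -⟩ := exists_kY_mul (k := k) hdim hY hconn hu
    rw [degOn_dualizing_parts hdim hgen hω hωi hY hc, hk]
    generalize ell k Y hY = l at *
    generalize gam k Y hY = g at *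
    have h3 : (l : ℤ) ≤ (l : ℤ) * a := le_mul_of_one_le_right (by positivity) (by exact_mod_cast ha)
    omega

/-- Nodal curves with `h^0(O) = 1` have invertible dualizing modules. -/
theorem isInvertible_dualizing_of_nodal' (hdim : topologicalKrullDim X = 1)
    (h0 : Module.finrank k (Coh.HH X (Coh.structureModule X) 0) = 1)
    (hX : Curv2.AtWorstNodal k X) [DCoh.HasRpush (X ↘ Spec (CommRingCat.of k))]
    (h : DCoh.RpushPreservesQCoh (X ↘ Spec (CommRingCat.of k))) [DCoh.HasShriek (X ↘ Spec (CommRingCat.of k)) h]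
    (OY : DCoh.DQCoh (Spec (CommRingCat.of k)))
    (hOY : Nonempty (OY.obj ≅ DCoh.inD (Spec (CommRingCat.of k)) (Coh.structureModule (Spec (CommRingCat.of k))))) :
    PicF.IsInvertible (DCoh.dualizingMod (X ↘ Spec (CommRingCat.of k)) h OY 1) := by
  obtain ⟨t, ht, -⟩ := CurveDual.exists_dual hdim.le h OY hOY
  exact isInvertible_dualizing _ h OY hOY (gorenstein_of_nodal hdim hX)
    (CurveDual.support_eq_univ ht (CurveDual.isCoh_dualizingMod _ h OY hOY 1) hdim h0)

end Groth.Agent.CurveGor
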