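import Groth.Agent.CurveGor.Meet
import Groth.Agent.CurveGor.Sum
import Groth.Agent.CurveGor.Nef
import Groth.Agent.S2122
import Mathlib.RingTheory.LocalRing.Module

/-!
# Degrees of the divisor of finitely many smooth points on subcurves
-/

set_option autoImplicit false
set_option linter.style.haveILetI false
set_option linter.unusedSectionVars false
set_option backward.isDefEq.respectTransparency false
set_option backward.isDefEq.respectTransparency.types false
set_option maxHeartbeats 1000000
set_option synthInstance.maxHeartbeats 200000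

universe u

open CategoryTheory CategoryTheory.Limits AlgebraicGeometry TopologicalSpace Opposite
open scoped TensorProduct

attribute [local instance] HasDerivedCategory.standard

noncomputable section

namespace Groth.Agent.CurveGor

open Groth.Agent TFOneX

variable {X : Scheme.{u}} [IsNoetherian X] [AlgebraicGeometry.IsReduced X]
variable {k : Type u} [Field k] [IsAlgClosed k] [X.Over (Spec (CommRingCat.of k))]
  [IsProper (X ↘ Spec (CommRingCat.of k))]
variable (hdim : topologicalKrullDim X ≤ 1)
  (hgen : ∀ x ∈ genericPoints (X : Type u), ¬ IsClosed ({x} : Set X))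
variable {D : Set X} (hD : IsClosed D) (hDf : D.Finite) (hDc : ∀ x ∈ D, IsClosed ({x} : Set X))
  (hDd : ∀ x ∈ D, IsDomain (X.presheaf.stalk x))

omit [AlgebraicGeometry.IsNoetherian X] [AlgebraicGeometry.IsReduced X] [IsAlgClosed k] in
/-- The stalk of the reduced structure sheaf of a finite set is killed by the maximal ideal. -/
theorem smul_quot_points {D : Set X} (hD : IsClosed D) (hDf : D.Finite)
    (hDc : ∀ x ∈ D, IsClosed ({x} : Set X)) {p : X} (hp : p ∈ D) {a : X.presheaf.stalk p}
    (ha : a ∈ IsLocalRing.maximalIdeal (X.presheaf.stalk p))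
    (q : (ClSub.quotMod (vI D hD)).presheaf.stalk p) : a • q = 0 := by
  obtain ⟨U, hpU, r, rfl⟩ := X.presheaf.exists_germ_eq (x := p) a
  obtain ⟨V, hpV, s, rfl⟩ := TopCat.Presheaf.exists_germ_eq (ClSub.quotMod (vI D hD)).presheaf q
  let T : X.Opens := ⟨(D \ {p})ᶜ, by
    have hc : IsClosed (⋃ x ∈ D \ {p}, ({x} : Set X)) := hDf.diff.isClosed_biUnion fun x hx => hDc x hx.1
    rw [Set.biUnion_of_singleton] at hc
    exact hc.isOpen_compl⟩
  let W := (U ⊓ V) ⊓ T
  have hpW : p ∈ W := ⟨⟨hpU, hpV⟩, fun h => h.2 rfl⟩
  let r' := X.presheaf.map (homOfLE (inf_le_left.trans inf_le_left : W ≤ U)).op r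
  let s' := (ClSub.quotMod (vI D hD)).presheaf.map (homOfLE (inf_le_left.trans inf_le_right : W ≤ V)).op s
  have h0 : (vI D hD).subschemeι.app W r' = 0 := by
    apply eq_zero_of_basicOpen_eq_bot
    rw [← Scheme.preimage_basicOpen]
    refine Opens.ext (Set.eq_empty_iff_forall_notMem.2 fun z hz => ?_)
    have hzD : (vI D hD).subschemeι z ∈ D := (range_subschι D hD).le (Set.mem_range_self z)
    have hzW : (vI D hD).subschemeι z ∈ W := X.basicOpen_le _ hz
    have hzp : (vI D hD).subschemeι z = p := by_contra fun h => hzW.2 ⟨hzD, h⟩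
    have h1 : p ∈ X.basicOpen r' := hzp ▸ hz
    rw [Scheme.mem_basicOpen _ _ _ hpW, X.presheaf.germ_res_apply] at h1
    exact (IsLocalRing.mem_maximalIdeal _).1 ha h1
  rw [← X.presheaf.germ_res_apply (homOfLE (inf_le_left.trans inf_le_left : W ≤ U)) p hpW r,
    ← (ClSub.quotMod (vI D hD)).presheaf.germ_res_apply (homOfLE (inf_le_left.trans inf_le_right : W ≤ V)) p hpW s]
  refine (QCoh.germ_smul' (ClSub.quotMod (vI D hD)) hpW r' s').symm.trans ?_
  have h2 : r' • s' = 0 := by
    show ((vI D hD).subschemeι.app W r' *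
      (show Γ((vI D hD).subscheme, (vI D hD).subschemeι ⁻¹ᵁ W) from s') :
        Γ((vI D hD).subscheme, (vI D hD).subschemeι ⁻¹ᵁ W)) = _
    rw [h0, zero_mul]
  rw [h2, map_zero]

include hDf hDc in
omit [AlgebraicGeometry.IsNoetherian X] [AlgebraicGeometry.IsReduced X] [IsAlgClosed k] in
theorem exists_residue_equiv {p : X} (hp : p ∈ D) :
    Nonempty (IsLocalRing.ResidueField (X.presheaf.stalk p) ≃ₗ[X.presheaf.stalk p]
      (ClSub.quotMod (vI D hD)).presheaf.stalk p) := by
  let A := X.presheaf.stalk p
  let Q := ((ClSub.quotMod (vI D hD)).presheaf.stalk p : Type u)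
  obtain ⟨q₀, hq₀⟩ : ∃ q₀ : Q, ∀ q, ∃ a : A, q = a • q₀ := ParShLib.exists_germ_smul (vI D hD) p
  have hps : p ∈ ((vI D hD).support : Set X) := by
    rw [Scheme.IdealSheafData.coe_support_vanishingIdeal]; exact hp
  haveI : Nontrivial Q := not_subsingleton_iff_nontrivial.1 (not_subsingleton_stalk_quot (vI D hD) hps)
  have hle : IsLocalRing.maximalIdeal A ≤ LinearMap.ker (LinearMap.toSpanSingleton A Q q₀) := fun a ha =>
    smul_quot_points hD hDf hDc hp ha q₀
  have hker : LinearMap.ker (LinearMap.toSpanSingleton A Q q₀) = IsLocalRing.maximalIdeal A := by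
    refine le_antisymm (IsLocalRing.le_maximalIdeal fun h => ?_) hle
    obtain ⟨q, hq⟩ := exists_ne (0 : Q)
    obtain ⟨a, rfl⟩ := hq₀ q
    exact hq (show a • q₀ = 0 from LinearMap.congr_fun (LinearMap.ker_eq_top.1 h) a)
  exact ⟨(Submodule.quotEquivOfEq _ _ hker.symm).trans (LinearMap.quotKerEquivOfSurjective _
    fun q => let ⟨a, ha⟩ := hq₀ q; ⟨a, ha.symm⟩)⟩

/-- The structure sheaf of `D ∩ Y`. -/
abbrev meetD (Y : Set X) (hY : IsClosed Y) : X.Modules :=
  (DCoh.tensorBi.obj (ClSub.quotMod (vI Y hY))).obj (ClSub.quotMod (vI D hD))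

omit [IsAlgClosed k] [AlgebraicGeometry.IsReduced X] [AlgebraicGeometry.IsNoetherian X] in
theorem support_meetD {Y : Set X} (hY : IsClosed Y) : CohB1.support (meetD hD Y hY) ⊆ D ∩ Y := fun x hx => by
  constructor
  · have h := IntCoeff.support_quotMod _ (CurveTensor.support_tensor_subset hx)
    rwa [Scheme.IdealSheafData.coe_support_vanishingIdeal] at h
  · by_contra hxY
    haveI : Subsingleton ((ClSub.quotMod (vI Y hY)).presheaf.stalk x) :=
      ParShLib.subsingleton_stalk_quotMod (vI Y hY) (fun h => hxY (by
        rw [← SetLike.mem_coe, Scheme.IdealSheafData.coe_support_vanishingIdeal] at h; exact h))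
    haveI : Subsingleton (TensorProduct (X.presheaf.stalk x) ((ClSub.quotMod (vI Y hY)).presheaf.stalk x)
        ((ClSub.quotMod (vI D hD)).presheaf.stalk x)) :=
      subsingleton_of_forall_eq 0 fun t => by
        induction t using TensorProduct.induction_on with
        | zero => rfl
        | tmul a b => rw [Subsingleton.elim a 0, TensorProduct.zero_tmul]
        | add a b ha hb => rw [ha, hb, add_zero]
    exact hx (@Equiv.subsingleton _ _ (KFlatLib.stalkTensorIso x (ClSub.quotMod (vI Y hY))
      (ClSub.quotMod (vI D hD))).symm.toLinearEquiv.toEquiv this)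

include hDf hDc in
/-- `χ(O_{D ∩ Y}) = #(D ∩ Y)`. -/
theorem euler_meetD {Y : Set X} (hY : IsClosed Y) :
    Curv2.euler k X (meetD hD Y hY) = ((D ∩ Y).ncard : ℤ) := by
  classical
  have hcF : Coh.IsCoh (ClSub.quotMod (vI Y hY)) := ParShLib.isCoh_quotMod _
  have hcM : Coh.IsCoh (meetD hD Y hY) := ParShLib.isCoh_tensorMod hcF (ParShLib.isCoh_quotMod _)
  have hfin : (D ∩ Y).Finite := hDf.inter_of_left Y
  obtain ⟨h, hf⟩ := CurveCohLib.euler_eq_sum_stalks (k := k) hcM
    (fun x hx => hDc x (support_meetD hD hY hx).1) hfin.toFinset (by simpa using support_meetD hD hY)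
  rw [h, Set.ncard_eq_toFinset_card _ hfin, Finset.card_eq_sum_ones]
  push_cast
  refine Finset.sum_congr rfl fun p hp => ?_
  obtain ⟨hpD, hpY⟩ := (Set.Finite.mem_toFinset _).1 hp
  let A := X.presheaf.stalk p
  let F := ((ClSub.quotMod (vI Y hY)).presheaf.stalk p : Type u)
  let M := ((meetD hD Y hY).presheaf.stalk p : Type u)
  letI := CurveCohLib.stalkModuleK k (meetD hD Y hY) p
  haveI := hf p hp
  obtain ⟨eQ⟩ := exists_residue_equiv hD hDf hDc hpD
  let e : M ≃ₗ[A] IsLocalRing.ResidueField A ⊗[A] F :=
    (KFlatLib.stalkTensorIso p (ClSub.quotMod (vI Y hY)) (ClSub.quotMod (vI D hD))).symm.toLinearEquiv.trans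
      ((TensorProduct.congr (LinearEquiv.refl A F) eQ.symm).trans (TensorProduct.comm A _ _))
  haveI : Module.Finite A F := QCoh.finite_stalk_of_isFT hcF.1 hcF.2 p
  haveI : Nontrivial F := not_subsingleton_iff_nontrivial.1 (not_subsingleton_stalk_quot (vI Y hY) (by
    rw [Scheme.IdealSheafData.coe_support_vanishingIdeal]; exact hpY))
  haveI : Nontrivial M := not_subsingleton_iff_nontrivial.1 fun hs => not_subsingleton F
    (IsLocalRing.subsingleton_tensorProduct.1 (@Equiv.subsingleton _ _ e.symm.toEquiv hs))
  obtain ⟨f₀, hf₀⟩ : ∃ f₀ : F, ∀ f, ∃ a : A, f = a • f₀ := ParShLib.exists_germ_smul (vI Y hY) p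
  let m₀ : M := e.symm ((1 : IsLocalRing.ResidueField A) ⊗ₜ f₀)
  have hcyc : ∀ m : M, ∃ a : A, m = a • m₀ := fun m => by
    obtain ⟨t, rfl⟩ := e.symm.surjective m
    induction t with
    | zero => exact ⟨0, by rw [map_zero, zero_smul]⟩
    | tmul r f =>
      obtain ⟨b, rfl⟩ := IsLocalRing.residue_surjective r
      obtain ⟨c, rfl⟩ := hf₀ f
      refine ⟨c * b, ?_⟩
      show e.symm _ = (c * b) • e.symm _
      rw [← map_smul]
      congr 1
      have hb' : IsLocalRing.residue A b = b • (1 : IsLocalRing.ResidueField A) := by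
        rw [Algebra.smul_def, mul_one]; rfl
      rw [hb', TensorProduct.tmul_smul, ← TensorProduct.smul_tmul' b, smul_smul]
    | add x y hx hy =>
      obtain ⟨a, ha⟩ := hx
      obtain ⟨b, hb⟩ := hy
      exact ⟨a + b, by rw [map_add, ha, hb, add_smul]⟩
  have hkill : ∀ a ∈ IsLocalRing.maximalIdeal A, a • m₀ = 0 := fun a ha => by
    have h1 : a • (1 : IsLocalRing.ResidueField A) = 0 := by
      rw [Algebra.smul_def, mul_one]
      exact (IsLocalRing.residue_eq_zero_iff a).2 ha
    show a • e.symm _ = 0
    rw [← map_smul, TensorProduct.smul_tmul', h1, TensorProduct.zero_tmul, map_zero]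
  let L : k →ₗ[k] M :=
    { toFun := fun c => Curv2.stalkMap k X p c • m₀
      map_add' := fun c d => by rw [map_add, add_smul]
      map_smul' := fun a c => by
        show Curv2.stalkMap k X p (a * c) • m₀ = Curv2.stalkMap k X p a • (Curv2.stalkMap k X p c • m₀)
        rw [map_mul, mul_smul] }
  have hL : Function.Surjective L := fun m => by
    obtain ⟨a, ha⟩ := hcyc m
    obtain ⟨c, hc'⟩ := CurveSection.exists_stalkMap_sub_mem k (hDc p hpD) a
    refine ⟨c, ?_⟩
    have h0 := hkill _ hc'
    rw [sub_smul, sub_eq_zero] at h0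
    exact h0.symm.trans ha.symm
  have h1 := LinearMap.finrank_le_finrank_of_surjective hL
  have h2 : 0 < Module.finrank k M := Module.finrank_pos
  rw [Module.finrank_self] at h1
  exact_mod_cast le_antisymm h1 h2

include hdim hgen hDf hDc hDd in
/-- The divisor of smooth points has degree `#(D ∩ Y)` on `Y`. -/
theorem degOn_points {N : X.Modules} (hN : ClSub.IsInverseOf N (ClSub.idealMod (vI D hD))) {Y : Set X}
    (hY : IsClosed Y) (hc : IsCompUnion Y) :
    PicF.IsInvertible N ∧ degOn k N 1 Y hY = ((D ∩ Y).ncard : ℤ) := by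
  obtain ⟨eN⟩ := hN
  have hNi : PicF.IsInvertible N := S2122.result _ _ eN
  let I := ClSub.idealMod (vI D hD)
  have hIi : PicF.IsInvertible I := S2122.result _ N (CurveTensor.commIso I N ≪≫ eN)
  refine ⟨hNi, ?_⟩
  have hdNI := degOn_tensor (k := k) hdim hNi hIi hY
  let F := ClSub.quotMod (vI Y hY)
  obtain ⟨hp, hcY, htY, hsY⟩ := isQuotOn_quot hY hc
  have hcF : Coh.IsCoh F := ParShLib.isCoh_quotMod _
  let G := DCoh.tensorBi.obj F
  haveI := CurvePoint.epi_toSubscheme (vI D hD)
  have hS := CurveSlope.shortExact_kernel_of_epi (ClSub.toSubscheme (vI D hD))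
  haveI := hS.mono_f
  let φ : G.obj I ⟶ G.obj (Coh.structureModule X) := G.map (ClSub.idealModι (vI D hD))
  have hmono : Mono φ := by
    refine Preadditive.mono_of_isZero_kernel _ (KFlatLib.isZero_of_stalk _ fun x => ?_)
    haveI : Mono ((DerSch.stalkFunctor X x).map (ClSub.idealModι (vI D hD))) :=
      (hS.map_of_exact (DerSch.stalkFunctor X x)).mono_f
    haveI : Mono ((DerSch.stalkFunctor X x).map φ) := by
      have hm : Mono ((MonoidalCategory.tensorLeft ((DerSch.stalkFunctor X x).obj F)).map
          ((DerSch.stalkFunctor X x).map (ClSub.idealModι (vI D hD)))) := by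
        by_cases hx : x ∈ D
        · haveI := hDd x hx
          let T := ((DerSch.stalkFunctor X x).obj F : Type u)
          haveI : Module.IsTorsionFree (X.presheaf.stalk x) T := htY x
          obtain ⟨eI⟩ := H23.InvStalk.exists_stalk_equiv hIi x
          obtain ⟨eO⟩ := exists_stalk_structure (X := X) x
          let f := ((DerSch.stalkFunctor X x).map (ClSub.idealModι (vI D hD))).hom
          have hfi : Function.Injective f := (ModuleCat.mono_iff_injective _).1 inferInstance
          let a : X.presheaf.stalk x := eO (f (eI.symm 1))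
          have ha : a ≠ 0 := fun h => by
            have h1 : f (eI.symm 1) = f 0 := by
              rw [map_zero]; exact eO.injective (h.trans (map_zero eO).symm)
            exact one_ne_zero (eI.symm.injective ((hfi h1).trans (map_zero eI.symm).symm))
          have key : ∀ t, ((TensorProduct.rid (X.presheaf.stalk x) T).toLinearMap ∘ₗ LinearMap.lTensor T eO.toLinearMap ∘ₗ
              LinearMap.lTensor T f) t =
              a • ((TensorProduct.rid (X.presheaf.stalk x) T).toLinearMap ∘ₗ LinearMap.lTensor T eI.toLinearMap) t := by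
            intro t
            induction t with
            | zero => simp
            | tmul m i =>
              have hi : eO (f i) = eI i * a := by
                have : i = eI i • eI.symm 1 := eI.injective (by simp)
                conv_lhs => rw [this]
                rw [map_smul, map_smul, smul_eq_mul]
              show (TensorProduct.rid (X.presheaf.stalk x) T) (m ⊗ₜ eO (f i)) = a • (TensorProduct.rid (X.presheaf.stalk x) T) (m ⊗ₜ eI i)
              rw [TensorProduct.rid_tmul, TensorProduct.rid_tmul, hi, smul_smul, mul_comm]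
            | add u v hu hv => rw [map_add, map_add, hu, hv, smul_add]
          have hli : Function.Injective (LinearMap.lTensor T f) := fun u v huv => by
            have h1 := ((key u).symm.trans (congrArg (fun w => (TensorProduct.rid (X.presheaf.stalk x) T).toLinearMap
              (LinearMap.lTensor T eO.toLinearMap w)) huv)).trans (key v)
            exact (TensorProduct.congr (LinearEquiv.refl (X.presheaf.stalk x) T) eI).injective
              ((TensorProduct.rid (X.presheaf.stalk x) T).injective (smul_right_injective T ha h1))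
          exact (ModuleCat.mono_iff_injective _).2 hli
        · haveI : IsIso ((DerSch.stalkFunctor X x).map (ClSub.idealModι (vI D hD))) := by
            have hex := hS.map_of_exact (DerSch.stalkFunctor X x)
            haveI : Subsingleton ((ClSub.quotMod (vI D hD)).presheaf.stalk x) :=
              ParShLib.subsingleton_stalk_quotMod (vI D hD) (fun h => hx (by
                rw [← SetLike.mem_coe, Scheme.IdealSheafData.coe_support_vanishingIdeal] at h; exact h))
            exact hex.isIso_f_iff.2 (ModuleCat.isZero_of_iff_subsingleton.2 this)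
          haveI := Functor.map_isIso (MonoidalCategory.tensorLeft ((DerSch.stalkFunctor X x).obj F))
            ((DerSch.stalkFunctor X x).map (ClSub.idealModι (vI D hD)))
          exact IsIso.mono_of_iso _
      exact ((MorphismProperty.monomorphisms (ModuleCat.{u} (X.presheaf.stalk x))).arrow_mk_iso_iff
        (((Functor.mapArrowFunctor _ _).mapIso (KFlatLib.stalkTensorLeftIso F x)).app
          (Arrow.mk (ClSub.idealModι (vI D hD))))).2 hm
    exact (isZero_kernel_of_mono ((DerSch.stalkFunctor X x).map φ)).of_iso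
      (PreservesKernel.iso (DerSch.stalkFunctor X x) φ)
  haveI := hS.epi_g
  have hex : ((ShortComplex.mk _ _ (kernel.condition (ClSub.toSubscheme (vI D hD)))).map G).Exact :=
    hS.exact.map_of_epi_of_preservesCokernel G inferInstance inferInstance
  have hepi : Epi (G.map (ClSub.toSubscheme (vI D hD))) := inferInstance
  have hT := ShortComplex.ShortExact.mk' hex hmono hepi
  have e := CurveCohLib.euler_additive (k := k) hT (ParShLib.isCoh_tensorMod hcF (CurveDeg.isCoh_of_isInvertible hIi))
    (ParShLib.isCoh_tensorMod hcF QCoh.isCoh_structureModule')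
    (ParShLib.isCoh_tensorMod hcF (ParShLib.isCoh_quotMod _))
  change Curv2.euler k X (G.obj (Coh.structureModule X)) =
    Curv2.euler k X (G.obj I) + Curv2.euler k X (G.obj (ClSub.quotMod (vI D hD))) at e
  have e1 := CurveCohLib.euler_congr (k := k)
    (CurveTensor.commIso F (Coh.structureModule X) ≪≫ CurveTensor.structureTensorIso F)
  have e2 := euler_meetD (k := k) hD hDf hDc hY
  have e3 := CurveCohLib.euler_congr (k := k) (CurveTensor.commIso F I)
  have eI : degOn k I 1 Y hY = -((D ∩ Y).ncard : ℤ) := by
    rw [degOn_eq k (InvEnd.isFinLocFreeOfRank_one hIi) Y hY]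
    show Curv2.euler k X ((DCoh.tensorBi.obj I).obj F) - ((1 : ℕ) : ℤ) * Curv2.euler k X F = _
    change Curv2.euler k X (G.obj (Coh.structureModule X)) = _ at e1
    change Curv2.euler k X (G.obj I) = _ at e3
    change Curv2.euler k X (G.obj (ClSub.quotMod (vI D hD))) = _ at e2
    push_cast
    linarith [e, e1, e2, e3]
  have e0 : degOn k (CohB1.tensorMod N I) 1 Y hY = 0 := by
    rw [degOn_eq k (InvEnd.isFinLocFreeOfRank_one (InvX.isInvertible_tensorMod hNi hIi)) Y hY]
    show Curv2.euler k X ((DCoh.tensorBi.obj (CohB1.tensorMod N I)).obj F) -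
      ((1 : ℕ) : ℤ) * Curv2.euler k X F = 0
    rw [CurveCohLib.euler_congr (k := k) ((DCoh.tensorBi.mapIso eN).app F ≪≫ CurveTensor.structureTensorIso F)]
    push_cast
    ring
  rw [e0, eI] at hdNI
  linarith

end Groth.Agent.CurveGor
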