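import Groth.Agent.CurveGor.Expansion
import Groth.Agent.DeltaLib.BaseChange
import Groth.Agent.DeltaLib.Basic
import Groth.Agent.S12463
import Groth.Agent.S7654
import Groth.Agent.CurveGor.DeltaAlg

/-!
# Curve singularities with δ one less than the number of branches
-/

set_option autoImplicit false
set_option linter.style.haveILetI false
set_option backward.isDefEq.respectTransparency false
set_option backward.isDefEq.respectTransparency.types false
set_option maxHeartbeats 1000000
set_option synthInstance.maxHeartbeats 200000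

universe u

open IsLocalRing PowerSeries

noncomputable section

namespace Groth.Agent.CurveGor.Multi

open Groth.Agent

variable {k : Type u} [Field k]

/-- Common constant terms. -/
def crossSet (k : Type u) [Field k] (n : ℕ) : Set (Fin n → PowerSeries k) :=
  {f | ∀ i j : Fin n, constantCoeff (f i) = constantCoeff (f j)}

/-- If the colength of `A` in `N` is one less than the number of maximal ideals, the residue fields
are trivial and the radical lies in `A`. -/
theorem residue_data {A : Type u} [CommRing A] [IsLocalRing A] {N : Type u} [CommRing N] [Algebra A N]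
    {n : ℕ} (hn0 : 0 < n) (M : Fin n → Ideal N) (hM : ∀ i, (M i).IsMaximal)
    (hcop : Pairwise fun i j => IsCoprime (M i) (M j))
    (hMA : ∀ i, (M i).comap (algebraMap A N) = maximalIdeal A)
    (hδ : Module.length A (N ⧸ LinearMap.range (Algebra.linearMap A N)) + 1 = n) :
    (∀ i, ∀ x : N, ∃ a : A, x - algebraMap A N a ∈ M i) ∧
      ∀ x : N, (∀ i, x ∈ M i) → ∃ a : A, algebraMap A N a = x := by
  classical
  let P := ∀ i : Fin n, N ⧸ M i
  let π : N →ₗ[A] P := LinearMap.pi fun i => (Ideal.Quotient.mkₐ A (M i)).toLinearMap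
  have hπs : Function.Surjective π := fun z => by
    choose x hx using fun i => Ideal.Quotient.mk_surjective (z i)
    obtain ⟨r, hr⟩ := Ideal.exists_forall_sub_mem_ideal hcop x
    exact ⟨r, funext fun i => (Ideal.Quotient.eq.2 (hr i)).trans (hx i)⟩
  let ρ : A →ₗ[A] P := π.comp (Algebra.linearMap A N)
  let I := LinearMap.range (Algebra.linearMap A N)
  let q : (N ⧸ I) →ₗ[A] (P ⧸ LinearMap.range ρ) := Submodule.mapQ _ _ π (by rintro _ ⟨a, rfl⟩; exact ⟨a, rfl⟩)
  have hqs : Function.Surjective q := by
    intro z
    obtain ⟨w, rfl⟩ := Submodule.mkQ_surjective _ z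
    obtain ⟨x, rfl⟩ := hπs w
    exact ⟨Submodule.Quotient.mk x, rfl⟩
  haveI : IsSimpleModule A (A ⧸ maximalIdeal A) :=
    isSimpleModule_iff_isCoatom.2 (IsLocalRing.maximalIdeal.isMaximal A).out
  have hρ1 : Module.length A (LinearMap.range ρ) ≤ 1 := by
    refine le_trans (Module.length_le_of_surjective ((maximalIdeal A).liftQ ρ.rangeRestrict ?_) ?_)
      (Module.length_eq_one A (A ⧸ maximalIdeal A)).le
    · intro a ha
      rw [LinearMap.ker_rangeRestrict, LinearMap.mem_ker]
      funext i
      refine Ideal.Quotient.eq_zero_iff_mem.2 ?_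
      rw [← hMA i] at ha
      exact ha
    · intro z
      obtain ⟨a, ha⟩ := LinearMap.surjective_rangeRestrict ρ z
      exact ⟨Submodule.Quotient.mk a, ha⟩
  have hP := Module.length_eq_add_of_exact (LinearMap.range ρ).subtype (LinearMap.range ρ).mkQ
    (Submodule.injective_subtype _) (Submodule.mkQ_surjective _) (LinearMap.exact_subtype_mkQ _)
  have hδ' : Module.length A (N ⧸ I) + 1 = n := hδ
  have hq := Module.length_le_of_surjective q hqs
  have hker := Module.length_eq_add_of_exact (LinearMap.ker q).subtype q (Submodule.injective_subtype _) hqs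
    (LinearMap.exact_subtype_ker_map q)
  have hpos : ∀ i, 1 ≤ Module.length A (N ⧸ M i) := fun i => by
    haveI : Nontrivial (N ⧸ M i) := Ideal.Quotient.nontrivial_iff.2 (hM i).ne_top
    exact Order.one_le_iff_pos.2 (Module.length_pos)
  have hsum : Module.length A P = ∑ i, Module.length A (N ⧸ M i) :=
    Module.length_pi_of_fintype (R := A) fun i => N ⧸ M i
  lift Module.length A (N ⧸ I) to ℕ using (fun h => by rw [h] at hδ'; simp at hδ') with d hd
  lift Module.length A (P ⧸ LinearMap.range ρ) to ℕ using
    (ne_top_of_le_ne_top (ENat.natCast_ne_top d) hq) with p hp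
  lift Module.length A (LinearMap.range ρ) to ℕ using (ne_top_of_le_ne_top ENat.one_ne_top hρ1) with e he
  have hPfin : Module.length A P = ((e + p : ℕ) : ℕ∞) := by rw [hP, Nat.cast_add]
  have hℓ : ∀ i, Module.length A (N ⧸ M i) = 1 ∧ p = d := by
    intro i
    have hle : ∀ j, Module.length A (N ⧸ M j) ≠ ⊤ := fun j =>
      ne_top_of_le_ne_top (hPfin ▸ ENat.natCast_ne_top _)
        (hsum ▸ Finset.single_le_sum (f := fun j => Module.length A (N ⧸ M j)) (fun j _ => bot_le)
          (Finset.mem_univ j))
    choose l hl using fun j => ENat.ne_top_iff_exists.1 (hle j)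
    have hl1 : ∀ j, 1 ≤ l j := fun j => by exact_mod_cast (hl j).symm ▸ hpos j
    have h1 : (∑ j, l j) = e + p := by
      rw [hsum, ← Finset.sum_congr rfl (fun j _ => hl j)] at hPfin
      exact_mod_cast hPfin
    have h2 : ∑ j, l j = l i + ∑ j ∈ Finset.univ.erase i, l j :=
      (Finset.add_sum_erase _ _ (Finset.mem_univ i)).symm
    have h3 : n - 1 ≤ ∑ j ∈ Finset.univ.erase i, l j := by
      refine le_trans (le_of_eq ?_) (Finset.card_nsmul_le_sum _ _ 1 fun j _ => hl1 j)
      simp [Finset.card_erase_of_mem]
    have h4 : p ≤ d := by exact_mod_cast hq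
    have h5 : d + 1 = n := by exact_mod_cast hδ'
    have h6 : e ≤ 1 := by exact_mod_cast hρ1
    have h7 := hl1 i
    rw [← hl i]
    exact ⟨by exact_mod_cast (show l i = 1 by omega), by omega⟩
  refine ⟨fun i x => ?_, fun x hx => ?_⟩
  · haveI : IsSimpleModule A (N ⧸ M i) := Module.length_eq_one_iff.1 (hℓ i).1
    let f : A →ₗ[A] N ⧸ M i := (Ideal.Quotient.mkₐ A (M i)).toLinearMap.comp (Algebra.linearMap A N)
    have hf : LinearMap.range f = ⊤ := (eq_bot_or_eq_top (LinearMap.range f)).resolve_left fun h => by
      have h1 : f 1 = 0 := by rw [← Submodule.mem_bot A, ← h]; exact ⟨1, rfl⟩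
      rw [show f 1 = Ideal.Quotient.mk _ (algebraMap A N 1) from rfl, map_one, map_one] at h1
      exact (hM i).ne_top ((Ideal.eq_top_iff_one _).2 (Ideal.Quotient.eq_zero_iff_mem.1 h1))
    obtain ⟨a, ha⟩ : Ideal.Quotient.mk (M i) x ∈ LinearMap.range f := hf ▸ trivial
    exact ⟨a, Ideal.Quotient.eq.1 ha.symm⟩
  · have hk0 : Module.length A (LinearMap.ker q) = 0 := by
      have hpd : p = d := (hℓ ⟨0, hn0⟩).2
      rw [hpd] at hker
      revert hker
      cases Module.length A (LinearMap.ker q) using ENat.recTopCoe with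
      | top => simp
      | coe w => intro hker; norm_cast at hker ⊢; omega
    have hk := Module.length_eq_zero_iff.1 hk0
    have h1 : (Submodule.Quotient.mk x : N ⧸ I) ∈ LinearMap.ker q := by
      rw [LinearMap.mem_ker]
      show Submodule.Quotient.mk (π x) = 0
      rw [show π x = 0 from funext fun i => Ideal.Quotient.eq_zero_iff_mem.2 (hx i)]
      rfl
    have h2 : (Submodule.Quotient.mk x : N ⧸ I) = 0 :=
      congrArg Subtype.val (Subsingleton.elim (⟨_, h1⟩ : LinearMap.ker q) 0)
    obtain ⟨a, ha⟩ := (Submodule.Quotient.mk_eq_zero _).1 h2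
    exact ⟨a, ha⟩

section Branches

variable {A : Type u} [CommRing A] [IsLocalRing A] [IsReduced A] [IsNoetherianRing A]

/-- Branches are maximal ideals of the normalization. -/
theorem numBranches_eq_card :
    Brnch.numBranches A = ENat.card (MaximalSpectrum (integralClosure A (FractionRing A))) := by
  obtain ⟨e⟩ := S12463.exists_algEquiv_normRed A
  rw [Brnch.numBranches, if_pos (minimalPrimes.finite_of_isNoetherianRing A)]
  refine ENat.card_congr
    { toFun := fun m => ⟨m.asIdeal.comap e.toRingEquiv,
        haveI := m.isMaximal; Ideal.comap_isMaximal_of_surjective _ e.surjective⟩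
      invFun := fun m => ⟨m.asIdeal.comap e.symm.toRingEquiv,
        haveI := m.isMaximal; Ideal.comap_isMaximal_of_surjective _ e.symm.surjective⟩
      left_inv := fun m => MaximalSpectrum.ext (by ext z; simp)
      right_inv := fun m => MaximalSpectrum.ext (by ext z; simp) }

variable [Algebra k A] (hfin : Module.Finite A (integralClosure A (FractionRing A)))
  (hdim : ringKrullDim A = 1)

local notation "N" => integralClosure A (FractionRing A)

include hfin hdim in
/-- The expansion along a branch with residue field `k`. -/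
theorem exists_branch_aux (M : Ideal N) [M.IsMaximal] (R : Type u) [CommRing R] [IsLocalRing R] [IsDomain R]
    [Algebra N R] [IsLocalization.AtPrime R M] [Algebra k R]
    (hc : ∀ c, algebraMap k R c = algebraMap N R (algebraMap A N (algebraMap k A c)))
    (hres : ∀ x : N, ∃ c : k, x - algebraMap A N (algebraMap k A c) ∈ M) :
    ∃ ψ : N →+* PowerSeries k, (∀ c, ψ (algebraMap A N (algebraMap k A c)) = C c) ∧
      (∀ r x, x ∈ M ^ r ↔ X ^ r ∣ ψ x) ∧ ∀ r f, ∃ x, X ^ r ∣ ψ x - f := by
  haveI := hfin
  have hMA : M.comap (algebraMap A N) = maximalIdeal A :=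
    IsLocalRing.eq_maximalIdeal (Ideal.isMaximal_comap_of_isIntegral_of_isMaximal M)
  obtain ⟨π, hπ, hgen⟩ := DeltaLib.exists_generator hfin hdim M hMA
  have hunit : ∀ s, s ∉ M → IsUnit (algebraMap N R s) := fun s hs => IsLocalization.map_units R (⟨s, hs⟩ : M.primeCompl)
  have hmem : ∀ x, algebraMap N R x ∈ maximalIdeal R ↔ x ∈ M := fun x =>
    IsLocalization.AtPrime.to_map_mem_maximal_iff R M x
  have hmax : maximalIdeal R = Ideal.span {algebraMap N R π} := by
    refine le_antisymm (fun y hy => ?_) ((Ideal.span_singleton_le_iff_mem _).2 ((hmem π).2 hπ))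
    obtain ⟨⟨x, s⟩, hx⟩ := IsLocalization.surj M.primeCompl y
    have hxM : x ∈ M := (hmem x).1 (hx ▸ Ideal.mul_mem_right _ _ hy)
    obtain ⟨c, hc, d, hcd⟩ := hgen x hxM
    obtain ⟨u, hu⟩ := (hunit c hc).mul (IsLocalization.map_units R s)
    refine Ideal.mem_span_singleton'.2 ⟨↑u⁻¹ * algebraMap N R d, ?_⟩
    calc ↑u⁻¹ * algebraMap N R d * algebraMap N R π = ↑u⁻¹ * algebraMap N R (c * x) := by rw [hcd, map_mul]; ring
      _ = ↑u⁻¹ * (u : R) * y := by rw [map_mul, ← hx, hu]; ring
      _ = y := by rw [Units.inv_mul, one_mul]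
  have h0 : algebraMap N R π ≠ 0 := fun h => by
    obtain ⟨v, hvm, hv⟩ := DeltaLib.exists_nzd_mem (A := A) hdim
    have h1 : algebraMap N R (algebraMap A N v) ∈ maximalIdeal R := (hmem _).2 (hMA.symm ▸ hvm : v ∈ M.comap _)
    rw [hmax, h, Ideal.span_singleton_eq_bot.2 rfl, Ideal.mem_bot,
      IsLocalization.map_eq_zero_iff M.primeCompl] at h1
    obtain ⟨⟨c, hc⟩, hc0⟩ := h1
    refine hc ?_
    have h2 : algebraMap A (FractionRing A) v * (c : FractionRing A) = 0 := by
      rw [mul_comm]; exact congrArg Subtype.val hc0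
    have h3 : c = 0 := Subtype.ext
      ((IsLocalization.map_units (FractionRing A) (⟨v, hv⟩ : nonZeroDivisors A)).mul_right_eq_zero.1 h2)
    rw [h3]; exact M.zero_mem
  have hRres : Function.Surjective ((residue R).comp (algebraMap k R)) := by
    intro z
    obtain ⟨y, rfl⟩ := residue_surjective z
    obtain ⟨⟨x, s⟩, hx⟩ := IsLocalization.surj M.primeCompl y
    obtain ⟨a, ha⟩ := hres x
    obtain ⟨b, hb⟩ := hres (s : N)
    have hb0 : b ≠ 0 := fun h => s.2 (by simpa [h] using hb)
    refine ⟨a / b, ?_⟩
    have e1 : residue R (algebraMap N R x) = residue R (algebraMap k R a) :=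
      Ideal.Quotient.eq.2 (by rw [hc]; exact map_sub (algebraMap N R) _ _ ▸ (hmem _).2 ha)
    have e2 : residue R (algebraMap N R s) = residue R (algebraMap k R b) :=
      Ideal.Quotient.eq.2 (by rw [hc]; exact map_sub (algebraMap N R) _ _ ▸ (hmem _).2 hb)
    have hne : residue R (algebraMap k R b) ≠ 0 := fun h =>
      (mem_maximalIdeal _).1 ((residue_eq_zero_iff _).1 h) ((IsUnit.mk0 _ hb0).map (algebraMap k R))
    have e3 : residue R y * residue R (algebraMap N R s) = residue R (algebraMap N R x) := by
      rw [← map_mul]; exact congrArg _ hx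
    refine mul_right_cancel₀ hne ?_
    rw [RingHom.comp_apply, ← map_mul, ← map_mul, div_mul_cancel₀ a hb0, ← e1, ← e3, e2]
  obtain ⟨ψ, hψ1, hψ2⟩ := exists_expansion (k := k) R hmax h0 hRres
  have hinv : ∀ s, s ∉ M → ∀ r, ∃ w, 1 - w * s ∈ M ^ r := fun s hs r => by
    have h1 : M ⊔ Ideal.span {s} = ⊤ := by
      by_contra hne
      have h2 := Ideal.IsMaximal.eq_of_le ‹M.IsMaximal› hne le_sup_left
      exact hs (h2.symm ▸ Ideal.mem_sup_right (Ideal.mem_span_singleton_self s))
    obtain ⟨p, hp, q, hq, hpq⟩ := Submodule.mem_sup.1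
      ((Ideal.eq_top_iff_one _).1 (Ideal.pow_sup_eq_top (n := r) h1))
    obtain ⟨w, rfl⟩ := Ideal.mem_span_singleton'.1 hq
    exact ⟨w, by rwa [show 1 - w * s = p by rw [← hpq]; ring]⟩
  have hpow : ∀ r x, algebraMap N R x ∈ maximalIdeal R ^ r ↔ x ∈ M ^ r := fun r x => by
    rw [← IsLocalization.AtPrime.map_eq_maximalIdeal M R, ← Ideal.map_pow]
    refine ⟨fun h => ?_, fun h => Ideal.mem_map_of_mem _ h⟩
    obtain ⟨s, hs, hsx⟩ := (IsLocalization.algebraMap_mem_map_algebraMap_iff M.primeCompl R _ _).1 h
    obtain ⟨w, hw⟩ := hinv s hs r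
    rw [show x = w * (s * x) + (1 - w * s) * x by ring]
    exact add_mem (Ideal.mul_mem_left _ _ hsx) (Ideal.mul_mem_right _ _ hw)
  refine ⟨(ψ : R →+* PowerSeries k).comp (algebraMap N R), fun c => by
      have h := ψ.commutes c
      rw [hc] at h
      exact h,
    fun r x => (hpow r x).symm.trans (hψ1 r _), fun r f => ?_⟩
  obtain ⟨y, hy⟩ := hψ2 r f
  obtain ⟨⟨x, s⟩, hx⟩ := IsLocalization.surj M.primeCompl y
  obtain ⟨w, hw⟩ := hinv s s.2 r
  refine ⟨x * w, ?_⟩
  have h1 : algebraMap N R (x * w) - y = -(y * algebraMap N R (1 - w * s)) := by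
    rw [map_mul, ← hx, map_sub, map_mul, map_one]; ring
  have h2 : X ^ r ∣ ψ (algebraMap N R (x * w) - y) :=
    (hψ1 r _).1 (h1 ▸ neg_mem (Ideal.mul_mem_left _ _ ((hpow r _).2 hw)))
  rw [map_sub] at h2
  show X ^ r ∣ ψ (algebraMap N R (x * w)) - f
  convert dvd_add h2 hy using 1
  ring

include hfin hdim in
/-- The expansion along a branch with residue field `k`. -/
theorem exists_branch (M : Ideal N) [M.IsMaximal]
    (hres : ∀ x : N, ∃ c : k, x - algebraMap A N (algebraMap k A c) ∈ M) :
    ∃ ψ : N →+* PowerSeries k, (∀ c, ψ (algebraMap A N (algebraMap k A c)) = C c) ∧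
      (∀ r x, x ∈ M ^ r ↔ X ^ r ∣ ψ x) ∧ ∀ r f, ∃ x, X ^ r ∣ ψ x - f := by
  haveI : IsDomain (Localization.AtPrime M) := (RedNorm.localization_norm A M).1
  letI : Algebra k (Localization.AtPrime M) :=
    ((algebraMap N (Localization.AtPrime M)).comp ((algebraMap A N).comp (algebraMap k A))).toAlgebra
  exact exists_branch_aux hfin hdim M (Localization.AtPrime M) (fun c => rfl) hres

include hfin hdim in
/-- With δ one less than the number of branches, `A` expands onto the multicross ring. -/
theorem exists_data (hres : Function.Surjective ((residue A).comp (algebraMap k A))) {n : ℕ}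
    (hn : Brnch.numBranches A = n) (hδ : Curv2.deltaInv A + 1 = n) :
    ∃ θ : A →+* (Fin n → PowerSeries k), (∀ c, θ (algebraMap k A c) = fun _ => C c) ∧
      (∀ r a, a ∈ maximalIdeal A ^ r ↔ ∀ i, X ^ r ∣ θ a i) ∧ (∀ a, θ a ∈ crossSet k n) ∧
      ∀ r, ∀ f ∈ crossSet k n, ∃ a, ∀ i, X ^ r ∣ θ a i - f i := by
  classical
  haveI := hfin
  rw [numBranches_eq_card] at hn
  haveI : Finite (MaximalSpectrum N) := ENat.card_lt_top.1 (hn ▸ WithTop.coe_lt_top _)
  haveI := Fintype.ofFinite (MaximalSpectrum N)
  have hn' : Nat.card (MaximalSpectrum N) = n := by rw [ENat.card_eq_coe_natCard] at hn; exact_mod_cast hn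
  let σ : Fin n ≃ MaximalSpectrum N := (Finite.equivFinOfCardEq hn').symm
  have hMA : ∀ i, (σ i).asIdeal.comap (algebraMap A N) = maximalIdeal A := fun i =>
    haveI := (σ i).isMaximal
    IsLocalRing.eq_maximalIdeal (Ideal.isMaximal_comap_of_isIntegral_of_isMaximal _)
  have hall : ∀ M : Ideal N, M.IsMaximal → ∃ i, (σ i).asIdeal = M := fun M hM => ⟨σ.symm ⟨M, hM⟩, by simp⟩
  have hcop : Pairwise fun i j => IsCoprime (σ i).asIdeal (σ j).asIdeal := fun i j hij =>
    Ideal.isCoprime_iff_sup_eq.2 ((σ i).isMaximal.coprime_of_ne (σ j).isMaximal fun h =>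
      hij (σ.injective (MaximalSpectrum.ext h)))
  have hn0 : 0 < n := by
    have : Nonempty (MaximalSpectrum N) := by
      haveI : Nontrivial N := ⟨⟨0, 1, fun h => zero_ne_one (congrArg Subtype.val h : (0 : FractionRing A) = 1)⟩⟩
      obtain ⟨M, hM⟩ := Ideal.exists_maximal N
      exact ⟨⟨M, hM⟩⟩
    rw [← hn']; exact Nat.card_pos
  obtain ⟨hrN, hJ'⟩ := residue_data hn0 (fun i => (σ i).asIdeal) (fun i => (σ i).isMaximal) hcop hMA hδ
  have hresN : ∀ i, ∀ x : N, ∃ c : k, x - algebraMap A N (algebraMap k A c) ∈ (σ i).asIdeal := fun i x => by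
    obtain ⟨a, ha⟩ := hrN i x
    obtain ⟨c, hc⟩ := hres (residue A a)
    refine ⟨c, ?_⟩
    have h2 : algebraMap A N (a - algebraMap k A c) ∈ (σ i).asIdeal :=
      (hMA i).ge (Ideal.Quotient.eq.1 hc.symm)
    rw [map_sub] at h2
    simpa using add_mem ha h2
  -- the conductor contains the radical
  have hJ : ∀ x : N, (∀ i, x ∈ (σ i).asIdeal) → ∃ a ∈ maximalIdeal A, algebraMap A N a = x := fun x hx => by
    obtain ⟨a, ha⟩ := hJ' x hx
    refine ⟨a, ?_, ha⟩
    rw [← hMA ⟨0, hn0⟩, Ideal.mem_comap, ha]
    exact hx _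
  choose ψ hψC hψr hψd using fun i => haveI := (σ i).isMaximal; exists_branch hfin hdim (σ i).asIdeal (hresN i)
  let θ : A →+* (Fin n → PowerSeries k) := (RingHom.pi ψ).comp (algebraMap A N)
  have hcross : ∀ a, θ a ∈ crossSet k n := fun a => by
    obtain ⟨c, hc⟩ := hres (residue A a)
    have h : ∀ i, constantCoeff (θ a i) = c := fun i => by
      have h1 : algebraMap A N (a - algebraMap k A c) ∈ (σ i).asIdeal :=
        (hMA i).ge (Ideal.Quotient.eq.1 hc.symm)
      rw [← pow_one (σ i).asIdeal, hψr, pow_one, X_dvd_iff, map_sub, map_sub, hψC, map_sub,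
        constantCoeff_C, sub_eq_zero] at h1
      exact h1
    intro i j; rw [h, h]
  refine ⟨θ, fun c => funext fun i => hψC i c, fun r a => ?_, hcross, fun r f hf => ?_⟩
  · refine ⟨fun ha i => (hψr i r _).1 ?_, fun ha => ?_⟩
    · refine Ideal.pow_right_mono (Ideal.map_le_iff_le_comap.2 (hMA i).ge) r ?_
      rw [← Ideal.map_pow]; exact Ideal.mem_map_of_mem _ ha
    · have h1 : algebraMap A N a ∈ ⨅ i, (σ i).asIdeal ^ r :=
        Submodule.mem_iInf _ |>.2 fun i => (hψr i r _).2 (ha i)
      have h2 : ⨅ i, (σ i).asIdeal ^ r = (⨅ i, (σ i).asIdeal) ^ r := by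
        have e1 := Ideal.prod_eq_iInf_of_pairwise_isCoprime (s := Finset.univ) (J := fun i => (σ i).asIdeal ^ r)
          fun i _ j _ hij => (hcop hij).pow
        have e2 := Ideal.prod_eq_iInf_of_pairwise_isCoprime (s := Finset.univ) (J := fun i => (σ i).asIdeal)
          fun i _ j _ hij => hcop hij
        simp only [Finset.mem_univ, iInf_pos] at e1 e2
        rw [← e1, ← e2, Finset.prod_pow]
      rw [h2] at h1
      have h3 : ∀ (r : ℕ), ∀ z ∈ (⨅ i, (σ i).asIdeal) ^ r, ∃ b ∈ maximalIdeal A ^ r, algebraMap A N b = z ∨ r = 0 := by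
        intro r
        induction r with
        | zero => exact fun z _ => ⟨0, zero_mem _, Or.inr rfl⟩
        | succ r ih =>
          intro z hz
          rw [pow_succ] at hz
          refine Submodule.mul_induction_on hz (fun x hx y hy => ?_) ?_
          · rcases eq_or_ne r 0 with rfl | hr
            · obtain ⟨b, hb, e⟩ := hJ (x * y) fun i => Ideal.mul_mem_left _ _ ((Submodule.mem_iInf _).1 hy i)
              exact ⟨b, by simpa using hb, Or.inl e⟩
            · obtain ⟨b, hb, e⟩ := ih x hx
              obtain ⟨c, hc, e'⟩ := hJ y ((Submodule.mem_iInf _).1 hy)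
              exact ⟨b * c, pow_succ (maximalIdeal A) r ▸ Ideal.mul_mem_mul hb hc,
                Or.inl (by rw [map_mul, e', e.resolve_right hr])⟩
          · rintro x y ⟨b, hb, e⟩ ⟨c, hc, e'⟩
            exact ⟨b + c, add_mem hb hc, Or.inl (by
              rw [map_add, e.resolve_right (Nat.succ_ne_zero r), e'.resolve_right (Nat.succ_ne_zero r)])⟩
      rcases eq_or_ne r 0 with rfl | hr
      · simp
      · obtain ⟨b, hb, e⟩ := h3 r _ h1
        have e1 : b = a := IsFractionRing.injective A (FractionRing A) (congrArg Subtype.val (e.resolve_right hr))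
        rwa [e1] at hb
  · choose y hy using fun i => hψd i (r + 1) (f i)
    obtain ⟨x, hx⟩ := Ideal.exists_forall_sub_mem_ideal (I := fun i => (σ i).asIdeal ^ (r + 1))
      (fun i j hij => (hcop hij).pow) y
    have hfx : ∀ i, X ^ (r + 1) ∣ ψ i x - f i := fun i => by
      have h1 := (hψr i (r + 1) _).1 (hx i)
      rw [map_sub] at h1
      convert dvd_add h1 (hy i) using 1
      ring
    let c := constantCoeff (f ⟨0, hn0⟩)
    obtain ⟨a, -, ha⟩ := hJ (x - algebraMap A N (algebraMap k A c)) fun i => by
      rw [← pow_one (σ i).asIdeal, hψr, pow_one, X_dvd_iff, map_sub, map_sub, hψC, constantCoeff_C]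
      have h1 := X_pow_dvd_iff.1 (hfx i) 0 (Nat.succ_pos r)
      simp only [map_sub, coeff_zero_eq_constantCoeff_apply, sub_eq_zero] at h1
      rw [h1, hf i ⟨0, hn0⟩, sub_self]
    refine ⟨a + algebraMap k A c, fun i => ?_⟩
    show X ^ r ∣ ψ i (algebraMap A N (a + algebraMap k A c)) - f i
    rw [map_add, ha, sub_add_cancel]
    exact (pow_dvd_pow X r.le_succ).trans (hfx i)

end Branches

section Axes

open MvPowerSeries (killCompl)

variable (k) (n : ℕ)

/-- The ideal of the coordinate axes. -/
def axesIdeal : Ideal (MvPowerSeries (Fin n) k) :=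
  Ideal.span {f : MvPowerSeries (Fin n) k | ∃ i j : Fin n, i ≠ j ∧ f = MvPowerSeries.X i * MvPowerSeries.X j}

/-- Restriction of a series to the axes. -/
def axes : MvPowerSeries (Fin n) k →+* (Fin n → PowerSeries k) :=
  RingHom.pi fun i =>
    (MvPowerSeries.killCompl (R := k) (⟨fun _ => i, fun _ _ _ => Subsingleton.elim _ _⟩ : Unit ↪ Fin n)).toRingHom

theorem coeff_axes (f : MvPowerSeries (Fin n) k) (i : Fin n) (j : ℕ) :
    coeff j (axes k n f i) = MvPowerSeries.coeff (Finsupp.single i j) f := by
  show MvPowerSeries.coeff (Finsupp.single () j) (MvPowerSeries.killCompl _ f) = _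
  rw [MvPowerSeries.coeff_killCompl, Finsupp.embDomain_single]
  rfl

theorem range_axes (hn : 0 < n) : Set.range (axes k n) = crossSet k n := by
  classical
  ext f
  constructor
  · rintro ⟨g, rfl⟩ i j
    rw [← coeff_zero_eq_constantCoeff_apply, ← coeff_zero_eq_constantCoeff_apply, coeff_axes, coeff_axes,
      Finsupp.single_zero, Finsupp.single_zero]
  · intro hf
    let g : MvPowerSeries (Fin n) k := fun d =>
      if d = 0 then constantCoeff (f ⟨0, hn⟩)
      else if h : ∃ i, d = Finsupp.single i (d i) then coeff (d h.choose) (f h.choose) else 0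
    refine ⟨g, funext fun i => PowerSeries.ext fun j => ?_⟩
    rw [coeff_axes, MvPowerSeries.coeff_apply]
    simp only [g]
    by_cases hj : j = 0
    · subst hj
      rw [if_pos (Finsupp.single_zero i), hf ⟨0, hn⟩ i, coeff_zero_eq_constantCoeff_apply]
    · have hne : Finsupp.single i j ≠ 0 := by simpa using hj
      have hex : ∃ l, Finsupp.single i j = Finsupp.single l (Finsupp.single i j l) :=
        ⟨i, by rw [Finsupp.single_eq_same]⟩
      rw [if_neg hne, dif_pos hex]
      have hl : hex.choose = i := by
        by_contra hl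
        have h := hex.choose_spec
        rw [Finsupp.single_eq_of_ne hl, Finsupp.single_zero] at h
        exact hne h
      rw [hl, Finsupp.single_eq_same]

theorem ker_axes (hn : 0 < n) : RingHom.ker (axes k n) = axesIdeal k n := by
  classical
  refine le_antisymm (fun f hf => ?_) (Ideal.span_le.2 ?_)
  · have hax : ∀ i j, MvPowerSeries.coeff (Finsupp.single i j) f = 0 := fun i j => by
      rw [← coeff_axes, RingHom.mem_ker.1 hf, Pi.zero_apply, map_zero]
    have hpair : ∀ d, MvPowerSeries.coeff d f ≠ 0 → ∃ p : Fin n × Fin n, p.1 ≠ p.2 ∧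
        Finsupp.single p.1 1 + Finsupp.single p.2 1 ≤ d := fun d hd => by
      obtain ⟨i, hi⟩ : ∃ i, d i ≠ 0 := by
        by_contra h
        push Not at h
        exact hd (by rw [show d = Finsupp.single ⟨0, hn⟩ 0 from Finsupp.ext fun i => by simp [h i]]; exact hax _ _)
      obtain ⟨j, hj, hji⟩ : ∃ j, d j ≠ 0 ∧ j ≠ i := by
        by_contra h
        push Not at h
        exact hd (by
          rw [show d = Finsupp.single i (d i) from Finsupp.ext fun l => by
            by_cases hl : l = i
            · rw [hl, Finsupp.single_eq_same]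
            · rw [Finsupp.single_eq_of_ne hl]
              by_contra h0
              exact hl (h l h0)]
          exact hax _ _)
      refine ⟨(i, j), hji.symm, fun l => ?_⟩
      rw [Finsupp.add_apply]
      by_cases h1 : l = i
      · subst h1; rw [Finsupp.single_eq_same, Finsupp.single_eq_of_ne hji.symm]; omega
      · rw [Finsupp.single_eq_of_ne h1]
        by_cases h2 : l = j
        · subst h2; rw [Finsupp.single_eq_same]; omega
        · rw [Finsupp.single_eq_of_ne h2]; omega
    haveI : Nonempty (Fin n) := ⟨⟨0, hn⟩⟩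
    choose! pr hpr hprle using hpair
    let g : Fin n × Fin n → MvPowerSeries (Fin n) k := fun p e =>
      if pr (e + (Finsupp.single p.1 1 + Finsupp.single p.2 1)) = p
        then MvPowerSeries.coeff (e + (Finsupp.single p.1 1 + Finsupp.single p.2 1)) f else 0
    have hXX : ∀ p : Fin n × Fin n, (MvPowerSeries.X p.1 * MvPowerSeries.X p.2 : MvPowerSeries (Fin n) k) =
        MvPowerSeries.monomial (Finsupp.single p.1 1 + Finsupp.single p.2 1) 1 := fun p => by
      rw [MvPowerSeries.X_def, MvPowerSeries.X_def, MvPowerSeries.monomial_mul_monomial, mul_one]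
    have hf' : f = ∑ p ∈ Finset.univ.filter (fun p : Fin n × Fin n => p.1 ≠ p.2),
        MvPowerSeries.X p.1 * MvPowerSeries.X p.2 * g p := by
      refine MvPowerSeries.ext fun d => ?_
      rw [map_sum]
      simp only [hXX, MvPowerSeries.coeff_monomial_mul, one_mul]
      by_cases hd : MvPowerSeries.coeff d f = 0
      · rw [hd]
        refine (Finset.sum_eq_zero fun p _ => ?_).symm
        split_ifs with h
        · rw [MvPowerSeries.coeff_apply]
          simp only [g, tsub_add_cancel_of_le h, hd, ite_self]
        · rfl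
      · rw [Finset.sum_eq_single (pr d)]
        · rw [if_pos (hprle d hd), MvPowerSeries.coeff_apply, MvPowerSeries.coeff_apply]
          simp [g, tsub_add_cancel_of_le (hprle d hd), MvPowerSeries.coeff_apply]
        · intro p _ hp
          split_ifs with h
          · rw [MvPowerSeries.coeff_apply]
            simp only [g, tsub_add_cancel_of_le h, if_neg (Ne.symm hp)]
          · rfl
        · intro h
          exact absurd (Finset.mem_filter.2 ⟨Finset.mem_univ (pr d), hpr d hd⟩) h
    rw [hf']
    exact Ideal.sum_mem _ fun p hp =>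
      Ideal.mul_mem_right _ _ (Ideal.subset_span ⟨p.1, p.2, (Finset.mem_filter.1 hp).2, rfl⟩)
  · rintro _ ⟨i, j, hij, rfl⟩
    refine funext fun l => PowerSeries.ext fun d => ?_
    rw [coeff_axes, Pi.zero_apply, map_zero, MvPowerSeries.X_def, MvPowerSeries.X_def,
      MvPowerSeries.monomial_mul_monomial, MvPowerSeries.coeff_monomial, if_neg]
    intro h
    have h1 := DFunLike.congr_fun h i
    have h2 := DFunLike.congr_fun h j
    rw [Finsupp.add_apply, Finsupp.single_eq_same, Finsupp.single_eq_of_ne hij] at h1
    rw [Finsupp.add_apply, Finsupp.single_eq_same, Finsupp.single_eq_of_ne hij.symm] at h2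
    by_cases hl : i = l
    · subst hl; rw [Finsupp.single_eq_of_ne hij.symm] at h2; omega
    · rw [Finsupp.single_eq_of_ne hl] at h1; omega

theorem axes_C (c : k) : axes k n (MvPowerSeries.C c) = fun _ => C c := by
  funext i
  refine PowerSeries.ext fun j => ?_
  rw [coeff_axes, MvPowerSeries.coeff_C, PowerSeries.coeff_C]
  simp [Finsupp.single_eq_zero]

/-- The axes of affine `n`-space have as formal ring the multicross ring. -/
theorem exists_axes_map (hn : 0 < n) :
    ∃ ψ : MvPowerSeries (Fin n) k ⧸ axesIdeal k n →+* (Fin n → PowerSeries k),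
      Function.Injective ψ ∧ Set.range ψ = crossSet k n ∧
      ∀ c, ψ (Ideal.Quotient.mk _ (MvPowerSeries.C c)) = fun _ => C c := by
  refine ⟨Ideal.Quotient.lift _ (axes k n) fun f hf => RingHom.mem_ker.1 ((ker_axes k n hn).ge hf),
    RingHom.lift_injective_of_ker_le_ideal _ _ (ker_axes k n hn).le, ?_, fun c => ?_⟩
  · rw [← range_axes k n hn]
    ext f
    constructor
    · rintro ⟨z, rfl⟩
      obtain ⟨z, rfl⟩ := Ideal.Quotient.mk_surjective z
      exact ⟨z, (Ideal.Quotient.lift_mk _ _ _).symm⟩
    · rintro ⟨z, rfl⟩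
      exact ⟨Ideal.Quotient.mk _ z, Ideal.Quotient.lift_mk _ _ _⟩
  · rw [Ideal.Quotient.lift_mk, axes_C]

end Axes

section Invariants

variable {n : ℕ}

/-- The maximal ideals of a finite product of power series rings. -/
theorem exists_equiv_maximalSpectrum :
    ∃ e : Fin n ≃ MaximalSpectrum (Fin n → PowerSeries k), ∀ i,
      (e i).asIdeal = (maximalIdeal (PowerSeries k)).comap (Pi.evalRingHom (fun _ : Fin n => PowerSeries k) i) := by
  classical
  let M : Fin n → MaximalSpectrum (Fin n → PowerSeries k) := fun i =>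
    ⟨(maximalIdeal (PowerSeries k)).comap (Pi.evalRingHom (fun _ : Fin n => PowerSeries k) i),
      Ideal.comap_isMaximal_of_surjective _ fun z => ⟨Function.update (fun _ => 0) i z, by simp⟩⟩
  have hmem : ∀ i j, Pi.single i (1 : PowerSeries k) ∈ (M j).asIdeal ↔ i ≠ j := fun i j => by
    show Pi.single (M := fun _ => PowerSeries k) i 1 j ∈ maximalIdeal (PowerSeries k) ↔ _
    by_cases h : i = j
    · subst h; rw [Pi.single_eq_same]
      exact ⟨fun h => absurd h (((Ideal.ne_top_iff_one _).1 (maximalIdeal.isMaximal (PowerSeries k)).ne_top)), fun h => absurd rfl h⟩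
    · rw [Pi.single_eq_of_ne (Ne.symm h)]
      exact ⟨fun _ => h, fun _ => zero_mem _⟩
  have hinj : Function.Injective M := fun i j h => by
    by_contra hij
    have h1 := (hmem i j).2 hij
    rw [← h] at h1
    exact (hmem i i).1 h1 rfl
  have hsurj : Function.Surjective M := fun P => by
    obtain ⟨i, hi⟩ : ∃ i, Pi.single i (1 : PowerSeries k) ∉ P.asIdeal := by
      by_contra h
      push Not at h
      refine P.isMaximal.ne_top ((Ideal.eq_top_iff_one _).2 ?_)
      rw [← Finset.univ_sum_single (1 : Fin n → PowerSeries k)]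
      exact Ideal.sum_mem _ fun i _ => h i
    refine ⟨i, MaximalSpectrum.ext (P.isMaximal.eq_of_le (M i).isMaximal.ne_top fun z hz => ?_).symm⟩
    show z i ∈ maximalIdeal (PowerSeries k)
    by_contra hu
    obtain ⟨u, hu⟩ : IsUnit (z i) := by simpa using hu
    refine hi (?_ : _ ∈ P.asIdeal)
    rw [show Pi.single i (1 : PowerSeries k) = Pi.single i (↑u⁻¹ : PowerSeries k) * z by
      funext j
      by_cases hj : j = i
      · subst hj; rw [Pi.mul_apply, Pi.single_eq_same, Pi.single_eq_same, ← hu, Units.inv_mul]
      · rw [Pi.mul_apply, Pi.single_eq_of_ne hj, Pi.single_eq_of_ne hj, zero_mul]]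
    exact Ideal.mul_mem_left _ _ hz
  exact ⟨Equiv.ofBijective M ⟨hinj, hsurj⟩, fun i => rfl⟩

/-- The local rings of a finite product of power series rings. -/
theorem localization_pi (i : Fin n) (P : Ideal (Fin n → PowerSeries k)) [P.IsPrime]
    (hP : P = (maximalIdeal (PowerSeries k)).comap (Pi.evalRingHom (fun _ : Fin n => PowerSeries k) i)) :
    IsDomain (Localization.AtPrime P) ∧ IsIntegrallyClosed (Localization.AtPrime P) := by
  classical
  haveI : IsDomain (PowerSeries k) := NoZeroDivisors.to_isDomain _
  letI : Algebra (Fin n → PowerSeries k) (PowerSeries k) := (Pi.evalRingHom (fun _ : Fin n => PowerSeries k) i).toAlgebra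
  haveI : IsLocalization P.primeCompl (PowerSeries k) :=
    { map_units := fun s => by
        show IsUnit ((s : Fin n → PowerSeries k) i)
        by_contra h
        exact s.2 (hP.ge h)
      surj := fun z => ⟨⟨Pi.single i z, 1⟩, by
        show z * (1 : Fin n → PowerSeries k) i = Pi.single (M := fun _ => PowerSeries k) i z i
        rw [Pi.one_apply, mul_one, Pi.single_eq_same]⟩
      exists_of_eq := fun {a b} h => ⟨⟨Pi.single i 1, fun hm => by
          have hm := hP.le hm
          rw [Ideal.mem_comap, Pi.evalRingHom_apply, Pi.single_eq_same] at hm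
          exact ((Ideal.ne_top_iff_one _).1 (maximalIdeal.isMaximal (PowerSeries k)).ne_top) hm⟩, by
        funext j
        by_cases hj : j = i
        · subst hj
          show Pi.single (M := fun _ => PowerSeries k) j 1 j * a j = Pi.single (M := fun _ => PowerSeries k) j 1 j * b j
          rw [show a j = b j from h]
        · show Pi.single (M := fun _ => PowerSeries k) i 1 j * a j = Pi.single (M := fun _ => PowerSeries k) i 1 j * b j
          rw [Pi.single_eq_of_ne hj, zero_mul, zero_mul]⟩ }
  let e : Localization.AtPrime P ≃+* PowerSeries k :=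
    (IsLocalization.algEquiv P.primeCompl (Localization.AtPrime P) (PowerSeries k)).toRingEquiv
  exact ⟨MulEquiv.isDomain (PowerSeries k) e.toMulEquiv, IsIntegrallyClosed.of_equiv e.symm⟩

/-- The δ-invariant and the branches of the multicross ring. -/
theorem invariants {S : Type u} [CommRing S] [IsLocalRing S] [IsNoetherianRing S] (hn : 0 < n)
    (φ : S →+* (Fin n → PowerSeries k)) (hinj : Function.Injective φ) (hrange : Set.range φ = crossSet k n) :
    IsReduced S ∧ Curv2.deltaInv S + 1 = n ∧ Brnch.numBranches S = n := by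
  classical
  haveI : IsDomain (PowerSeries k) := NoZeroDivisors.to_isDomain _
  haveI : IsReduced S := isReduced_of_injective φ hinj
  letI : Algebra S (Fin n → PowerSeries k) := φ.toAlgebra
  have hmem : ∀ f, f ∈ crossSet k n → ∃ c, φ c = f := fun f hf => hrange.ge hf
  obtain ⟨t, ht⟩ := hmem (fun _ => X) fun _ _ => rfl
  have htN : ∀ z : Fin n → PowerSeries k, φ t * z = 0 → z = 0 := fun z hz => funext fun i => by
    have h := congrFun hz i
    rw [ht, Pi.mul_apply, Pi.zero_apply] at h
    exact (mul_eq_zero.1 h).resolve_left X_ne_zero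
  have htC : t ∈ nonZeroDivisors S := mem_nonZeroDivisors_iff_left.2 fun b hb =>
    hinj (by rw [map_zero]; exact htN _ (by rw [← map_mul, hb, map_zero]))
  have hden : ∀ z, ∃ a : S, φ a = φ t * z := fun z => hmem _ fun i j => by
    rw [ht, Pi.mul_apply, Pi.mul_apply, map_mul, map_mul, constantCoeff_X, zero_mul, zero_mul]
  haveI : Module.Finite S (Fin n → PowerSeries k) := by
    refine ⟨⟨Finset.univ.image fun i => Pi.single i (1 : PowerSeries k), eq_top_iff.2 fun z _ => ?_⟩⟩
    rw [← Finset.univ_sum_single z]
    refine Submodule.sum_mem _ fun i _ => ?_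
    obtain ⟨c, hc⟩ := hmem (fun j => if j = i then z i else PowerSeries.C (constantCoeff (z i))) fun a b => by
      simp only
      split_ifs <;> simp
    rw [show (Pi.single i (z i) : Fin n → PowerSeries k) = c • (Pi.single i 1 : Fin n → PowerSeries k) by
      funext j
      show _ = (φ c * (Pi.single i 1 : Fin n → PowerSeries k)) j
      rw [hc, Pi.mul_apply]
      by_cases hj : j = i
      · subst hj; simp
      · rw [Pi.single_eq_of_ne hj, Pi.single_eq_of_ne hj, mul_zero]]
    exact Submodule.smul_mem _ _ (Submodule.subset_span (by simp))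
  obtain ⟨eM, heM⟩ := exists_equiv_maximalSpectrum (k := k) (n := n)
  have hnorm : ∀ P : Ideal (Fin n → PowerSeries k), ∀ hP : P.IsMaximal,
      haveI := hP; IsDomain (Localization.AtPrime P) ∧ IsIntegrallyClosed (Localization.AtPrime P) := fun P hP => by
    haveI := hP
    refine localization_pi (eM.symm ⟨P, hP⟩) P ?_
    rw [← heM, Equiv.apply_symm_apply]
  have hbr : Brnch.numBranches S = n := by
    obtain ⟨e⟩ := Delta.exists_algEquiv_integralClosure (Fin n → PowerSeries k) (A := S) hinj inferInstance
      htC htN hden hnorm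
    rw [numBranches_eq_card]
    let Φ : MaximalSpectrum (Fin n → PowerSeries k) ≃ MaximalSpectrum (integralClosure S (FractionRing S)) :=
      { toFun := fun m => ⟨m.asIdeal.comap e.symm.toRingEquiv,
          haveI := m.isMaximal; Ideal.comap_isMaximal_of_surjective _ e.symm.surjective⟩
        invFun := fun m => ⟨m.asIdeal.comap e.toRingEquiv,
          haveI := m.isMaximal; Ideal.comap_isMaximal_of_surjective _ e.surjective⟩
        left_inv := fun m => MaximalSpectrum.ext (by ext z; simp)
        right_inv := fun m => MaximalSpectrum.ext (by ext z; simp) }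
    rw [← ENat.card_congr (eM.trans Φ)]
    simp
  refine ⟨inferInstance, ?_, hbr⟩
  rw [(Delta.deltaInv_eq_length (Fin n → PowerSeries k) (A := S) hinj htC htN hden hnorm).1]
  have hsec : ∀ a : k, ∃ c, φ c = fun _ => PowerSeries.C a := fun a => hmem _ fun _ _ => rfl
  choose sec hsec using hsec
  have hcon : ∀ c i j, constantCoeff (φ c i) = constantCoeff (φ c j) := fun c => hrange.le ⟨c, rfl⟩
  have hres : ∀ c i, residue S c = residue S (sec (constantCoeff (φ c i))) := fun c i => by
    refine Ideal.Quotient.eq.2 ((mem_maximalIdeal _).2 fun hu => ?_)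
    have h := PowerSeries.isUnit_iff_constantCoeff.1
      ((hu.map φ).map (Pi.evalRingHom (fun _ : Fin n => PowerSeries k) i))
    rw [Pi.evalRingHom_apply, map_sub, Pi.sub_apply, hsec, map_sub, constantCoeff_C, sub_self] at h
    exact not_isUnit_zero h
  have hadd : ∀ a b, sec (a + b) = sec a + sec b := fun a b => hinj (by
    rw [map_add φ, hsec, hsec, hsec]; exact funext fun _ => map_add _ _ _)
  have hmul : ∀ a b, sec (a * b) = sec a * sec b := fun a b => hinj (by
    rw [map_mul φ, hsec, hsec, hsec]; exact funext fun _ => map_mul _ _ _)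
  have hsec0 : ∀ a, residue S (sec a) = 0 → a = 0 := fun a ha => by
    by_contra h
    refine (mem_maximalIdeal _).1 ((residue_eq_zero_iff _).1 ha) (.of_mul_eq_one (sec a⁻¹) (hinj ?_))
    rw [map_mul, hsec, hsec, map_one]
    exact funext fun _ => by rw [Pi.mul_apply, ← map_mul, mul_inv_cancel₀ h, map_one, Pi.one_apply]
  let π : (Fin n → PowerSeries k) →ₗ[S] (Fin n → ResidueField S) :=
    { toFun := fun z i => residue S (sec (constantCoeff (z i)))
      map_add' := fun a b => funext fun i => by
        show residue S (sec (constantCoeff (a i + b i))) = _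
        rw [map_add, hadd, map_add]; rfl
      map_smul' := fun c z => funext fun i => by
        show residue S (sec (constantCoeff (φ c i * z i))) = residue S c * residue S (sec (constantCoeff (z i)))
        rw [map_mul, hmul, map_mul, ← hres] }
  let diag : ResidueField S →ₗ[S] (Fin n → ResidueField S) := LinearMap.pi fun _ => LinearMap.id
  let R := LinearMap.range (Algebra.linearMap S (Fin n → PowerSeries k))
  have hπR : R = Submodule.comap π (LinearMap.range diag) := by
    ext z
    constructor
    · rintro ⟨c, rfl⟩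
      exact ⟨residue S c, funext fun i => hres c i⟩
    · rintro ⟨c, hc⟩
      obtain ⟨a, ha⟩ := hmem z fun i j => by
        have h : residue S (sec (constantCoeff (z i))) = residue S (sec (constantCoeff (z j))) :=
          (congrFun hc i).symm.trans (congrFun hc j)
        refine sub_eq_zero.1 (hsec0 _ ?_)
        have h2 := hadd (constantCoeff (z i) - constantCoeff (z j)) (constantCoeff (z j))
        rw [sub_add_cancel] at h2
        rw [eq_sub_of_add_eq h2.symm, map_sub, h, sub_self]
      exact ⟨a, ha⟩
  have hπs : Function.Surjective π := fun w => by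
    choose v hv using fun i => residue_surjective (w i)
    refine ⟨fun i => PowerSeries.C (constantCoeff (φ (v i) i)), funext fun i => ?_⟩
    show residue S (sec (constantCoeff (PowerSeries.C _))) = w i
    rw [constantCoeff_C, ← hres, hv]
  let q : ((Fin n → PowerSeries k) ⧸ R) →ₗ[S] ((Fin n → ResidueField S) ⧸ LinearMap.range diag) :=
    Submodule.mapQ _ _ π hπR.le
  have hq : Function.Bijective q := by
    refine ⟨?_, fun w => ?_⟩
    · rw [← LinearMap.ker_eq_bot, Submodule.ker_mapQ, ← hπR, ← Submodule.mkQ_map_self R]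
    · obtain ⟨w, rfl⟩ := Submodule.mkQ_surjective _ w
      obtain ⟨z, rfl⟩ := hπs w
      exact ⟨Submodule.Quotient.mk z, rfl⟩
  rw [(LinearEquiv.ofBijective q hq).length_eq]
  have h := Module.length_eq_add_of_exact diag (LinearMap.range diag).mkQ
    (fun a b hab => congrFun hab ⟨0, hn⟩) (Submodule.mkQ_surjective _) (LinearMap.exact_map_mkQ_range diag)
  haveI : IsSimpleModule S (ResidueField S) :=
    isSimpleModule_iff_isCoatom.2 (maximalIdeal.isMaximal S).out
  rw [Module.length_pi_of_fintype, Module.length_eq_one S (ResidueField S), Finset.sum_const, Finset.card_univ,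
    Fintype.card_fin, nsmul_one] at h
  rw [h, add_comm]

end Invariants

section Structure

variable {A : Type u} [CommRing A] [IsLocalRing A] [IsReduced A] [IsNoetherianRing A] [Algebra k A]
  (hfin : Module.Finite A (integralClosure A (FractionRing A))) (hdim : ringKrullDim A = 1)
  (hres : Function.Surjective ((residue A).comp (algebraMap k A))) {n : ℕ}
  (hn : Brnch.numBranches A = n) (hδ : Curv2.deltaInv A + 1 = n)

include hfin hdim hres hn hδ

/-- With δ one less than the number of branches the completion is the multicross ring. -/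
theorem exists_multicross :
    ∃ φ : AdicCompletion (maximalIdeal A) A →+* (Fin n → PowerSeries k),
      Function.Injective φ ∧
      (∀ c : k, φ (algebraMap A (AdicCompletion (maximalIdeal A) A) (algebraMap k A c)) =
        fun _ => algebraMap k (PowerSeries k) c) ∧
      Set.range φ = crossSet k n := by
  obtain ⟨θ, hθC, hθr, hθm, hθd⟩ := exists_data hfin hdim hres hn hδ
  obtain ⟨φ, hφi, hφr, hφc⟩ := exists_completion_map (maximalIdeal A) θ hθr (crossSet k n) (fun _ => Iff.rfl)
    hθm hθd
  refine ⟨φ, hφi, fun c => ?_, hφr⟩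
  rw [hφc, hθC]
  rfl

/-- With δ one less than the number of branches the tangent space has that dimension. -/
theorem finrank_cotangentSpace :
    Module.finrank (ResidueField A) (CotangentSpace A) = n := by
  obtain ⟨θ, hθC, hθr, hθm, hθd⟩ := exists_data hfin hdim hres hn hδ
  have h0 : ∀ a ∈ maximalIdeal A, ∀ i, constantCoeff (θ a i) = 0 := fun a ha i => by
    have h := (hθr 1 a).1 (by rwa [pow_one]) i
    rwa [pow_one, X_dvd_iff] at h
  have hres' : ∀ (a : A) i, residue A a = residue A (algebraMap k A (constantCoeff (θ a i))) := fun a i => by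
    obtain ⟨c, hc⟩ := hres (residue A a)
    have h := h0 _ (Ideal.Quotient.eq.1 hc.symm) i
    rw [map_sub, Pi.sub_apply, hθC, map_sub, constantCoeff_C, sub_eq_zero] at h
    rw [h]; exact hc.symm
  let Λ : (maximalIdeal A) →ₗ[A] (Fin n → ResidueField A) :=
    { toFun := fun a i => residue A (algebraMap k A (coeff 1 (θ (a : A) i)))
      map_add' := fun a b => funext fun i => by
        show residue A (algebraMap k A (coeff 1 (θ ((a : A) + b) i))) = _
        rw [map_add, Pi.add_apply, map_add, map_add, map_add]; rfl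
      map_smul' := fun c a => funext fun i => by
        show residue A (algebraMap k A (coeff 1 (θ (c * (a : A)) i))) =
          residue A c * residue A (algebraMap k A (coeff 1 (θ (a : A) i)))
        rw [map_mul, Pi.mul_apply, PowerSeries.coeff_one_mul, h0 _ a.2 i, mul_zero, zero_add, map_mul,
          map_mul, hres' c i, mul_comm] }
  have hker : LinearMap.ker Λ = maximalIdeal A • (⊤ : Submodule A (maximalIdeal A)) := by
    ext a
    rw [Submodule.mem_smul_top_iff, smul_eq_mul, ← pow_two, hθr, LinearMap.mem_ker, funext_iff]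
    refine forall_congr' fun i => ?_
    show residue A (algebraMap k A (coeff 1 (θ (a : A) i))) = 0 ↔ _
    rw [X_pow_dvd_iff]
    constructor
    · intro h j hj
      interval_cases j
      · rw [coeff_zero_eq_constantCoeff_apply]; exact h0 _ a.2 i
      · exact ((residue A).comp (algebraMap k A)).injective (by rw [map_zero]; exact h)
    · intro h; rw [h 1 one_lt_two, map_zero, map_zero]
  have hsurj : Function.Surjective Λ := fun w => by
    choose c hc using fun i => hres (w i)
    obtain ⟨a, ha⟩ := hθd 2 (fun i => C (c i) * X) fun i j => by simp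
    have hcoef : ∀ i j, j < 2 → coeff j (θ a i) = coeff j (C (c i) * X) := fun i j hj => by
      have h := X_pow_dvd_iff.1 (ha i) j hj
      rwa [map_sub, sub_eq_zero] at h
    have hm : a ∈ maximalIdeal A := by
      rw [← pow_one (maximalIdeal A), hθr]
      intro i
      rw [pow_one, X_dvd_iff, ← coeff_zero_eq_constantCoeff_apply, hcoef i 0 two_pos]
      simp
    refine ⟨⟨a, hm⟩, funext fun i => ?_⟩
    show residue A (algebraMap k A (coeff 1 (θ a i))) = w i
    rw [hcoef i 1 one_lt_two, coeff_C_mul, coeff_one_X, mul_one]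
    exact hc i
  have e : Module.length A (CotangentSpace A) = n := by
    rw [show Module.length A (CotangentSpace A) = Module.length A
        ((maximalIdeal A) ⧸ (maximalIdeal A • (⊤ : Submodule A (maximalIdeal A)))) from rfl, ← hker,
      (Λ.quotKerEquivOfSurjective hsurj).length_eq]
    haveI : IsSimpleModule A (ResidueField A) :=
      isSimpleModule_iff_isCoatom.2 (maximalIdeal.isMaximal A).out
    rw [Module.length_pi_of_fintype, Module.length_eq_one A (ResidueField A)]
    simp
  rw [Module.length_eq_of_surjective (R := ResidueField A) (S := A) residue_surjective,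
    Module.length_eq_finrank] at e
  exact_mod_cast e

end Structure

end Groth.Agent.CurveGor.Multi
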