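import Groth.Agent.CurveGor.Multicross
import Groth.Agent.CurveDual.Depth
import Groth.Agent.TFOneX.Basic
import Groth.Agent.SchTop.Closed
import Groth.Agent.NagataLib.Scheme
import Groth.Agent.Lib.CurveSection
import Groth.Agent.S9241

/-!
# Ordinary multiple points on curves
-/

set_option autoImplicit false
set_option linter.style.haveILetI false
set_option backward.isDefEq.respectTransparency false
set_option backward.isDefEq.respectTransparency.types false
set_option maxHeartbeats 1000000
set_option synthInstance.maxHeartbeats 200000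

universe u

open CategoryTheory CategoryTheory.Limits AlgebraicGeometry IsLocalRing

noncomputable section

namespace Groth.Agent.CurveGor.Multi

open Groth.Agent

variable (k : Type u) [Field k] [IsAlgClosed k] {X : Scheme.{u}} [X.Over (Spec (CommRingCat.of k))]
  [LocallyOfFiniteType (X ↘ Spec (CommRingCat.of k))]

/-- The local ring at a closed point of a curve. -/
theorem stalk_data [IsReduced X] (hequi : ∀ Z ∈ irreducibleComponents (X : Type u), topologicalKrullDim Z = 1)
    {x : X} (hx : IsClosed ({x} : Set X)) :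
    _root_.IsReduced (X.presheaf.stalk x) ∧ CAlg.IsNagata (X.presheaf.stalk x) ∧
      Module.Finite (X.presheaf.stalk x) (integralClosure (X.presheaf.stalk x) (FractionRing (X.presheaf.stalk x))) ∧
      ringKrullDim (X.presheaf.stalk x) = 1 ∧
      Function.Surjective ((residue (X.presheaf.stalk x)).comp (Curv2.stalkMap k X x)) := by
  haveI := LocallyOfFiniteType.isLocallyNoetherian (X ↘ Spec (CommRingCat.of k))
  have hN := NagataLib.isNagata_stalk (X ↘ Spec (CommRingCat.of k)) x
  have hred : _root_.IsReduced (X.presheaf.stalk x) := inferInstance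
  haveI := hN.1
  have hng : x ∉ genericPoints (X : Type u) := fun hg => by
    have h1 := hequi _ hg
    rw [hx.closure_eq] at h1
    have h2 : topologicalKrullDim ({x} : Set X) ≤ 0 := topologicalKrullDim_zero_of_discreteTopology _
    rw [h1] at h2
    exact absurd h2 (by norm_num)
  refine ⟨hred, hN, RedNorm.finite_norm _ fun p => hN.2 p.1 (FractionRing (_ ⧸ p.1)) inferInstance,
    le_antisymm ((SchTop.ringKrullDim_stalk_le x).trans (TFOneX.dim_le_one hequi))
      (CurveDual.one_le_dim_stalk hng), fun z => ?_⟩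
  obtain ⟨c, hc⟩ := CurveSection.surjective_resMap k hx z
  exact ⟨c, hc⟩

/-- A multicross completion is seen by the branches and the δ-invariant. -/
theorem numBranchesAt_of_multicross [IsReduced X]
    (hequi : ∀ Z ∈ irreducibleComponents (X : Type u), topologicalKrullDim Z = 1)
    {x : X} (hx : IsClosed ({x} : Set X)) (n : ℕ)
    (e : Curv2.cpl (X.presheaf.stalk x) ≃+* (MvPowerSeries (Fin n) k ⧸ axesIdeal k n)) :
    Brnch.numBranchesAt X x = n ∧ Curv2.deltaInv (X.presheaf.stalk x) + 1 = n := by
  obtain ⟨hred, hN, hfin, hdim, -⟩ := stalk_data k hequi hx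
  haveI := hred
  haveI := hN.1
  have hmax : maximalIdeal (X.presheaf.stalk x) =
      (maximalIdeal (X.presheaf.stalk x)).map (algebraMap (X.presheaf.stalk x) (X.presheaf.stalk x)) := by
    rw [Algebra.algebraMap_self, Ideal.map_id]
  have fg := LocalCrit.maximalIdeal_fg (A := X.presheaf.stalk x) (C := X.presheaf.stalk x) hmax
  haveI : IsLocalRing (Curv2.cpl (X.presheaf.stalk x)) := AdicCompletion.isLocalRing_of_fg fg
  haveI : IsNoetherianRing (Curv2.cpl (X.presheaf.stalk x)) :=
    LocalCrit.isNoetherianRing_completion (A := X.presheaf.stalk x) (C := X.presheaf.stalk x) hmax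
  have hn : 0 < n := Nat.pos_of_ne_zero fun h0 => by
    subst h0
    obtain ⟨u, hum, hu⟩ := DeltaLib.exists_nzd_mem (A := X.presheaf.stalk x) hdim
    have hbot : axesIdeal k 0 = ⊥ := le_bot_iff.1 (Ideal.span_le.2 fun f hf => by
      obtain ⟨i, -⟩ := hf; exact i.elim0)
    have hfield : IsField (MvPowerSeries (Fin 0) k ⧸ axesIdeal k 0) := by
      refine MulEquiv.isField ?_ ((Ideal.quotEquivOfEq hbot).trans (RingEquiv.quotientBot _)).toMulEquiv
      exact MulEquiv.isField (Field.toIsField k) (RingEquiv.ofBijective (MvPowerSeries.constantCoeff (σ := Fin 0) (R := k))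
        ⟨fun f g h => MvPowerSeries.ext fun d => by
          rw [show d = 0 from Finsupp.ext fun i => i.elim0, MvPowerSeries.coeff_zero_eq_constantCoeff_apply,
            MvPowerSeries.coeff_zero_eq_constantCoeff_apply, h],
          fun c => ⟨MvPowerSeries.C c, MvPowerSeries.constantCoeff_C c⟩⟩).toMulEquiv
    have hfield' : IsField (Curv2.cpl (X.presheaf.stalk x)) := MulEquiv.isField hfield e.toMulEquiv
    have h1 : algebraMap (X.presheaf.stalk x) (Curv2.cpl (X.presheaf.stalk x)) u ∈
        maximalIdeal (Curv2.cpl (X.presheaf.stalk x)) := by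
      rw [AdicCompletion.maximalIdeal_eq_map_of_fg fg]
      exact Ideal.mem_map_of_mem _ hum
    rw [IsLocalRing.isField_iff_maximalIdeal_eq.1 hfield', Ideal.mem_bot] at h1
    haveI : IsHausdorff (maximalIdeal (X.presheaf.stalk x)) (X.presheaf.stalk x) :=
      IsHausdorff.of_isLocalRing _ _ (maximalIdeal.isMaximal (X.presheaf.stalk x)).ne_top
    have h2 : u = 0 := AdicCompletion.of_injective (maximalIdeal (X.presheaf.stalk x)) (X.presheaf.stalk x)
      (by rw [map_zero]; exact h1)
    exact nonZeroDivisors.ne_zero hu h2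
  obtain ⟨ψ, hψi, hψr, -⟩ := exists_axes_map k n hn
  obtain ⟨-, hδ, hbr⟩ := invariants (S := Curv2.cpl (X.presheaf.stalk x)) hn (ψ.comp e.toRingHom)
    (hψi.comp e.injective) (by
      rw [RingHom.coe_comp, Set.range_comp, show Set.range ⇑e.toRingHom = Set.univ from e.surjective.range_eq,
        Set.image_univ, hψr])
  rw [(S7654.result _ hN hdim).2.2] at hδ
  refine ⟨?_, hδ⟩
  rw [Brnch.numBranchesAt, ← (S9241.result _ hdim).1]
  exact hbr

/-- δ one less than the number of branches gives a multicross completion. -/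
theorem exists_iso_of_deltaInv [IsReduced X]
    (hequi : ∀ Z ∈ irreducibleComponents (X : Type u), topologicalKrullDim Z = 1)
    {x : X} (hx : IsClosed ({x} : Set X)) {n : ℕ} (hn : Brnch.numBranchesAt X x = n)
    (hδ : Curv2.deltaInv (X.presheaf.stalk x) + 1 = n) :
    (∃ e : Curv2.cpl (X.presheaf.stalk x) ≃+* (MvPowerSeries (Fin n) k ⧸ axesIdeal k n),
      ∀ c : k, e (algebraMap (X.presheaf.stalk x) (Curv2.cpl (X.presheaf.stalk x)) (Curv2.stalkMap k X x c)) =
        Ideal.Quotient.mk _ (MvPowerSeries.C c)) ∧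
    Module.finrank (ResidueField (X.presheaf.stalk x)) (CotangentSpace (X.presheaf.stalk x)) = n := by
  obtain ⟨hred, hN, hfin, hdim, hres⟩ := stalk_data k hequi hx
  haveI := hred
  haveI := hN.1
  letI : Algebra k (X.presheaf.stalk x) := Curv2.stalkAlgebra k X x
  refine ⟨?_, finrank_cotangentSpace (k := k) hfin hdim hres hn hδ⟩
  obtain ⟨φ, hφi, hφC, hφr⟩ := exists_multicross (k := k) hfin hdim hres hn hδ
  have hn0 : 0 < n := Nat.pos_of_ne_zero fun h => by
    subst h; simp at hδ
  obtain ⟨ψ, hψi, hψr, hψC⟩ := exists_axes_map k n hn0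
  have hmem : ∀ z, ∃ w, ψ w = φ z := fun z => hψr.ge (hφr.le ⟨z, rfl⟩)
  choose g hg using hmem
  let e₀ : Curv2.cpl (X.presheaf.stalk x) →+* (MvPowerSeries (Fin n) k ⧸ axesIdeal k n) :=
    { toFun := g
      map_one' := hψi (by rw [hg, map_one, map_one])
      map_mul' := fun a b => hψi (by rw [hg, map_mul, map_mul, hg, hg])
      map_zero' := hψi (by rw [hg, map_zero, map_zero])
      map_add' := fun a b => hψi (by rw [hg, map_add, map_add, hg, hg]) }
  refine ⟨RingEquiv.ofBijective e₀ ⟨fun a b h => hφi ?_, fun w => ?_⟩, fun c => ?_⟩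
  · rw [← hg a, ← hg b]; exact congrArg ψ h
  · obtain ⟨z, hz⟩ := hφr.ge (hψr.le ⟨w, rfl⟩)
    exact ⟨z, hψi ((hg z).trans hz)⟩
  · refine hψi ((hg _).trans ?_)
    rw [hψC]
    exact hφC c

end Groth.Agent.CurveGor.Multi
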