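import Groth.Agent.CurveGor.Nef
import Groth.Agent.TFOneX.Beta
import Groth.Agent.Lib.CurveAmple
import Groth.Agent.AmpleVan.Components

/-!
# Numerical facts about connected subcurves, and positivity of ample degrees
-/

set_option autoImplicit false
set_option linter.style.haveILetI false
set_option linter.unusedSectionVars false
set_option backward.isDefEq.respectTransparency false
set_option backward.isDefEq.respectTransparency.types false
set_option maxHeartbeats 1000000
set_option synthInstance.maxHeartbeats 200000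

universe u

open CategoryTheory CategoryTheory.Limits AlgebraicGeometry TopologicalSpace Opposite

noncomputable section

namespace Groth.Agent.CurveGor

open Groth.Agent TFOneX

variable {X : Scheme.{u}} {k : Type u} [Field k] [X.Over (Spec (CommRingCat.of k))]
  [IsProper (X ↘ Spec (CommRingCat.of k))]

/-- The genus of the reduced subscheme on `Y`. -/
def genusY (k : Type u) [Field k] [X.Over (Spec (CommRingCat.of k))] (Y : Set X) (hY : IsClosed Y) : ℕ :=
  @Curv2.genus k _ (vI Y hY).subscheme ⟨(vI Y hY).subschemeι ≫ (X ↘ (Spec (CommRingCat.of k)))⟩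

theorem genus_eq (Y : Set X) (hY : IsClosed Y) :
    @Curv2.genus k _ (vI Y hY).subscheme ⟨(vI Y hY).subschemeι ≫ (X ↘ (Spec (CommRingCat.of k)))⟩ = genusY k Y hY :=
  rfl

theorem genusY_nonneg (Y : Set X) (hY : IsClosed Y) : (0 : ℤ) ≤ genusY k Y hY := Int.natCast_nonneg _

/-- A connected reduced subcurve has `χ = 1 - g`. -/
theorem chiY_eq [IsAlgClosed k] (hdim : topologicalKrullDim X ≤ 1) {Y : Set X} (hY : IsClosed Y)
    (hconn : _root_.IsConnected Y) : chiY k Y hY = 1 - (genusY k Y hY : ℤ) := by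
  haveI := connectedSpace_subscheme hY hconn
  letI : (vI Y hY).subscheme.Over (Spec (CommRingCat.of k)) :=
    ⟨(vI Y hY).subschemeι ≫ (X ↘ (Spec (CommRingCat.of k)))⟩
  haveI : IsProper ((vI Y hY).subscheme ↘ Spec (CommRingCat.of k)) :=
    inferInstanceAs (IsProper ((vI Y hY).subschemeι ≫ (X ↘ (Spec (CommRingCat.of k)))))
  have hle : topologicalKrullDim (vI Y hY).subscheme ≤ 1 :=
    (vI Y hY).subschemeι.isClosedEmbedding.isInducing.topologicalKrullDim_le.trans hdim
  exact (euler_subscheme (k := k) (vI Y hY)).symm.trans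
    (euler_structure_eq (X := (vI Y hY).subscheme) hle)

theorem isCompUnion_closure {η : X} (hη : η ∈ genericPoints (X : Type u)) :
    IsCompUnion (closure ({η} : Set X)) :=
  fun _ hx => ⟨η, hη, subset_closure rfl, specializes_iff_mem_closure.2 hx⟩

include k in
theorem isIntegral_closure (η : X) :
    IsIntegral (vI (closure ({η} : Set X)) isClosed_closure).subscheme := by
  let I := vI (closure ({η} : Set X)) isClosed_closure
  have hr : Set.range I.subschemeι = closure ({η} : Set X) := range_subschι _ isClosed_closure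
  obtain ⟨z, hz⟩ : η ∈ Set.range I.subschemeι := hr.symm ▸ subset_closure rfl
  haveI : IrreducibleSpace I.subscheme := by
    refine @IrreducibleSpace.mk _ _ ⟨fun U V hU hV hU' hV' => ?_⟩ ⟨z⟩
    have hz' : ∀ W : Set I.subscheme, IsOpen W → W.Nonempty → z ∈ W := fun W hW ⟨w, hw⟩ => by
      have hsp : z ⤳ w := by
        rw [← I.subschemeι.isClosedEmbedding.isInducing.specializes_iff, hz, specializes_iff_mem_closure]
        exact hr ▸ Set.mem_range_self w
      exact hsp.mem_open hW hw
    exact ⟨z, trivial, hz' U hU ⟨_, hU'.choose_spec.2⟩, hz' V hV ⟨_, hV'.choose_spec.2⟩⟩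
  exact isIntegral_of_irreducibleSpace_of_isReduced _

variable [IsNoetherian X] [AlgebraicGeometry.IsReduced X]

/-- Ample modules have positive degree on components. -/
theorem one_le_degOn_component (hdim : topologicalKrullDim X ≤ 1)
    (hgen : ∀ x ∈ genericPoints (X : Type u), ¬ IsClosed ({x} : Set X)) {L : X.Modules} (hL : CohB1.IsAmple L)
    {η : X} (hη : η ∈ genericPoints (X : Type u)) :
    1 ≤ degOn k L 1 (closure ({η} : Set X)) isClosed_closure := by
  let I := vI (closure ({η} : Set X)) isClosed_closure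
  haveI := isIntegral_closure (k := k) η
  letI : I.subscheme.Over (Spec (CommRingCat.of k)) := ⟨I.subschemeι ≫ (X ↘ (Spec (CommRingCat.of k)))⟩
  haveI : IsProper (I.subscheme ↘ Spec (CommRingCat.of k)) :=
    inferInstanceAs (IsProper (I.subschemeι ≫ (X ↘ (Spec (CommRingCat.of k)))))
  haveI : CompactSpace I.subscheme := QuasiCompact.compactSpace_of_compactSpace I.subschemeι
  have hd := dim_subscheme (k := k) hdim hgen isClosed_closure (isCompUnion_closure hη) ⟨η, subset_closure rfl⟩
  have hA := AmpleVan.FiniteSurj.isAmple_pullback_of_isAffineHom I.subschemeι hL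
  have := CurveAmple.deg_pos_of_ample (k := k) hd hA
  exact this

omit [AlgebraicGeometry.IsReduced X] in
theorem isClosed_components (T : Set X) :
    IsClosed (⋃ η ∈ genericPoints (X : Type u) ∩ T, closure ({η} : Set X)) :=
  (finite_genericPoints.inter_of_left T).isClosed_biUnion fun _ _ => isClosed_closure

omit [AlgebraicGeometry.IsNoetherian X] [AlgebraicGeometry.IsReduced X] in
theorem isSubcurve_or_empty {Y : Set X} (hY : IsClosed Y) (hc : IsCompUnion Y) :
    Y = ∅ ∨ VecSt.IsSubcurve X Y := by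
  rcases Set.eq_empty_or_nonempty Y with h | ⟨x, hx⟩
  · exact Or.inl h
  refine Or.inr ⟨{C | C ∈ irreducibleComponents (X : Type u) ∧ C ⊆ Y}, fun C hC => hC.1, ?_, ?_⟩
  · obtain ⟨η, hη, hηY, -⟩ := hc x hx
    exact ⟨closure {η}, hη, hY.closure_subset_iff.2 (Set.singleton_subset_iff.2 hηY)⟩
  · refine Set.Subset.antisymm (fun y hy => ?_) (Set.sUnion_subset fun C hC => hC.2)
    obtain ⟨η, hη, hηY, hsp⟩ := hc y hy
    exact ⟨closure {η}, ⟨hη, hY.closure_subset_iff.2 (Set.singleton_subset_iff.2 hηY)⟩,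
      specializes_iff_mem_closure.1 hsp⟩

/-- Ample degrees are at least the number of components. -/
theorem card_le_degOn (hdim : topologicalKrullDim X ≤ 1)
    (hgen : ∀ x ∈ genericPoints (X : Type u), ¬ IsClosed ({x} : Set X)) {L : X.Modules} (hL : CohB1.IsAmple L) :
    ∀ (n : ℕ) (Y : Set X) (hY : IsClosed Y), IsCompUnion Y → (genericPoints (X : Type u) ∩ Y).ncard = n →
      (n : ℤ) ≤ degOn k L 1 Y hY := by
  have hr := InvEnd.isFinLocFreeOfRank_one hL.1
  intro n
  induction n with
  | zero =>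
    intro Y hY hc hn
    have : Y = ∅ := Set.eq_empty_iff_forall_notMem.2 fun x hx => by
      obtain ⟨η, hη, hηY, -⟩ := hc x hx
      have := (Set.ncard_pos (finite_genericPoints.inter_of_left Y)).2 ⟨η, hη, hηY⟩
      omega
    subst this
    rw [degOn_empty k hr]
    simp
  | succ n ih =>
    intro Y hY hc hn
    obtain ⟨η, hη, hηY⟩ := (Set.ncard_pos (finite_genericPoints.inter_of_left Y)).1 (by omega)
    let T : Set X := Y \ {η}
    let R : Set X := ⋃ ξ ∈ genericPoints (X : Type u) ∩ T, closure ({ξ} : Set X)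
    have hR : IsClosed R := isClosed_components T
    have hcR : IsCompUnion R := fun x hx => by
      obtain ⟨ξ, hξ, hxξ⟩ := Set.mem_iUnion₂.1 hx
      exact ⟨ξ, hξ.1, Set.mem_iUnion₂.2 ⟨ξ, hξ, subset_closure rfl⟩, specializes_iff_mem_closure.2 hxξ⟩
    have hgR : ∀ ξ ∈ genericPoints (X : Type u), ξ ∈ R ↔ ξ ∈ Y ∧ ξ ≠ η := fun ξ hξ => by
      constructor
      · intro h
        obtain ⟨ξ', hξ', hh⟩ := Set.mem_iUnion₂.1 h
        rw [← NormAmpleX.eq_of_specializes_generic hξ (specializes_iff_mem_closure.2 hh)]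
        exact hξ'.2
      · exact fun h => Set.mem_iUnion₂.2 ⟨ξ, ⟨hξ, h⟩, subset_closure rfl⟩
    have hgE : ∀ ξ ∈ genericPoints (X : Type u), ξ ∈ closure ({η} : Set X) ↔ ξ = η := fun ξ hξ =>
      ⟨fun h => (NormAmpleX.eq_of_specializes_generic hξ (specializes_iff_mem_closure.2 h)).symm,
        fun h => subset_closure h⟩
    have hcard : (genericPoints (X : Type u) ∩ R).ncard = n := by
      rw [show genericPoints (X : Type u) ∩ R = (genericPoints (X : Type u) ∩ Y) \ {η} from Set.ext fun ξ =>
        ⟨fun h => ⟨⟨h.1, ((hgR ξ h.1).1 h.2).1⟩, ((hgR ξ h.1).1 h.2).2⟩,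
          fun h => ⟨h.1.1, (hgR ξ h.1.1).2 ⟨h.1.2, h.2⟩⟩⟩,
        Set.ncard_diff_singleton_of_mem (show η ∈ genericPoints (X : Type u) ∩ Y from ⟨hη, hηY⟩)]
      omega
    have e := degOn_mv k hdim hr (Y := closure ({η} : Set X)) (Z := R) (W := ∅) (U := Y) isClosed_closure hR
      isClosed_empty hY (isSubcurve_or_empty isClosed_closure (isCompUnion_closure hη)) (isSubcurve_or_empty hR hcR)
      (Or.inl rfl) (isSubcurve_or_empty hY hc)
      (fun ξ hξ => by
        rw [hgE ξ hξ, hgR ξ hξ]
        constructor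
        · intro h
          by_cases he : ξ = η
          · exact Or.inl he
          · exact Or.inr ⟨h, he⟩
        · rintro (rfl | h)
          · exact hηY
          · exact h.1)
      (fun ξ hξ => by
        rw [hgE ξ hξ, hgR ξ hξ]
        simp only [Set.mem_empty_iff_false, false_iff, not_and, not_not]
        exact fun h1 _ => h1)
    rw [degOn_empty k hr, add_zero] at e
    have h1 := one_le_degOn_component (k := k) hdim hgen hL hη
    have h2 := ih R hR hcR hcard
    push_cast
    omega

/-- Balancedness, in terms of subsets. -/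
def Balanced (k : Type u) [Field k] [X.Over (Spec (CommRingCat.of k))] [IsProper (X ↘ Spec (CommRingCat.of k))]
    (L ω : X.Modules) (G d : ℤ) : Prop :=
  ∀ (Y : Set X) (hY : IsClosed Y), IsCompUnion Y → _root_.IsConnected Y →
    |2 * G * degOn k L 1 Y hY - 2 * d * degOn k ω 1 Y hY| ≤ G * kY k Y hY

theorem balanced_of_statement (hdim : topologicalKrullDim X ≤ 1)
    (hgen : ∀ x ∈ genericPoints (X : Type u), ¬ IsClosed ({x} : Set X)) (L ω : X.Modules) (G d : ℤ)
    (hbal : ∀ J : X.IdealSheafData, AlgebraicGeometry.IsReduced J.subscheme → ConnectedSpace J.subscheme →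
      topologicalKrullDim J.subscheme = 1 →
      |2 * G * @Curv2.deg k _ J.subscheme ⟨J.subschemeι ≫ (X ↘ (Spec (CommRingCat.of k)))⟩ ((Scheme.Modules.pullback J.subschemeι).obj L) 1
          - 2 * d * @Curv2.deg k _ J.subscheme ⟨J.subschemeι ≫ (X ↘ (Spec (CommRingCat.of k)))⟩ ((Scheme.Modules.pullback J.subschemeι).obj ω) 1|
        ≤ G * (Module.finrank k (Coh.HH X (ClSub.quotMod (J ⊔ (Scheme.IdealSheafData.vanishingIdeal ⟨closure ((J.support : Set X)ᶜ), isClosed_closure⟩))) 0) : ℤ)) :
    Balanced k L ω G d := fun Y hY hc hconn => by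
  have h := hbal (vI Y hY) inferInstance (connectedSpace_subscheme hY hconn)
    (dim_subscheme (k := k) hdim hgen hY hc hconn.nonempty)
  rw [kY_eq] at h
  exact h

variable [IsAlgClosed k] [ConnectedSpace X]

/-- Connected subcurves: either everything, or `κ ≥ 1`. -/
theorem numeric (hdim : topologicalKrullDim X ≤ 1)
    (hgen : ∀ x ∈ genericPoints (X : Type u), ¬ IsClosed ({x} : Set X))
    {ω : X.Modules} {t : Coh.HH X ω 1 →ₗ[k] k} (hω : Canon.IsRDualOver k X 1 ω t) (hωi : PicF.IsInvertible ω)
    {L : X.Modules} (hL : PicF.IsInvertible L)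
    {Y : Set X} (hY : IsClosed Y) (hc : IsCompUnion Y) (hconn : _root_.IsConnected Y) :
    (Y = Set.univ ∧ degOn k L 1 Y hY = Curv2.deg k X L 1 ∧
        degOn k ω 1 Y hY = 2 * (Curv2.genus k X : ℤ) - 2 ∧ (genusY k Y hY : ℤ) = Curv2.genus k X) ∨
      (1 ≤ kY k Y hY ∧ degOn k ω 1 Y hY = 2 * (genusY k Y hY : ℤ) - 2 + kY k Y hY) := by
  by_cases hu : Y = Set.univ
  · subst hu
    refine Or.inl ⟨rfl, degOn_univ k hdim (InvEnd.isFinLocFreeOfRank_one hL), ?_, ?_⟩
    · rw [degOn_univ k hdim (InvEnd.isFinLocFreeOfRank_one hωi), deg_dualizing hdim hgen hω hωi,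
        euler_structure_eq hdim]
      ring
    · have h1 := chiY_eq (k := k) hdim hY hconn
      rw [show chiY k Set.univ hY = _ from chiY_univ, euler_structure_eq hdim] at h1
      omega
  · refine Or.inr ⟨one_le_kY (k := k) hdim hY hconn.nonempty hu, ?_⟩
    rw [degOn_dualizing hdim hgen hω hωi hY hc, chiY_eq hdim hY hconn]
    ring

end Groth.Agent.CurveGor
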