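import Groth.Agent.CurveGor.Marked
import Groth.Agent.GrpSchLib.SmoothRegular
import Groth.Agent.S7642
import Groth.Agent.DefAmple18.Main
import Groth.Agent.GGDesc7.Main
import Groth.Agent.Lib.CurveDeg

/-!
# Twists of the dualizing module by marked smooth points
-/

set_option autoImplicit false
set_option linter.style.haveILetI false
set_option linter.unusedSectionVars false
set_option backward.isDefEq.respectTransparency false
set_option backward.isDefEq.respectTransparency.types false
set_option maxHeartbeats 1000000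
set_option synthInstance.maxHeartbeats 200000

universe u

open CategoryTheory CategoryTheory.Limits AlgebraicGeometry TopologicalSpace Opposite

attribute [local instance] HasDerivedCategory.standard

noncomputable section

namespace Groth.Agent.CurveGor

open Groth.Agent TFOneX

variable {X : Scheme.{u}} {k : Type u} [Field k] [X.Over (Spec (CommRingCat.of k))]

theorem isDomain_of_smooth {p : X}
    (h : ∃ U : X.Opens, p ∈ U ∧ Smooth (U.ι ≫ (X ↘ Spec (CommRingCat.of k)))) : IsDomain (X.presheaf.stalk p) := by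
  obtain ⟨U, hpU, hs⟩ := h
  haveI := hs
  haveI := GrpSchLib.isRegularLocalRing_stalk_of_smooth (U.ι ≫ (X ↘ Spec (CommRingCat.of k))) ⟨p, hpU⟩
  haveI := RegLoc6.isDomain_of_isRegularLocalRing ((U : Scheme.{u}).presheaf.stalk ⟨p, hpU⟩)
  exact (U.stalkIso ⟨p, hpU⟩).commRingCatIsoToRingEquiv.symm.toMulEquiv.isDomain _

theorem ncard_preimage_eq {n : ℕ} {p : Fin n → X} (hp : Function.Injective p) (Y : Set X) :
    (p ⁻¹' Y).ncard = ((⋃ i, ({p i} : Set X)) ∩ Y).ncard := by
  rw [← Set.ncard_image_of_injective _ hp, Set.image_preimage_eq_inter_range, Set.iUnion_singleton_eq_range,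
    Set.inter_comm]

variable [IsProper (X ↘ Spec (CommRingCat.of k))] [IsNoetherian X] [AlgebraicGeometry.IsReduced X]

theorem degOn_congr {A B : X.Modules} (e : A ≅ B) (hA : PicF.IsInvertible A) {Y : Set X} (hY : IsClosed Y) :
    degOn k A 1 Y hY = degOn k B 1 Y hY := by
  have hB := H23.PicMul.isInvertible_of_iso e hA
  rw [degOn_eq k (InvEnd.isFinLocFreeOfRank_one hA) Y hY, degOn_eq k (InvEnd.isFinLocFreeOfRank_one hB) Y hY]
  show Curv2.euler k X ((DCoh.tensorBi.obj A).obj _) - _ = Curv2.euler k X ((DCoh.tensorBi.obj B).obj _) - _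
  rw [CurveCohLib.euler_congr (k := k) ((DCoh.tensorBi.mapIso e).app _)]

variable [IsAlgClosed k] [ConnectedSpace X]

/-- The numbers of the twisted dualizing module. -/
theorem degOn_twist (hdim : topologicalKrullDim X = 1) (hX : Curv2.AtWorstNodal k X)
    {D : Set X} (hD : IsClosed D) (hDf : D.Finite) (hDc : ∀ x ∈ D, IsClosed ({x} : Set X))
    (hDs : ∀ x ∈ D, ∃ U : X.Opens, x ∈ U ∧ Smooth (U.ι ≫ (X ↘ Spec (CommRingCat.of k))))
    {ω : X.Modules} {t : Coh.HH X ω 1 →ₗ[k] k} (hω : Canon.IsRDualOver k X 1 ω t) (hωi : PicF.IsInvertible ω)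
    {N : X.Modules} (hN : ClSub.IsInverseOf N (ClSub.idealMod (vI D hD)))
    {M : X.Modules} (eM : M ≅ CohB1.tensorMod ω N) :
    PicF.IsInvertible M ∧ ∀ (Y : Set X) (hY : IsClosed Y), IsCompUnion Y → _root_.IsConnected Y →
      ((Y = Set.univ ∧ degOn k M 1 Y hY = 2 * (Curv2.genus k X : ℤ) - 2 + ((D ∩ Y).ncard : ℤ) ∧
          (genusY k Y hY : ℤ) = Curv2.genus k X) ∨
        (Y ≠ Set.univ ∧ 1 ≤ (Y ∩ closure Yᶜ).ncard ∧
          degOn k M 1 Y hY = 2 * (genusY k Y hY : ℤ) - 2 + ((Y ∩ closure Yᶜ).ncard : ℤ) + ((D ∩ Y).ncard : ℤ))) := by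
  have hgen := notClosed_of_generic (k := k) hdim
  have hu : IsCompUnion (Set.univ : Set X) := fun x _ =>
    let ⟨η, hη, hsp⟩ := NormAmpleX.exists_generic_specializes x; ⟨η, hη, trivial, hsp⟩
  have hd := fun x hx => isDomain_of_smooth (k := k) (hDs x hx)
  have hNi := (degOn_points (k := k) hdim.le hgen hD hDf hDc hd hN isClosed_univ hu).1
  have hMi := H23.PicMul.isInvertible_of_iso eM.symm (InvX.isInvertible_tensorMod hωi hNi)
  refine ⟨hMi, fun Y hY hc hconn => ?_⟩
  have hM : degOn k M 1 Y hY = degOn k ω 1 Y hY + ((D ∩ Y).ncard : ℤ) := by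
    rw [degOn_congr eM hMi hY, degOn_tensor hdim.le hωi hNi hY,
      (degOn_points (k := k) hdim.le hgen hD hDf hDc hd hN hY hc).2]
  by_cases huY : Y = Set.univ
  · obtain ⟨-, -, h2, h3⟩ | ⟨h2, -⟩ := numeric hdim.le hgen hω hωi hωi hY hc hconn
    · exact Or.inl ⟨huY, by rw [hM, h2], h3⟩
    · exfalso
      subst huY
      rw [kY_eq_card hdim.le hX hY hc] at h2
      simp [Nat.card_eq_zero] at h2
  · obtain ⟨h, -⟩ | ⟨h1, h2⟩ := numeric hdim.le hgen hω hωi hωi hY hc hconn
    · exact absurd h huY
    · rw [kY_eq_card hdim.le hX hY hc, Nat.card_coe_set_eq] at h1 h2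
      exact Or.inr ⟨huY, by exact_mod_cast h1, by rw [hM, h2]⟩

end Groth.Agent.CurveGor

namespace Groth.Agent.CurveGor

open Groth.Agent TFOneX

variable {X : Scheme.{u}} {k : Type u} [Field k] [X.Over (Spec (CommRingCat.of k))]
  [IsProper (X ↘ Spec (CommRingCat.of k))]

/-- Genus zero subcurves. -/
theorem genusY_eq_zero_iff (Y : Set X) (hY : IsClosed Y) :
    genusY k Y hY = 0 ↔
      Subsingleton (Coh.HH (vI Y hY).subscheme (Coh.structureModule (vI Y hY).subscheme) 1) := by
  letI := overSub (k := k) (vI Y hY)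
  haveI : IsProper ((vI Y hY).subscheme ↘ Spec (CommRingCat.of k)) :=
    inferInstanceAs (IsProper ((vI Y hY).subschemeι ≫ (X ↘ Spec (CommRingCat.of k))))
  haveI : IsNoetherian (vI Y hY).subscheme := CurveCohLib.isNoetherian_of_proper (k := k) (X := (vI Y hY).subscheme)
  haveI := S0002.result k (vI Y hY).subscheme (Coh.structureModule _) QCoh.isCoh_structureModule' 1
  exact Module.finrank_zero_iff (R := k)

/-- Subcurves of a curve without `H¹(O)` have genus zero. -/
theorem genusY_eq_zero (hdim : topologicalKrullDim X ≤ 1)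
    (hg : Subsingleton (Coh.HH X (Coh.structureModule X) 1)) (Y : Set X) (hY : IsClosed Y) :
    genusY k Y hY = 0 := by
  haveI := CurveCohLib.isNoetherian_of_proper (k := k) (X := X)
  haveI := CurvePoint.epi_toSubscheme (vI Y hY)
  have hs := DefAmple18.subsingleton_H1_of_epi (k := k) hdim (ClSub.toSubscheme (vI Y hY))
    QCoh.isQCoh_structureModule (ParShLib.isCoh_quotMod _).1 hg
  letI := overSub (k := k) (vI Y hY)
  obtain ⟨l⟩ := PnCoh.exists_linearEquiv_push k (vI Y hY).subschemeι rfl
    (QCoh.isQCoh_structureModule (X := (vI Y hY).subscheme)) 1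
  exact (genusY_eq_zero_iff Y hY).2 (@Equiv.subsingleton _ _ l.toEquiv hs)

/-- Generated invertible modules have nonnegative degree on components. -/
theorem degOn_nonneg_of_gg (hdim : topologicalKrullDim X ≤ 1) [AlgebraicGeometry.IsReduced X]
    {M : X.Modules} (hM : PicF.IsInvertible M) (h : Curv2.IsGloballyGenerated M)
    {η : X} (hη : η ∈ genericPoints (X : Type u)) :
    0 ≤ degOn k M 1 (closure ({η} : Set X)) isClosed_closure := by
  haveI := CurveCohLib.isNoetherian_of_proper (k := k) (X := X)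
  let I := vI (closure ({η} : Set X)) isClosed_closure
  haveI := isIntegral_closure (k := k) η
  letI := overSub (k := k) I
  haveI : IsProper (I.subscheme ↘ Spec (CommRingCat.of k)) :=
    inferInstanceAs (IsProper (I.subschemeι ≫ (X ↘ Spec (CommRingCat.of k))))
  haveI : IsNoetherian I.subscheme := CurveCohLib.isNoetherian_of_proper (k := k) (X := I.subscheme)
  let L := (Scheme.Modules.pullback I.subschemeι).obj M
  have hL : PicF.IsInvertible L := PicClLib.isInvertible_pullback I.subschemeι hM
  have hgg := DefAmple18.gg_elim (GGDesc7.pullback_gg I.subschemeι h)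
  obtain ⟨s, hs⟩ : ∃ s : Coh.structureModule I.subscheme ⟶ L, s ≠ 0 := by
    by_contra hcon
    have hz : 𝟙 L = 0 := hgg L (𝟙 L) fun s => by
      rw [Category.comp_id]
      exact not_not.1 fun hs => hcon ⟨s, hs⟩
    let x : I.subscheme := genericPoint I.subscheme
    obtain ⟨e⟩ := H23.InvStalk.exists_stalk_equiv hL x
    haveI := ModuleCat.subsingleton_of_isZero
      (Functor.map_isZero (DerSch.stalkFunctor I.subscheme x) ((IsZero.iff_id_eq_zero L).2 hz))
    exact not_subsingleton (I.subscheme.presheaf.stalk x) e.symm.toEquiv.subsingleton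
  have hle : topologicalKrullDim I.subscheme ≤ 1 :=
    I.subschemeι.isClosedEmbedding.isInducing.topologicalKrullDim_le.trans hdim
  have h1 := (CurveDeg.deg_le_and_isIso k hle CurveDeg.isInvertible_structureModule hL s hs).1
  rw [CurveDeg.deg_structureModule] at h1
  exact h1

end Groth.Agent.CurveGor
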