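import Groth.Agent.CurveGor.Sum
import Groth.Agent.CurveGor.Num
import Groth.Agent.CurveGor.PointedTwist
import Groth.Agent.CurveBC.Main
import Groth.Agent.DimOneAmple.Exists
import Groth.Agent.AmpleVan.RelVanish
import Groth.Agent.S7642

/-!
# Powers of a nef dualizing module are generated by sections over any field
-/

set_option autoImplicit false
set_option linter.style.haveILetI false
set_option linter.unusedSectionVars false
set_option backward.isDefEq.respectTransparency false
set_option backward.isDefEq.respectTransparency.types false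
set_option maxHeartbeats 1000000
set_option synthInstance.maxHeartbeats 200000

universe u

open CategoryTheory CategoryTheory.Limits AlgebraicGeometry TopologicalSpace Opposite

noncomputable section

namespace Groth.Agent.CurveGor

open Groth.Agent TFOneX

variable {X : Scheme.{u}} {k : Type u} [Field k] [X.Over (Spec (CommRingCat.of k))]
  [IsProper (X ↘ Spec (CommRingCat.of k))] [IsNoetherian X] [AlgebraicGeometry.IsReduced X]

/-- A module, nonnegative on components, twisted by an ample one is ample. -/
theorem isAmple_tensor_of_nonneg (hdim : topologicalKrullDim X ≤ 1)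
    (hgen : ∀ x ∈ genericPoints (X : Type u), ¬ IsClosed ({x} : Set X))
    {L A : X.Modules} (hL : PicF.IsInvertible L) (hA : CohB1.IsAmple A)
    (h : ∀ η ∈ genericPoints (X : Type u), 0 ≤ degOn k L 1 (closure ({η} : Set X)) isClosed_closure) :
    CohB1.IsAmple (CohB1.tensorMod L A) := by
  refine (S7642.result k X hdim _ (InvX.isInvertible_tensorMod hL hA.1)).2 fun C hC _ => ?_
  have hC' := isClosed_of_mem_irreducibleComponents C hC
  have hJ : (X.irreducibleComponentIdeal C hC).radical = vI C hC' := by
    rw [← Scheme.IdealSheafData.vanishingIdeal_support]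
    congr 1
  rw [hJ]
  show 0 < degOn k (CohB1.tensorMod L A) 1 C hC'
  have e := hC.1.closure_genericPoint hC'
  have hη : hC.1.genericPoint ∈ genericPoints (X : Type u) := by
    show closure _ ∈ irreducibleComponents (X : Type u)
    rw [e]; exact hC
  have h1 := h _ hη
  have h2 := one_le_degOn_component (k := k) hdim hgen hA hη
  simp only [e] at h1 h2
  rw [degOn_tensor hdim hL hA.1 hC']
  omega

variable (K : Type u) [Field K] [Algebra k K] {X' : Scheme.{u}} [X'.Over (Spec (CommRingCat.of K))]
  [IsProper (X' ↘ Spec (CommRingCat.of K))] [IsNoetherian X'] [AlgebraicGeometry.IsReduced X']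
  (g : X' ⟶ X)

/-- Nonnegativity on components survives base change. -/
theorem degOn_pullback_nonneg [IsAffineHom g] (hdim : topologicalKrullDim X ≤ 1)
    (hgen : ∀ x ∈ genericPoints (X : Type u), ¬ IsClosed ({x} : Set X)) (hdim' : topologicalKrullDim X' ≤ 1)
    (hgen' : ∀ x ∈ genericPoints (X' : Type u), ¬ IsClosed ({x} : Set X')) {L : X.Modules} (hL : PicF.IsInvertible L)
    (h : ∀ η ∈ genericPoints (X : Type u), 0 ≤ degOn k L 1 (closure ({η} : Set X)) isClosed_closure)
    {η : X'} (hη : η ∈ genericPoints (X' : Type u)) :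
    0 ≤ degOn K ((Scheme.Modules.pullback g).obj L) 1 (closure ({η} : Set X')) isClosed_closure := by
  haveI : X.IsSeparated := ⟨by
    rw [← terminal.comp_from (X ↘ Spec (CommRingCat.of k))]; infer_instance⟩
  obtain ⟨A, hA⟩ := DimOneAmple.exists_isAmple (X := X) hdim
  let L' := (Scheme.Modules.pullback g).obj L
  let A' := (Scheme.Modules.pullback g).obj A
  have hL' : PicF.IsInvertible L' := PicClLib.isInvertible_pullback g hL
  have hA' : PicF.IsInvertible A' := PicClLib.isInvertible_pullback g hA.1
  have hn : ∀ n : ℕ, 1 ≤ n * degOn K L' 1 (closure ({η} : Set X')) isClosed_closure +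
      degOn K A' 1 (closure ({η} : Set X')) isClosed_closure := fun n => by
    have hLn := H23.PicMul.isInvertible_tensorPow hL n
    have hB := isAmple_tensor_of_nonneg (k := k) hdim hgen hLn hA fun ξ hξ => by
      rw [degOn_pow hdim hL isClosed_closure n]
      exact mul_nonneg (Int.natCast_nonneg _) (h ξ hξ)
    have hB' := AmpleVan.FiniteSurj.isAmple_pullback_of_isAffineHom g hB
    obtain ⟨e⟩ := H23.PicMul.pull g (CohB1.tensorPow L n) A
    obtain ⟨e₁⟩ := AmpleVan.RelVanish.pullback_tensorPow g L n
    obtain ⟨e₂⟩ := AmpleVan.RelVanish.tensor_congr e₁ (Iso.refl A')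
    have h1 := one_le_degOn_component (k := K) hdim' hgen' hB' hη
    rw [degOn_congr (e ≪≫ e₂) hB'.1 isClosed_closure, degOn_tensor hdim'
      (H23.PicMul.isInvertible_tensorPow hL' n) hA' isClosed_closure, degOn_pow hdim' hL' isClosed_closure n] at h1
    exact h1
  generalize degOn K L' 1 (closure ({η} : Set X')) isClosed_closure = d at hn ⊢
  generalize degOn K A' 1 (closure ({η} : Set X')) isClosed_closure = a at hn
  by_contra hd
  have := hn a.toNat
  have h0 := hn 0
  have : ((a.toNat : ℤ)) * d ≤ (a.toNat : ℤ) * (-1) := mul_le_mul_of_nonneg_left (by omega) (Int.natCast_nonneg _)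
  omega

omit [Algebra k K] in
/-- Powers of a nef dualizing module of a nodal curve are generated by sections. -/
theorem isGloballyGenerated_pow [IsAlgClosed K] [ConnectedSpace X'] (hdim : topologicalKrullDim X' = 1)
    (hX : Curv2.AtWorstNodal K X') (hg : 2 ≤ Curv2.genus K X')
    {ω : X'.Modules} {t : Coh.HH X' ω 1 →ₗ[K] K} (hω : Canon.IsRDualOver K X' 1 ω t) (hωi : PicF.IsInvertible ω)
    (hnn : ∀ η ∈ genericPoints (X' : Type u), 0 ≤ degOn K ω 1 (closure ({η} : Set X')) isClosed_closure)
    (m : ℕ) (hm : 2 ≤ m) : Curv2.IsGloballyGenerated (CohB1.tensorPow ω m) := by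
  have hgen := notClosed_of_generic (k := K) hdim
  refine isGloballyGenerated_of_deg hdim.le hgen hω hωi (H23.PicMul.isInvertible_tensorPow hωi m)
    fun Y hY hc hconn => ?_
  have hm' : (2 : ℤ) ≤ m := by exact_mod_cast hm
  rw [degOn_pow hdim.le hωi hY m, chiY_eq (k := K) hdim.le hY hconn]
  have hnonneg := degOn_nonneg (k := K) hdim.le hωi hnn Y hY hc
  have h2 : (2 : ℤ) * degOn K ω 1 Y hY ≤ (m : ℤ) * degOn K ω 1 Y hY :=
    mul_le_mul_of_nonneg_right hm' hnonneg
  rcases numeric hdim.le hgen hω hωi hωi hY hc hconn with ⟨-, -, h, h'⟩ | ⟨h1, h⟩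
  · have hg' : (2 : ℤ) ≤ (Curv2.genus K X' : ℤ) := by exact_mod_cast hg
    omega
  · omega

end Groth.Agent.CurveGor
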