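import Groth.Agent.CurveGor.Subcurve
import Groth.Agent.Lib.Euler

/-!
# Quotients on subcurves: twists, disjoint unions, intersection with the rest
-/

set_option autoImplicit false
set_option linter.style.haveILetI false
set_option linter.unusedSectionVars false
set_option backward.isDefEq.respectTransparency false
set_option backward.isDefEq.respectTransparency.types false
set_option maxHeartbeats 1000000
set_option synthInstance.maxHeartbeats 200000

universe u

open CategoryTheory CategoryTheory.Limits AlgebraicGeometry TopologicalSpace Opposite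

noncomputable section

namespace Groth.Agent.CurveGor

open Groth.Agent TFOneX

variable {X : Scheme.{u}} [IsNoetherian X] [AlgebraicGeometry.IsReduced X]
variable {k : Type u} [Field k] [X.Over (Spec (CommRingCat.of k))] [IsProper (X ↘ Spec (CommRingCat.of k))]

/-- Quotients on the same subset are isomorphic. -/
theorem exists_iso_quot {M G₁ G₂ : X.Modules} (hrk : TFOne.IsRkOne X M) {Z : Set X} {π₁ : M ⟶ G₁}
    {π₂ : M ⟶ G₂} (h₁ : TFOne.IsQuotOn X M Z G₁ π₁) (h₂ : TFOne.IsQuotOn X M Z G₂ π₂) : Nonempty (G₁ ≅ G₂) := by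
  obtain ⟨a, ha, -⟩ := exists_desc hrk h₁ h₂ fun _ _ h => h
  obtain ⟨b, hb, -⟩ := exists_desc hrk h₂ h₁ fun _ _ h => h
  haveI := h₁.1
  haveI := h₂.1
  exact ⟨⟨a, b, (cancel_epi π₁).1 (by rw [reassoc_of% ha, hb, Category.comp_id]),
    (cancel_epi π₂).1 (by rw [reassoc_of% hb, ha, Category.comp_id])⟩⟩

/-- The quotient of an invertible module on a subcurve. -/
theorem isQuotOn_twist {M : X.Modules} (hM : PicF.IsInvertible M) {Y : Set X} (hY : IsClosed Y)
    (hc : IsCompUnion Y) :
    TFOne.IsQuotOn X M Y ((SheafHomX.ten M).obj (ClSub.quotMod (vI Y hY)))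
      ((SheafHomX.tenUnitIso M).inv ≫ (SheafHomX.ten M).map (ClSub.toSubscheme (vI Y hY))) := by
  haveI := H23.Chern.isEquivalence_ten hM
  haveI : (SheafHomX.ten M).IsEquivalence :=
    Functor.isEquivalence_of_iso ((KFlatLib.tensorBiFlipIso X).app M).symm
  obtain ⟨hp, hcY, htY, hsY⟩ := isQuotOn_quot hY hc
  haveI := hp
  exact ⟨inferInstance, ParShLib.isCoh_tensorMod hcY (CurveDeg.isCoh_of_isInvertible hM),
    twist_torsionFree hM htY, (twist_support hM _).trans hsY⟩

/-- `χ(M|_Y) = deg_Y M + χ(O_Y)`. -/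
theorem euler_quot_invertible {M : X.Modules} (hM : PicF.IsInvertible M) {Y : Set X} (hY : IsClosed Y)
    (hc : IsCompUnion Y) {G : X.Modules} {π : M ⟶ G} (hG : TFOne.IsQuotOn X M Y G π) :
    Curv2.euler k X G = degOn k M 1 Y hY + chiY k Y hY := by
  obtain ⟨e⟩ := exists_iso_quot (isRkOne_of_isInvertible hM) hG (isQuotOn_twist hM hY hc)
  rw [CurveCohLib.euler_congr (k := k) e, degOn_eq k (InvEnd.isFinLocFreeOfRank_one hM) Y hY]
  have e' := CurveCohLib.euler_congr (k := k) (CurveTensor.commIso M (ClSub.quotMod (vI Y hY)))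
  show _ = (Curv2.euler k X ((DCoh.tensorBi.obj M).obj (ClSub.quotMod (vI Y hY))) -
    ((1 : ℕ) : ℤ) * Curv2.euler k X (ClSub.quotMod (vI Y hY))) + Curv2.euler k X (ClSub.quotMod (vI Y hY))
  rw [Nat.cast_one, one_mul, sub_add_cancel]
  exact e'.symm

omit [AlgebraicGeometry.IsNoetherian X] [AlgebraicGeometry.IsReduced X] in
/-- A map surjective on all stalks is an epimorphism. -/
theorem epi_of_sm {F G : X.Modules} (f : F ⟶ G) (h : ∀ x, Function.Surjective (sm f x)) : Epi f :=
  ⟨fun {T} a b hab => by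
    rw [← sub_eq_zero]
    have h0 : f ≫ (a - b) = 0 := by rw [Preadditive.comp_sub, hab, sub_self]
    refine Scheme.Modules.hom_ext _ _ fun U => ?_
    ext s
    refine TopCat.Presheaf.section_ext (show TopCat.Sheaf AddCommGrpCat.{u} X.toPresheafedSpace.carrier
      from ⟨T.presheaf, T.isSheaf⟩) U _ _ fun x hx => ?_
    show T.presheaf.germ U x hx ((a - b).app U s) = T.presheaf.germ U x hx 0
    rw [map_zero, ← DerSch.stalkFunctor_map_germ x (a - b) U hx s]
    obtain ⟨u, hu⟩ := h x (G.presheaf.germ U x hx s)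
    show sm (a - b) x (G.presheaf.germ U x hx s) = 0
    rw [← hu, ← sm_comp, h0, sm_zero]⟩

omit [AlgebraicGeometry.IsNoetherian X] [AlgebraicGeometry.IsReduced X] in
/-- Two surjections into modules with complementary supports give a surjection into the sum. -/
theorem surjective_sm_lift {GU GA GB : X.Modules} (gA : GU ⟶ GA) (gB : GU ⟶ GB) [Epi gA] [Epi gB] (x : X)
    (h : x ∉ CohB1.support GA ∨ x ∉ CohB1.support GB) : Function.Surjective (sm (biprod.lift gA gB) x) := by
  intro e
  have hd : ∀ v, v = sm (biprod.inl : GA ⟶ GA ⊞ GB) x (sm (biprod.fst : GA ⊞ GB ⟶ GA) x v) +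
      sm (biprod.inr : GB ⟶ GA ⊞ GB) x (sm (biprod.snd : GA ⊞ GB ⟶ GB) x v) := fun v => by
    rw [← sm_comp, ← sm_comp, ← sm_add, biprod.total, sm_id]
  have hdec : ∀ u, sm gA x u = sm (biprod.fst : GA ⊞ GB ⟶ GA) x e →
      sm gB x u = sm (biprod.snd : GA ⊞ GB ⟶ GB) x e → sm (biprod.lift gA gB) x u = e := by
    intro u h₁ h₂
    rw [hd (sm (biprod.lift gA gB) x u), ← sm_comp (biprod.lift gA gB) biprod.fst,
      ← sm_comp (biprod.lift gA gB) biprod.snd, biprod.lift_fst, biprod.lift_snd, h₁, h₂, ← hd e]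
  rcases h with hA | hB
  · obtain ⟨u, hu⟩ := surjective_sm gB x (sm biprod.snd x e)
    exact ⟨u, hdec u ((eq_zero_of_notMem hA _).trans (eq_zero_of_notMem hA _).symm) hu⟩
  · obtain ⟨u, hu⟩ := surjective_sm gA x (sm biprod.fst x e)
    exact ⟨u, hdec u hu ((eq_zero_of_notMem hB _).trans (eq_zero_of_notMem hB _).symm)⟩

/-- The quotient on a disjoint union is the sum of the quotients. -/
theorem euler_quot_union {M GU GA GB : X.Modules} (hrk : TFOne.IsRkOne X M) {A B : Set X}
    (hA : IsClosed A) (hB : IsClosed B) (hAB : Disjoint A B) {πU : M ⟶ GU} {πA : M ⟶ GA} {πB : M ⟶ GB}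
    (hU : TFOne.IsQuotOn X M (A ∪ B) GU πU) (hGA : TFOne.IsQuotOn X M A GA πA)
    (hGB : TFOne.IsQuotOn X M B GB πB) :
    Curv2.euler k X GU = Curv2.euler k X GA + Curv2.euler k X GB := by
  obtain ⟨gA, hgA, hgAe⟩ := exists_desc hrk hU hGA fun _ _ h => Or.inl h
  obtain ⟨gB, hgB, hgBe⟩ := exists_desc hrk hU hGB fun _ _ h => Or.inr h
  obtain ⟨hpU, hcU, htU, hsU⟩ := hU
  obtain ⟨hpA, hcA, -, hsA⟩ := hGA
  obtain ⟨hpB, hcB, -, hsB⟩ := hGB
  haveI := hpU; haveI := hpA; haveI := hpB
  haveI := hgAe; haveI := hgBe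
  let f : GU ⟶ GA ⊞ GB := biprod.lift gA gB
  have hfy : f ≫ biprod.fst = gA := biprod.lift_fst _ _
  have hfz : f ≫ biprod.snd = gB := biprod.lift_snd _ _
  haveI : Mono f := Preadditive.mono_of_cancel_zero _ fun {T} g hg => by
    have hgy : g ≫ gA = 0 := by rw [← hfy, ← Category.assoc, hg, zero_comp]
    have hgz : g ≫ gB = 0 := by rw [← hfz, ← Category.assoc, hg, zero_comp]
    refine hom_eq_zero hcU.1 htU g fun η hη hs a => ?_
    rcases (hsU ▸ hs : η ∈ A ∪ B) with h | h
    · refine (bijective_desc hrk hgA hη hs (hsA.symm ▸ h)).1 ?_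
      rw [← sm_comp, hgy, sm_zero, map_zero]
    · refine (bijective_desc hrk hgB hη hs (hsB.symm ▸ h)).1 ?_
      rw [← sm_comp, hgz, sm_zero, map_zero]
  haveI : Epi f := epi_of_sm f fun x => surjective_sm_lift gA gB x <| by
    by_cases hxB : x ∈ B
    · exact Or.inl (hsA.symm ▸ fun h => hAB.ne_of_mem h hxB rfl)
    · exact Or.inr (hsB.symm ▸ hxB)
  haveI : IsIso f := isIso_of_mono_of_epi f
  have hS := (ShortComplex.Splitting.ofHasBinaryBiproduct GA GB).shortExact
  have hc2 : Coh.IsCoh (GA ⊞ GB) := KZ.isCoh_biprod hcA hcB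
  have e := CurveCohLib.euler_additive (k := k) hS hcA hc2 hcB
  dsimp only at e
  rw [CurveCohLib.euler_congr (k := k) (asIso f), e]

omit [AlgebraicGeometry.IsReduced X] [AlgebraicGeometry.IsNoetherian X] in
theorem isCompUnion_left {A B : Set X} (hA : IsClosed A) (hB : IsClosed B) (hAB : Disjoint A B)
    (hc : IsCompUnion (A ∪ B)) : IsCompUnion A := fun x hx => by
  obtain ⟨η, hη, hηU, hsp⟩ := hc x (Or.inl hx)
  rcases hηU with h | h
  · exact ⟨η, hη, h, hsp⟩
  · exact absurd rfl (hAB.ne_of_mem hx (hsp.mem_closed hB h))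

/-- The intersection with the rest is nonempty for proper subcurves of a connected curve. -/
theorem one_le_kY [ConnectedSpace X] (hdim : topologicalKrullDim X ≤ 1) {Y : Set X} (hY : IsClosed Y)
    (hne : Y.Nonempty) (hu : Y ≠ Set.univ) : 1 ≤ kY k Y hY := by
  obtain ⟨hk, hs⟩ := euler_meet (k := k) hdim hY
  let Q := ClSub.quotMod (vI Y hY ⊔ cI Y)
  have hQ : Coh.IsCoh Q := ParShLib.isCoh_quotMod _
  obtain ⟨x, hxY, hxC⟩ : (Y ∩ closure Yᶜ).Nonempty := by
    by_contra hcon
    rw [Set.not_nonempty_iff_eq_empty] at hcon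
    have hclopen : IsClopen Y := ⟨hY, by
      have he : Y = (closure Yᶜ)ᶜ := Set.ext fun y =>
        ⟨fun hy hy' => Set.eq_empty_iff_forall_notMem.1 hcon y ⟨hy, hy'⟩,
          fun hy => by_contra fun h => hy (subset_closure h)⟩
      rw [he]
      exact isClosed_closure.isOpen_compl⟩
    exact hu (hclopen.eq_univ hne)
  by_contra hlt
  have h0 : Module.finrank k (Coh.HH X Q 0) = 0 := by
    simp only [kY] at hlt
    change ¬ (1 : ℤ) ≤ ((Module.finrank k (Coh.HH X Q 0) : ℕ) : ℤ) at hlt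
    omega
  haveI := S0002.result k X Q hQ 0
  haveI : Subsingleton (Coh.HH X Q 0) := (Module.finrank_zero_iff (R := k)).1 h0
  have hz : IsZero Q := by
    rw [IsZero.iff_id_eq_zero]
    refine (Euler.good_of_support hQ fun y hy => (hs y hy).closure_eq).2 Q (𝟙 Q) fun s => ?_
    rw [Category.comp_id]
    exact (CurveDual.homH0 (k := k) Q).injective (Subsingleton.elim _ _)
  let I : X.IdealSheafData := vI Y hY ⊔ cI Y
  have hxI : x ∈ (I.support : Set X) := by
    show x ∈ ((vI Y hY ⊔ cI Y).support : Set X)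
    rw [Scheme.IdealSheafData.support_sup, Closeds.coe_inf, Scheme.IdealSheafData.coe_support_vanishingIdeal,
      Scheme.IdealSheafData.coe_support_vanishingIdeal]
    exact ⟨hxY, hxC⟩
  obtain ⟨z, hz'⟩ : x ∈ Set.range I.subschemeι := by
    rw [Scheme.IdealSheafData.range_subschemeι]; exact hxI
  have hzs : z ∈ CohB1.support (Coh.structureModule I.subscheme) := fun hsub => by
    obtain ⟨e⟩ := exists_stalk_structure (X := I.subscheme) z
    exact not_subsingleton (I.subscheme.presheaf.stalk z) (e.symm.toEquiv.subsingleton)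
  have := mem_support_push I.subschemeι hzs
  exact this (ModuleCat.subsingleton_of_isZero (Functor.map_isZero (DerSch.stalkFunctor X (I.subschemeι z)) hz))

end Groth.Agent.CurveGor
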