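import Groth.Agent.CurveGor.SubNodalAlg
import Groth.Agent.CurveGor.Branches
import Groth.Agent.NodeFam.Structure
import Groth.Agent.CurveGor.MeetNode
import Groth.Agent.TFOneX.Basic

/-!
# Reduced one-dimensional closed subschemes of nodal curves are nodal
-/

set_option autoImplicit false
set_option linter.style.haveILetI false
set_option linter.unusedSectionVars false
set_option backward.isDefEq.respectTransparency false
set_option backward.isDefEq.respectTransparency.types false
set_option maxHeartbeats 1000000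
set_option synthInstance.maxHeartbeats 200000

universe u

open CategoryTheory CategoryTheory.Limits AlgebraicGeometry IsLocalRing

noncomputable section

namespace Groth.Agent.CurveGor.SubNodal

open Groth.Agent Groth.Agent.NodeFam

/-- Over an algebraically closed field: closed subschemes of positive depth. -/
theorem atWorstNodal_of_depth {K : Type u} [Field K] [IsAlgClosed K] {X Y : Scheme.{u}}
    (f : X ⟶ Spec (CommRingCat.of K)) [LocallyOfFiniteType f] (ι : Y ⟶ X) [IsClosedImmersion ι]
    (g : Y ⟶ Spec (CommRingCat.of K)) (w : ι ≫ f = g)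
    (h : NodalCurve f) (hcomp : ∀ Z ∈ irreducibleComponents (Y : Type u), topologicalKrullDim Z = 1)
    (hd : ∀ y : Y, IsClosed ({y} : Set Y) →
      ∃ t ∈ maximalIdeal (Y.presheaf.stalk y), ∀ b, t * b = 0 → b = 0) : NodalCurve g := by
  subst w
  haveI := LocallyOfFiniteType.isLocallyNoetherian f
  haveI := LocallyOfFiniteType.isLocallyNoetherian (ι ≫ f)
  haveI := lfp_of_lft f
  haveI := lfp_of_lft (ι ≫ f)
  haveI : PerfectField K := IsAlgClosed.perfectField K
  refine ⟨hcomp, fun y hy => ?_⟩
  have hx : IsClosed ({ι y} : Set X) := by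
    rw [← Set.image_singleton]
    exact ι.isClosedEmbedding.isClosedMap _ hy
  let A := X.presheaf.stalk (ι y)
  let φ : A →+* Y.presheaf.stalk y := (ι.stalkMap y).hom
  have hφ : Function.Surjective φ := ι.stalkMap_surjective y
  obtain ⟨t, htm, ht⟩ := hd y hy
  have hsm : IsRegularLocalRing (Y.presheaf.stalk y) → y ∈ (ι ≫ f).smoothLocus := fun hr =>
    (SmoothReg.mem_smoothLocus_iff_isRegularLocalRing (ι ≫ f) y).2 hr
  have hdimA : ringKrullDim A ≤ 1 := by
    obtain ⟨b, hb, ⟨η, -, hηd⟩, -⟩ := VarDim.exists_deg_add_stalk f (ι y)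
    have := h.deg_le_one η
    rw [hb]
    exact_mod_cast (show b ≤ 1 by omega)
  have hchain : ∀ P Q : Ideal A, P.IsPrime → Q.IsPrime → Q ≠ maximalIdeal A → P ≤ Q → P = Q := by
    intro P Q hP hQ hQm hPQ
    by_contra hne
    let c : LTSeries (PrimeSpectrum A) :=
      ⟨2, ![⟨P, hP⟩, ⟨Q, hQ⟩, ⟨maximalIdeal A, inferInstance⟩], fun i => by
        fin_cases i
        exacts [lt_of_le_of_ne hPQ hne, lt_of_le_of_ne (le_maximalIdeal hQ.ne_top) hQm]⟩
    have := (Order.LTSeries.length_le_krullDim c).trans hdimA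
    exact absurd this (by norm_num [c])
  rcases h.2 (ι y) hx with hs | hn
  · left
    refine (exists_smooth_nhd_iff (ι ≫ f) y).2 (hsm ?_)
    haveI : IsRegularLocalRing A :=
      (SmoothReg.mem_smoothLocus_iff_isRegularLocalRing f (ι y)).1 ((exists_smooth_nhd_iff f (ι y)).1 hs)
    haveI := RegLoc6.isDomain_of_isRegularLocalRing A
    obtain ⟨x, hx1⟩ : ∃ x : A, Ideal.span {x} = maximalIdeal A := by
      have h1 : (maximalIdeal A).spanFinrank ≤ 1 := by
        have h2 := (isRegularLocalRing_iff A).1 ‹_›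
        rw [← h2] at hdimA
        exact_mod_cast hdimA
      obtain ⟨s, hs, hsp⟩ := (IsNoetherian.noetherian (maximalIdeal A)).exists_span_finset_card_eq_spanFinrank
      rcases Nat.le_one_iff_eq_zero_or_eq_one.1 (hs.le.trans h1) with hc | hc
      · refine ⟨0, ?_⟩
        rw [Finset.card_eq_zero.1 hc, Finset.coe_empty, Submodule.span_empty] at hsp
        rw [← hsp, Ideal.span_singleton_eq_bot]
      · obtain ⟨a, rfl⟩ := Finset.card_eq_one.1 hc
        exact ⟨a, by rw [← hsp, Finset.coe_singleton]⟩
    rcases bijective_or_regular hchain (x := x) (y := x) (by rw [Set.pair_eq_singleton, hx1])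
      (fun I J hI hJ h1 h2 => by
        exfalso
        by_cases hJ0 : J = ⊥
        · rw [hJ0, Submodule.annihilator_bot] at h1
          exact (maximalIdeal.isMaximal A).ne_top (top_le_iff.1 (h1 ▸ hI))
        · refine hJ0 ?_
          obtain ⟨j, hj, hj0⟩ := Submodule.exists_mem_ne_zero_of_ne_bot hJ0
          have hI0 : I = ⊥ := eq_bot_iff.2 fun i hi => by
            have := Submodule.mem_annihilator.1 (h1.symm ▸ hi) j hj
            rw [smul_eq_mul, mul_eq_zero] at this
            exact Submodule.mem_bot _ |>.2 (this.resolve_right hj0)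
          rw [hI0, Submodule.annihilator_bot] at h2
          exact absurd (top_le_iff.1 (h2 ▸ hJ)) (maximalIdeal.isMaximal A).ne_top)
      φ hφ htm ht with hb | hr
    · exact IsRegularLocalRing.of_ringEquiv (RingEquiv.ofBijective φ hb)
    · exact hr
  · letI : X.Over (Spec (CommRingCat.of K)) := ⟨f⟩
    haveI : LocallyOfFiniteType (X ↘ Spec (CommRingCat.of K)) := ‹LocallyOfFiniteType f›
    haveI : IsAlgClosure K K := ⟨inferInstance, inferInstance⟩
    obtain ⟨-, z₀, hz₀, hodp₀⟩ := (isNode_iff_nodeVia K (ι y)).1 hn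
    haveI : IsIso (extMap K K) := inferInstanceAs (IsIso (Spec.map (𝟙 (CommRingCat.of K))))
    have hodp : ODPAt K f (ι y) := by
      rw [← hz₀]
      exact (odpAt_iff_of_stalk_iso (pullback.fst f (extMap K K)) f (pullback.snd f (extMap K K)) (RingEquiv.refl K)
        pullback.condition z₀ (ConcreteCategory.bijective_of_isIso ((pullback.fst f (extMap K K)).stalkMap z₀))).2 hodp₀
    letI := @Curv2.stalkAlgebra K _ X ⟨f⟩ (ι y)
    haveI : _root_.IsReduced A := isReduced_of_odp hodp
    obtain ⟨-, x, z, hxz, -⟩ := nodeCrit_of_isOrdDoublePt hodp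
    have hspan : Ideal.span {x, z} = maximalIdeal A := by
      have hle : Ideal.span {x, z} ≤ maximalIdeal A := hxz ▸ le_sup_left
      refine le_antisymm hle (Submodule.le_of_le_smul_of_le_jacobson_bot (IsNoetherian.noetherian _)
        (maximalIdeal_le_jacobson _) ?_)
      rw [smul_eq_mul, ← pow_two]
      exact hxz.ge
    rcases bijective_or_regular hchain hspan (fun I J hI hJ h1 h2 => sup_eq_maximalIdeal_of_odp hodp hI hJ h1 h2)
      φ hφ htm ht with hb | hr
    · right
      haveI : IsAlgClosure K K := ⟨inferInstance, inferInstance⟩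
      have hY : ODPAt K (ι ≫ f) y :=
        (odpAt_iff_of_stalk_iso ι f (ι ≫ f) (RingEquiv.refl K) (by
          rw [show (RingEquiv.refl K).toRingHom = RingHom.id K from rfl, CommRingCat.ofHom_id, Spec.map_id,
            Category.comp_id]) y hb).1 hodp
      letI : Y.Over (Spec (CommRingCat.of K)) := ⟨ι ≫ f⟩
      haveI : LocallyOfFiniteType (Y ↘ Spec (CommRingCat.of K)) := inferInstanceAs (LocallyOfFiniteType (ι ≫ f))
      refine (isNode_iff_nodeVia K y).2 ⟨hy, ?_⟩
      let π := pullback.fst (ι ≫ f) (extMap K K)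
      obtain ⟨z', hz'⟩ := (Scheme.Hom.homeomorph π).surjective y
      refine ⟨z', hz', ?_⟩
      refine (odpAt_iff_of_stalk_iso π (ι ≫ f) (pullback.snd (ι ≫ f) (extMap K K)) (RingEquiv.refl K)
        pullback.condition z' (ConcreteCategory.bijective_of_isIso (π.stalkMap z'))).1 ?_
      rw [show π z' = y from hz']
      exact hY
    · exact Or.inl ((exists_smooth_nhd_iff (ι ≫ f) y).2 (hsm hr))

/-- A reduced one-dimensional closed subscheme of a nodal curve over a field is nodal. -/
theorem nodalCurve_of_reduced {k : Type u} [Field k] {X Y : Scheme.{u}} (f : X ⟶ Spec (CommRingCat.of k))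
    [LocallyOfFiniteType f] (ι : Y ⟶ X) [IsClosedImmersion ι] [AlgebraicGeometry.IsReduced Y] (h : NodalCurve f)
    (hcomp : ∀ Z ∈ irreducibleComponents (Y : Type u), topologicalKrullDim Z = 1) : NodalCurve (ι ≫ f) := by
  let K := AlgebraicClosure k
  haveI := lfp_of_lft f
  haveI := lfp_of_lft (ι ≫ f)
  haveI := LocallyOfFiniteType.isLocallyNoetherian (ι ≫ f)
  let e := extMap k K
  let fK := pullback.snd f e
  let gK := pullback.snd (ι ≫ f) e
  let ιK : pullback (ι ≫ f) e ⟶ pullback f e :=
    pullback.lift (pullback.fst _ _ ≫ ι) (pullback.snd _ _) (by rw [Category.assoc, pullback.condition])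
  have hsq : IsPullback (pullback.fst (ι ≫ f) e) ιK ι (pullback.fst f e) :=
    IsPullback.of_bot
      (by rw [pullback.lift_snd]; exact IsPullback.of_hasPullback (ι ≫ f) e)
      (pullback.lift_fst _ _ _).symm (IsPullback.of_hasPullback f e)
  haveI : IsClosedImmersion ιK := MorphismProperty.of_isPullback hsq ‹IsClosedImmersion ι›
  refine NodalCurve.of_bc K (atWorstNodal_of_depth fK ιK gK (pullback.lift_snd _ _ _) (h.bc K)
    ((comps_bc_iff (ι ≫ f) K).2 hcomp) fun y hy => ?_)
  let π := pullback.fst (ι ≫ f) e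
  haveI := isIntegralHom_fst (k := k) K (ι ≫ f)
  have hy₀ : IsClosed ({π y} : Set Y) := by
    rw [← Set.image_singleton]
    exact π.isClosedMap _ hy
  have hm : maximalIdeal (Y.presheaf.stalk (π y)) ≠ ⊥ := fun h0 => by
    have hF : IsField (Y.presheaf.stalk (π y)) := IsLocalRing.isField_iff_maximalIdeal_eq.2 h0
    obtain ⟨η, hη, hs⟩ := NormAmpleX.exists_generic_specializes (π y)
    have he := TFCurvLib.eq_of_specializes_of_isField hF hs
    have h1 := hcomp _ hη
    rw [he, hy₀.closure_eq] at h1
    have h2 : topologicalKrullDim ({π y} : Set Y) ≤ 0 := topologicalKrullDim_zero_of_discreteTopology _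
    rw [h1] at h2
    exact absurd h2 (by norm_num)
  haveI : Flat e := flat_extMap K
  obtain ⟨t, htm, ht⟩ := exists_regular_mem hm
  refine ⟨(π.stalkMap y).hom t, fun hu => htm (IsLocalHom.map_nonunit t hu), fun b hb => ?_⟩
  letI := (π.stalkMap y).hom.toAlgebra
  haveI : Module.Flat (Y.presheaf.stalk (π y)) ((pullback (ι ≫ f) e).presheaf.stalk y) := Flat.stalkMap π y
  have hreg : IsSMulRegular ((pullback (ι ≫ f) e).presheaf.stalk y)
      (algebraMap (Y.presheaf.stalk (π y)) ((pullback (ι ≫ f) e).presheaf.stalk y) t) :=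
    IsSMulRegular.of_flat (IsLeftRegular.isSMulRegular (isLeftRegular_iff_right_eq_zero_of_mul.2 fun b hb => ht b hb))
  exact hreg (show (π.stalkMap y).hom t • b = (π.stalkMap y).hom t • 0 by
    rw [smul_zero, smul_eq_mul]; exact hb)

end Groth.Agent.CurveGor.SubNodal
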