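import Groth.Agent.CurveGor.Dual
import Groth.Agent.CurveDual.Props
import Groth.Agent.TFOneX.Deg
import Groth.Agent.S19606
import Groth.Agent.Lib.DivisorExt
import Groth.Agent.ParShLib.ResStalk
import Groth.Agent.Lib.IntCoeff
import Groth.Agent.NormalLib.Finite
import Groth.Agent.SheafHomX.Basic

/-!
# Adjunction for subcurves of a reduced curve with invertible dualizing module
-/

set_option autoImplicit false
set_option linter.style.haveILetI false
set_option linter.unusedSectionVars false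
set_option backward.isDefEq.respectTransparency false
set_option backward.isDefEq.respectTransparency.types false
set_option maxHeartbeats 1000000
set_option synthInstance.maxHeartbeats 200000

universe u

open CategoryTheory CategoryTheory.Limits AlgebraicGeometry TopologicalSpace Opposite

noncomputable section

namespace Groth.Agent.CurveGor

open Groth.Agent TFOneX

variable {X : Scheme.{u}}

/-- The reduced ideal of a closed subset. -/
abbrev vI (Y : Set X) (hY : IsClosed Y) : X.IdealSheafData := Scheme.IdealSheafData.vanishingIdeal ⟨Y, hY⟩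

/-- The closure of the complement, reduced. -/
abbrev cI (Y : Set X) : X.IdealSheafData := vI (closure Yᶜ) isClosed_closure

/-- Subsets in which every point is the specialization of a generic point of `X` inside. -/
def IsCompUnion (Y : Set X) : Prop := ∀ x ∈ Y, ∃ η ∈ genericPoints (X : Type u), η ∈ Y ∧ η ⤳ x

section Topology

variable [IsNoetherian X]

theorem closure_compl_subset (Y : Set X) (hY : IsClosed Y) {x : X} (hx : x ∈ closure Yᶜ) :
    ∃ η ∈ genericPoints (X : Type u), η ∉ Y ∧ η ⤳ x := by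
  let T : Set X := {η | η ∈ genericPoints (X : Type u) ∧ η ∉ Y}
  have hfin : T.Finite := by
    refine Set.Finite.of_finite_image
      ((TopologicalSpace.NoetherianSpace.finite_irreducibleComponents (α := X)).subset ?_)
      (f := fun η => closure ({η} : Set X)) ?_
    · rintro _ ⟨η, hη, rfl⟩; exact hη.1
    · exact fun a _ b _ h => (inseparable_iff_closure_eq.2 h).eq
  have hcl : IsClosed (⋃ η ∈ T, closure ({η} : Set X)) := hfin.isClosed_biUnion fun _ _ => isClosed_closure
  have hsub : Yᶜ ⊆ ⋃ η ∈ T, closure ({η} : Set X) := fun y hy => by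
    obtain ⟨η, hη, hηy⟩ := NormAmpleX.exists_generic_specializes y
    exact Set.mem_iUnion₂.2 ⟨η, ⟨hη, fun h => hy (hηy.mem_closed hY h)⟩, specializes_iff_mem_closure.1 hηy⟩
  obtain ⟨η, hη, hxη⟩ := Set.mem_iUnion₂.1 (closure_minimal hsub hcl hx)
  exact ⟨η, hη.1, hη.2, specializes_iff_mem_closure.2 hxη⟩

theorem mem_compl_iff {Y : Set X} (hY : IsClosed Y) {η : X} (hη : η ∈ genericPoints (X : Type u)) :
    η ∈ closure Yᶜ ↔ η ∉ Y := by
  refine ⟨fun h => ?_, fun h => subset_closure h⟩
  obtain ⟨η', -, hη'Y, hsp⟩ := closure_compl_subset Y hY h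
  rwa [← NormAmpleX.eq_of_specializes_generic hη hsp]

theorem isCompUnion_compl {Y : Set X} (hY : IsClosed Y) : IsCompUnion (closure Yᶜ) := fun x hx => by
  obtain ⟨η, hη, hηY, hsp⟩ := closure_compl_subset Y hY hx
  exact ⟨η, hη, (mem_compl_iff hY hη).2 hηY, hsp⟩

/-- The two halves meet in closed points. -/
theorem isClosed_singleton_of_meet (h1 : topologicalKrullDim X ≤ 1) {Y : Set X} (hY : IsClosed Y) {x : X}
    (hx : x ∈ Y ∩ closure Yᶜ) : IsClosed ({x} : Set X) :=
  TFOneX.isClosed_singleton_of_notMem h1 fun hg => (mem_compl_iff hY hg).1 hx.2 hx.1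

end Topology

variable [IsNoetherian X] [AlgebraicGeometry.IsReduced X]

theorem inf_eq_bot {Y : Set X} (hY : IsClosed Y) : vI Y hY ⊓ cI Y = ⊥ := by
  rw [← Scheme.IdealSheafData.vanishingIdeal_sup]
  have h : ((⟨Y, hY⟩ : Closeds X) ⊔ ⟨closure Yᶜ, isClosed_closure⟩) = ⊤ := Closeds.ext (Set.eq_univ_of_forall fun x => by
    by_cases h : x ∈ Y
    · exact Or.inl h
    · exact Or.inr (subset_closure h))
  rw [h, Scheme.IdealSheafData.vanishingIdeal_top, Scheme.nilradical_eq_bot]

/-- `O/I → O/J` for `I ≤ J`. -/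
theorem exists_quot {I J : X.IdealSheafData} (h : I ≤ J) :
    ∃ q : ClSub.quotMod I ⟶ ClSub.quotMod J, ClSub.toSubscheme I ≫ q = ClSub.toSubscheme J := by
  haveI := TFOneX.epi_unitToPush I.subschemeι
  have hk : kernel.ι (ClSub.toSubscheme I) ≫ ClSub.toSubscheme J = 0 :=
    QCoh.hom_eq_zero_of_affine _ fun U hU t => by
      let r : Γ(X, U) := (kernel.ι (ClSub.toSubscheme I)).app U t
      have h1 : I.subschemeι.app U r = 0 := congr(($(kernel.condition (ClSub.toSubscheme I))).app U t)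
      rw [← RingHom.mem_ker, I.ker_subschemeι_app ⟨U, hU⟩] at h1
      have h2 := Scheme.IdealSheafData.le_def.1 h ⟨U, hU⟩ h1
      rw [← J.ker_subschemeι_app ⟨U, hU⟩, RingHom.mem_ker] at h2
      exact h2
  exact ⟨Abelian.epiDesc _ _ hk, Abelian.comp_epiDesc _ _ _⟩

/-- The reduced structure sheaf of a union of components is the torsion-free quotient. -/
theorem isQuotOn_quot {Y : Set X} (hY : IsClosed Y) (hc : IsCompUnion Y) :
    TFOne.IsQuotOn X (Coh.structureModule X) Y (ClSub.quotMod (vI Y hY)) (ClSub.toSubscheme (vI Y hY)) := by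
  obtain ⟨G, π, hG⟩ := exists_quotOn QCoh.isCoh_structureModule' isTorsionFree_structure isRkOne_structure hY hc
  obtain ⟨hp, hGc, hGt, hs⟩ := hG
  haveI := hp
  let ι := VecSt.subschι X Y hY
  haveI : Epi (ClSub.toSubscheme (vI Y hY)) := TFOneX.epi_unitToPush ι
  have hk : kernel.ι π ≫ ClSub.unitToPush ι = 0 := by
    refine QCoh.hom_eq_zero_of_affine _ fun W _ t => ?_
    let r : Γ(X, W) := (kernel.ι π).app W t
    show ι.app W r = 0
    refine NormAmpleX.eq_zero_of_germ_generic _ fun y hy hyW => ?_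
    obtain ⟨η', hη', hη'T, hsp⟩ := hc (ι y) ((range_subschι Y hY).subset (Set.mem_range_self y))
    obtain ⟨y', hy', hyη⟩ := exists_generic_over hY hη' hη'T
    have hyy : y' = y := NormAmpleX.eq_of_specializes_generic hy
      (ι.isClosedEmbedding.isInducing.specializes_iff.1 (hyη.symm ▸ hsp))
    subst hyy
    have hbi := bijective_at isRkOne_structure π hη' (hs.symm ▸ hη'T)
    have hηW : ι y' ∈ W := hyW
    subst hyη
    have h0 : (Coh.structureModule X).presheaf.germ W (ι y') hηW ((kernel.ι π).app W t) = 0 := by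
      refine hbi.1 ?_
      rw [map_zero, ← DerSch.stalkFunctor_map_germ (ι y') (kernel.ι π) W hηW t, ← sm_comp, kernel.condition,
        sm_zero]
    obtain ⟨V, hV, j, j', hz⟩ := TopCat.Presheaf.germ_eq _ (ι y') hηW hηW _ _ (h0.trans (map_zero _).symm)
    rw [map_zero] at hz
    have hz' : X.presheaf.map j.op r = 0 := hz
    have hg : X.presheaf.germ W (ι y') hηW r = 0 := by
      rw [← X.presheaf.germ_res_apply j (ι y') hV r, hz', map_zero]
    rw [← ι.germ_stalkMap_apply W y' hηW r, hg, map_zero]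
  let g : G ⟶ ClSub.quotMod (vI Y hY) := Abelian.epiDesc π (ClSub.unitToPush ι) hk
  have hfac : π ≫ g = ClSub.toSubscheme (vI Y hY) := Abelian.comp_epiDesc _ _ _
  haveI : Epi g := by
    haveI : Epi (π ≫ g) := by rw [hfac]; infer_instance
    exact epi_of_epi π g
  have hsupp : ∀ η ∈ genericPoints (X : Type u), η ∈ Y → η ∈ CohB1.support (ClSub.quotMod (vI Y hY)) :=
    fun η hη hηY => by
      obtain ⟨y, hy, rfl⟩ := exists_generic_over hY hη hηY
      haveI := isLocallyNoetherian_subsch Y hY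
      exact mem_support_push ι (mem_support_of_rkOne isRkOne_structure hy)
  haveI : Mono g := Preadditive.mono_of_cancel_zero _ fun {T} h hh =>
    hom_eq_zero hGc.1 hGt h fun η hη hηs a => by
      have hηY : η ∈ Y := hs ▸ hηs
      refine (bijective_desc isRkOne_structure hfac hη hηs (hsupp η hη hηY)).1 ?_
      rw [← sm_comp, hh, sm_zero, map_zero]
  haveI : IsIso g := isIso_of_mono_of_epi g
  refine ⟨inferInstance, ParShLib.isCoh_quotMod _, fun x => ?_, ?_⟩
  · haveI : Module.IsTorsionFree (X.presheaf.stalk x) ((DerSch.stalkFunctor X x).obj G : Type u) := hGt x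
    let e := ((DerSch.stalkFunctor X x).mapIso (asIso g)).toLinearEquiv
    exact Function.Injective.moduleIsTorsionFree e.symm e.symm.injective (fun r m => e.symm.map_smul r m)
  · exact (Set.Subset.antisymm (support_subset_of_epi g) (support_subset_of_mono g)).trans hs

/-- Invertible modules are torsion-free of rank one. -/
theorem isRkOne_of_isInvertible {M : X.Modules} (hM : PicF.IsInvertible M) : TFOne.IsRkOne X M := fun x _ => by
  obtain ⟨e⟩ := H23.InvStalk.exists_stalk_equiv hM x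
  exact ⟨e⟩

theorem isTorsionFree_of_isInvertible {M : X.Modules} (hM : PicF.IsInvertible M) : TorSh.IsTorsionFree M := fun x => by
  obtain ⟨e⟩ := H23.InvStalk.exists_stalk_equiv hM x
  exact Function.Injective.moduleIsTorsionFree e e.injective (fun r m => e.map_smul r m)

/-- The stalks of a twist by an invertible module. -/
theorem exists_stalk_twist {M : X.Modules} (hM : PicF.IsInvertible M) (A : X.Modules) (x : X) :
    Nonempty (((DerSch.stalkFunctor X x).obj ((SheafHomX.ten M).obj A) : Type u) ≃ₗ[X.presheaf.stalk x]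
      ((DerSch.stalkFunctor X x).obj A : Type u)) := by
  obtain ⟨e⟩ := H23.InvStalk.exists_stalk_equiv hM x
  exact ⟨(KFlatLib.stalkTensorIso x A M).toLinearEquiv.symm.trans
    ((TensorProduct.congr (LinearEquiv.refl _ _) e).trans (TensorProduct.rid _ _))⟩

theorem twist_torsionFree {M A : X.Modules} (hM : PicF.IsInvertible M) (hA : TorSh.IsTorsionFree A) :
    TorSh.IsTorsionFree ((SheafHomX.ten M).obj A) := fun x => by
  haveI : Module.IsTorsionFree (X.presheaf.stalk x) ((DerSch.stalkFunctor X x).obj A : Type u) := hA x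
  obtain ⟨e⟩ := exists_stalk_twist hM A x
  exact Function.Injective.moduleIsTorsionFree e e.injective (fun r m => e.map_smul r m)

theorem twist_support {M : X.Modules} (hM : PicF.IsInvertible M) (A : X.Modules) :
    CohB1.support ((SheafHomX.ten M).obj A) = CohB1.support A := by
  ext x
  obtain ⟨e⟩ := exists_stalk_twist hM A x
  exact not_congr e.toEquiv.subsingleton_congr

theorem sm_eq_zero_of_comp {A B C : X.Modules} (f : A ⟶ B) (g : B ⟶ C) (w : f ≫ g = 0) (x : X)
    (h : Function.Injective (sm g x)) (a) : sm f x a = 0 := h (by rw [← sm_comp, w, sm_zero, map_zero])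

/-- A map out of `O_Y` vanishes on the other half. -/
theorem comp_eq_zero_of_quot {Y : Set X} (hY : IsClosed Y) (hc : IsCompUnion Y) {M C : X.Modules}
    (π' : M ⟶ C) (hC : Coh.IsQCoh C) (htC : TorSh.IsTorsionFree C)
    (hsC : CohB1.support C = closure Yᶜ) (φ : ClSub.quotMod (vI Y hY) ⟶ M) :
    (ClSub.toSubscheme (vI Y hY) ≫ φ) ≫ π' = 0 := by
  obtain ⟨-, -, -, hsY⟩ := isQuotOn_quot hY hc
  refine hom_eq_zero hC htC _ fun η hη hηs v => ?_
  rw [hsC, mem_compl_iff hY hη] at hηs
  rw [Category.assoc, sm_comp, eq_zero_of_notMem (hsY.symm ▸ hηs) (sm (ClSub.toSubscheme (vI Y hY)) η v),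
    map_zero]

/-- Sections vanishing on the other half factor through `O_Y`. -/
theorem ideal_comp_eq_zero {Y : Set X} (hY : IsClosed Y) (hc : IsCompUnion Y) {M C : X.Modules}
    (hM : PicF.IsInvertible M) (π' : M ⟶ C) [Epi π'] (hsC : CohB1.support C = closure Yᶜ)
    (s : Coh.structureModule X ⟶ M) (hs : s ≫ π' = 0) : ClSub.idealModι (vI Y hY) ≫ s = 0 := by
  obtain ⟨hpY, -, -, hsY⟩ := isQuotOn_quot hY hc
  haveI := hpY
  refine hom_eq_zero (CurveDeg.isCoh_of_isInvertible hM).1 (isTorsionFree_of_isInvertible hM) _ fun η hη _ v => ?_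
  by_cases hηY : η ∈ Y
  · rw [sm_comp, sm_eq_zero_of_comp (ClSub.idealModι (vI Y hY)) (ClSub.toSubscheme (vI Y hY))
      (kernel.condition _) η (bijective_at isRkOne_structure _ hη (hsY.symm ▸ hηY)).1 v, map_zero]
  · rw [sm_comp, sm_eq_zero_of_comp s π' hs η
      (bijective_at (isRkOne_of_isInvertible hM) π' hη (hsC.symm ▸ (mem_compl_iff hY hη).2 hηY)).1 _]

variable {k : Type u} [Field k] [X.Over (Spec (CommRingCat.of k))] [IsProper (X ↘ Spec (CommRingCat.of k))]

/-- Maps of `O_Y` into a line bundle are the sections in the ideal of the other half. -/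
theorem finrank_hom_quot {Y : Set X} (hY : IsClosed Y) (hc : IsCompUnion Y) {M : X.Modules}
    (hM : PicF.IsInvertible M) :
    Module.finrank k (ClSub.quotMod (vI Y hY) ⟶ M) =
      Module.finrank k (Coh.HH X ((SheafHomX.ten M).obj (ClSub.idealMod (cI Y))) 0) := by
  haveI := H23.Chern.isEquivalence_ten hM
  haveI : (SheafHomX.ten M).IsEquivalence :=
    Functor.isEquivalence_of_iso ((KFlatLib.tensorBiFlipIso X).app M).symm
  have hMc : Coh.IsCoh M := CurveDeg.isCoh_of_isInvertible hM
  obtain ⟨hpY, hcY, htY, hsY⟩ := isQuotOn_quot hY hc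
  obtain ⟨hpC, hcC, htC, hsC⟩ := isQuotOn_quot isClosed_closure (isCompUnion_compl hY)
  haveI := hpY; haveI := hpC
  let qY := ClSub.toSubscheme (vI Y hY)
  let ι' : (SheafHomX.ten M).obj (ClSub.idealMod (cI Y)) ⟶ M :=
    (SheafHomX.ten M).map (ClSub.idealModι (cI Y)) ≫ (SheafHomX.tenUnitIso M).hom
  let π' : M ⟶ (SheafHomX.ten M).obj (ClSub.quotMod (cI Y)) :=
    (SheafHomX.tenUnitIso M).inv ≫ (SheafHomX.ten M).map (ClSub.toSubscheme (cI Y))
  haveI : Mono (ClSub.idealModι (cI Y)) := inferInstanceAs (Mono (kernel.ι _))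
  haveI : Mono ι' := inferInstanceAs (Mono (_ ≫ _))
  haveI : Epi π' := inferInstanceAs (Epi (_ ≫ _))
  have hw : ι' ≫ π' = 0 := by
    simp only [ι', π', Category.assoc, Iso.hom_inv_id_assoc]
    rw [← Functor.map_comp, ClSub.idealModι, kernel.condition, Functor.map_zero]
  have hex : (ShortComplex.mk ι' π' hw).Exact := by
    refine ShortComplex.exact_of_iso ?_
      (((DivisorExt.ideal_shortExact (cI Y)).exact).map (SheafHomX.ten M))
    exact ShortComplex.isoMk (Iso.refl _) (SheafHomX.tenUnitIso M) (Iso.refl _)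
      (Category.id_comp _)
      (by
        show (SheafHomX.tenUnitIso M).hom ≫ π' = (SheafHomX.ten M).map (ClSub.toSubscheme (cI Y)) ≫ 𝟙 _
        rw [Category.comp_id, Iso.hom_inv_id_assoc])
  have hTc : Coh.IsQCoh ((SheafHomX.ten M).obj (ClSub.quotMod (cI Y))) := (ParShLib.isCoh_tensorMod hcC hMc).1
  have hTt := twist_torsionFree hM htC
  have hTs : CohB1.support ((SheafHomX.ten M).obj (ClSub.quotMod (cI Y))) = closure Yᶜ :=
    (twist_support hM _).trans hsC
  let a : (ClSub.quotMod (vI Y hY) ⟶ M) →ₗ[k] (Coh.structureModule X ⟶ M) :=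
    { toFun := fun φ => qY ≫ φ
      map_add' := fun φ ψ => Preadditive.comp_add _ _ _ _ _ _
      map_smul' := fun c φ => Linear.comp_smul _ _ _ _ _ _ }
  let b : (Coh.structureModule X ⟶ (SheafHomX.ten M).obj (ClSub.idealMod (cI Y))) →ₗ[k]
      (Coh.structureModule X ⟶ M) :=
    { toFun := fun σ => σ ≫ ι'
      map_add' := fun φ ψ => Preadditive.add_comp _ _ _ _ _ _
      map_smul' := fun c φ => Linear.smul_comp _ _ _ _ _ _ }
  have hrange : LinearMap.range a = LinearMap.range b := by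
    refine le_antisymm ?_ ?_
    · rintro _ ⟨φ, rfl⟩
      have hz : (qY ≫ φ) ≫ π' = 0 := comp_eq_zero_of_quot hY hc π' hTc hTt hTs φ
      obtain ⟨σ, hσ⟩ : ∃ σ, σ ≫ ι' = qY ≫ φ := ⟨hex.lift _ hz, hex.lift_f _ hz⟩
      exact ⟨σ, hσ⟩
    · rintro _ ⟨σ, rfl⟩
      have hz : ClSub.idealModι (vI Y hY) ≫ (σ ≫ ι') = 0 :=
        ideal_comp_eq_zero hY hc hM π' hTs (σ ≫ ι') (by rw [Category.assoc, hw, comp_zero])
      refine ⟨Abelian.epiDesc qY (σ ≫ ι') hz, ?_⟩
      show qY ≫ Abelian.epiDesc qY (σ ≫ ι') hz = σ ≫ ι'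
      exact Abelian.comp_epiDesc _ _ _
  have ha : Function.Injective a := fun φ ψ h => (cancel_epi qY).1 h
  have hb : Function.Injective b := fun φ ψ h => (cancel_mono ι').1 h
  exact (((LinearEquiv.ofInjective a ha).trans (LinearEquiv.ofEq _ _ hrange)).trans
    ((LinearEquiv.ofInjective b hb).symm.trans (CurveDual.homH0 _))).finrank_eq

variable (hdim : topologicalKrullDim X ≤ 1)
  (hgen : ∀ x ∈ genericPoints (X : Type u), ¬ IsClosed ({x} : Set X))
  {ω : X.Modules} {t : Coh.HH X ω 1 →ₗ[k] k} (hω : Canon.IsRDualOver k X 1 ω t) (hωi : PicF.IsInvertible ω)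

/-- `k_Y`, the length of the intersection with the rest of the curve. -/
def kY (k : Type u) [Field k] [X.Over (Spec (CommRingCat.of k))] (Y : Set X) (hY : IsClosed Y) : ℤ :=
  (Module.finrank k (Coh.HH X (ClSub.quotMod (vI Y hY ⊔ cI Y)) 0) : ℤ)

include hdim hgen hω hωi in
/-- Adjunction: `χ(I_C ⊗ ω) = -χ(O_Y)`. -/
theorem euler_ideal_twist {Y : Set X} (hY : IsClosed Y) (hc : IsCompUnion Y) :
    Curv2.euler k X (CohB1.tensorMod (ClSub.idealMod (cI Y)) ω) =
      -Curv2.euler k X (ClSub.quotMod (vI Y hY)) := by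
  obtain ⟨-, hcY, htY, -⟩ := isQuotOn_quot hY hc
  refine euler_dual hdim hω hcY (ParShLib.isCoh_tensorMod (NormalLib.isCoh_idealMod _)
    (CurveDeg.isCoh_of_isInvertible hωi)) (fun x hx => one_le_depth_closed htY hgen x hx) fun P hP => ?_
  have hM : PicF.IsInvertible (CohB1.tensorMod ω P) := InvX.isInvertible_tensorMod hωi hP
  refine (finrank_hom_quot hY hc hM).trans ?_
  obtain ⟨u⟩ : Nonempty (CohB1.tensorMod (ClSub.idealMod (cI Y)) (CohB1.tensorMod ω P) ≅
      CohB1.tensorMod (CohB1.tensorMod (ClSub.idealMod (cI Y)) ω) P) := by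
    letI := H23.PicMul.clMonoid X
    refine H23.PicMul.cl_eq_iff.1 ?_
    simp only [H23.PicMul.cl_tensor]
    exact (mul_assoc _ _ _).symm
  exact (CurveCohLib.hhEquiv (k := k) u 0).finrank_eq

include hdim in
theorem euler_meet {Y : Set X} (hY : IsClosed Y) :
    Curv2.euler k X (ClSub.quotMod (vI Y hY ⊔ cI Y)) = kY k Y hY ∧
      ∀ x ∈ CohB1.support (ClSub.quotMod (vI Y hY ⊔ cI Y)), IsClosed ({x} : Set X) := by
  have hs : ∀ x ∈ CohB1.support (ClSub.quotMod (vI Y hY ⊔ cI Y)), IsClosed ({x} : Set X) := fun x hx => by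
    have h := IntCoeff.support_quotMod _ hx
    rw [Scheme.IdealSheafData.support_sup, Closeds.coe_inf, Scheme.IdealSheafData.coe_support_vanishingIdeal,
      Scheme.IdealSheafData.coe_support_vanishingIdeal] at h
    exact isClosed_singleton_of_meet hdim hY h
  refine ⟨?_, hs⟩
  have hc : Coh.IsCoh (ClSub.quotMod (vI Y hY ⊔ cI Y)) := ParShLib.isCoh_quotMod _
  rw [NefH1.euler_eq k hdim hc.1]
  haveI : Subsingleton (Coh.HH X (ClSub.quotMod (vI Y hY ⊔ cI Y)) 1) :=
    (Euler.good_of_support hc fun x hx => (hs x hx).closure_eq).1 1 le_rfl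
  rw [Module.finrank_zero_of_subsingleton (R := k) (M := Coh.HH X (ClSub.quotMod (vI Y hY ⊔ cI Y)) 1), kY]
  simp

/-- The Euler characteristic of `O_Y`. -/
abbrev chiY (k : Type u) [Field k] [X.Over (Spec (CommRingCat.of k))] (Y : Set X) (hY : IsClosed Y) : ℤ :=
  Curv2.euler k X (ClSub.quotMod (vI Y hY))

include hdim hgen hω hωi in
/-- The degree of `ω` on a subcurve. -/
theorem degOn_dualizing {Y : Set X} (hY : IsClosed Y) (hc : IsCompUnion Y) :
    degOn k ω 1 Y hY = -2 * chiY k Y hY + kY k Y hY := by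
  have hωr := InvEnd.isFinLocFreeOfRank_one hωi
  let ψ := CurvePsi.eulerPsi k hωr
  let IC := ClSub.idealMod (cI Y)
  let Z := ClSub.quotMod (vI Y hY ⊔ cI Y)
  have hO : Coh.IsCoh (Coh.structureModule X) := QCoh.isCoh_structureModule'
  have hcY : Coh.IsCoh (ClSub.quotMod (vI Y hY)) := ParShLib.isCoh_quotMod _
  have hcC : Coh.IsCoh (ClSub.quotMod (cI Y)) := ParShLib.isCoh_quotMod _
  have hcI : Coh.IsCoh IC := NormalLib.isCoh_idealMod _
  have hcZ : Coh.IsCoh Z := ParShLib.isCoh_quotMod _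
  have hS := DivisorExt.ideal_shortExact (cI Y)
  have e1 := ψ.add _ _ _ hS hcI hO hcC
  have e2 := CurveCohLib.euler_additive (k := k) hS hcI hO hcC
  obtain ⟨q₁, h₁⟩ := exists_quot (le_sup_left : vI Y hY ≤ vI Y hY ⊔ cI Y)
  obtain ⟨q₂, h₂⟩ := exists_quot (le_sup_right : cI Y ≤ vI Y hY ⊔ cI Y)
  obtain ⟨hep, w, ⟨hlim⟩⟩ := S19606.result X _ _ (inf_eq_bot hY) q₁ q₂ h₁ h₂
  haveI := hep
  haveI : Mono (biprod.lift (ClSub.toSubscheme (vI Y hY)) (ClSub.toSubscheme (cI Y))) :=
    mono_of_isLimit_fork hlim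
  have hS2 : (ShortComplex.mk _ _ w).ShortExact := { exact := ShortComplex.exact_of_f_is_kernel _ hlim }
  have hB := KZ.isCoh_biprod hcY hcC
  have e3 := ψ.add _ _ _ hS2 hO hB hcZ
  have e4 := CurveCohLib.euler_additive (k := k) hS2 hO hB hcZ
  have hS3 := (ShortComplex.Splitting.ofHasBinaryBiproduct (ClSub.quotMod (vI Y hY)) (ClSub.quotMod (cI Y))).shortExact
  have e5 := ψ.add _ _ _ hS3 hcY hB hcC
  have e6 := CurveCohLib.euler_additive (k := k) hS3 hcY hB hcC
  obtain ⟨hk, hs⟩ := euler_meet (k := k) hdim hY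
  have e7 := ψ.zero hcZ hs
  have e8 := euler_ideal_twist hdim hgen hω hωi hY hc
  have e9 : Curv2.euler k X (CohB1.tensorMod IC ω) = ψ.toFun IC + Curv2.euler k X IC := by
    show _ = (Curv2.euler k X ((DCoh.tensorBi.obj ω).obj IC) - ((1 : ℕ) : ℤ) * Curv2.euler k X IC) + _
    have e := CurveCohLib.euler_congr (k := k) (CurveTensor.commIso IC ω)
    rw [Nat.cast_one, one_mul, sub_add_cancel]
    exact e
  rw [degOn_eq k hωr Y hY]
  show ψ.toFun (ClSub.quotMod (vI Y hY)) = _
  dsimp only at e1 e2 e3 e4 e5 e6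
  dsimp only [IC, Z, chiY] at *
  linarith

end Groth.Agent.CurveGor
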