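import Groth.Agent.CurveGor.GenusFormula
import Groth.Agent.CurveGor.MulticrossScheme
import Groth.Agent.MorLib.Birat
import Groth.Agent.BrnchLib.Unibranch
import Groth.Agent.MeroX.GenericVals
import Groth.Agent.GeomComp5.Count
import Groth.Agent.SchTop.Closed
import Groth.Agent.S11569
import Groth.Agent.S7652
import Groth.Agent.S7655

/-!
# The unipotent rank of a reduced curve
-/

set_option autoImplicit false
set_option linter.style.haveILetI false
set_option linter.unusedSectionVars false
set_option backward.isDefEq.respectTransparency false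
set_option backward.isDefEq.respectTransparency.types false
set_option maxHeartbeats 1000000
set_option synthInstance.maxHeartbeats 200000

universe u

open CategoryTheory CategoryTheory.Limits AlgebraicGeometry TopologicalSpace

noncomputable section

attribute [local instance] Curv2.resAlgebra

namespace Groth.Agent.CurveGor.Unipotent

open Groth.Agent

/-- A finite map inducing isomorphisms at the generic points is an isomorphism over a dense open. -/
theorem exists_dense_isIso {X Y : Scheme.{u}} [IsNoetherian X] [AlgebraicGeometry.IsReduced X]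
    [AlgebraicGeometry.IsReduced Y] (π : Y ⟶ X) [IsFinite π]
    (hbij : Set.BijOn π (genericPoints (Y : Type u)) (genericPoints (X : Type u)))
    (hres : ∀ y ∈ genericPoints (Y : Type u), Function.Bijective (π.residueFieldMap y).hom) :
    ∃ V : X.Opens, Dense (V : Set X) ∧ Dense ((π ⁻¹ᵁ V : Y.Opens) : Set Y) ∧ IsIso (π ∣_ V) := by
  have hiso : ∀ y ∈ genericPoints (Y : Type u), IsIso (π.stalkMap y) := fun y hy => by
    have hX : IsField (X.presheaf.stalk (π y)) := MeroX.isField_stalk fun z hz =>
      MorLib.Birat.eq_of_specializes_generic (hbij.mapsTo hy) hz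
    have hY : IsField (Y.presheaf.stalk y) := MeroX.isField_stalk fun z hz =>
      MorLib.Birat.eq_of_specializes_generic hy hz
    have hXr : Function.Injective (X.residue (π y)).hom := by
      letI := hX.toField
      exact (X.residue (π y)).hom.injective
    have hYr : Function.Injective (Y.residue y).hom := by
      letI := hY.toField
      exact (Y.residue y).hom.injective
    have hsq : ∀ a, (Y.residue y).hom ((π.stalkMap y).hom a) =
        (π.residueFieldMap y).hom ((X.residue (π y)).hom a) := fun a =>
      (congr($(Scheme.residue_residueFieldMap π y).hom a)).symm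
    refine (ConcreteCategory.isIso_iff_bijective _).2 ⟨fun a b h => hXr ((hres y hy).1 ?_), fun c => ?_⟩
    · rw [← hsq, ← hsq]; exact congrArg _ h
    · obtain ⟨r, hr⟩ := (hres y hy).2 ((Y.residue y).hom c)
      obtain ⟨a, rfl⟩ := Scheme.residue_surjective X (π y) r
      exact ⟨a, hYr ((hsq a).trans hr)⟩
  obtain ⟨U, V, hUV, hgY, hgX, hI⟩ := MorLib.Birat.exists_dense_iso π
    NoetherianSpace.finite_irreducibleComponents hbij hiso (Or.inl inferInstance)
  haveI := hI
  let C : Set X := π '' (U : Set Y)ᶜ
  have hC : IsClosed C := π.isClosedMap _ U.2.isClosed_compl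
  let V' : X.Opens := V ⊓ ⟨Cᶜ, hC.isOpen_compl⟩
  have hgX' : genericPoints (X : Type u) ⊆ V' := fun x hx => ⟨hgX hx, fun ⟨z, hz, hzx⟩ => by
    obtain ⟨y, hy, rfl⟩ := hbij.surjOn hx
    exact hz (MorLib.Birat.fibre_generic π hbij hiso hy hzx ▸ hgY hy)⟩
  have hdense : ∀ {Z : Scheme.{u}} (W : Z.Opens), genericPoints (Z : Type u) ⊆ W → Dense (W : Set Z) :=
    fun W hW => dense_iff_inter_open.2 fun O hO ⟨x, hx⟩ => by
      obtain ⟨η, hη, hsp⟩ := MorLib.Birat.exists_generic x
      exact ⟨η, hsp.mem_open hO hx, hW hη⟩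
  have hle : π ⁻¹ᵁ V' ≤ U := fun z hz => by
    by_contra h
    exact hz.2 ⟨z, h, rfl⟩
  refine ⟨V', hdense V' hgX', hdense _ fun y hy => hgX' (hbij.mapsTo hy), ?_⟩
  have hfac : (π ∣_ V') ≫ V'.ι = Y.homOfLE hle ≫ π.resLE V U hUV ≫ V.ι := by
    rw [morphismRestrict_ι, Scheme.Hom.resLE_comp_ι, Scheme.homOfLE_ι_assoc]
  haveI : IsOpenImmersion ((π ∣_ V') ≫ V'.ι) := by rw [hfac]; infer_instance
  haveI : IsOpenImmersion (π ∣_ V') := IsOpenImmersion.of_comp _ V'.ι
  haveI : Surjective (π ∣_ V') := ⟨fun x => by
    obtain ⟨z, hz⟩ := (π.resLE V U hUV).surjective ⟨x.1, x.2.1⟩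
    have hzx : π z.1 = x.1 := by
      have h1 := congrArg V.ι hz
      rw [← Scheme.Hom.comp_apply, Scheme.Hom.resLE_comp_ι] at h1
      exact h1
    refine ⟨⟨z.1, show π z.1 ∈ V' from hzx.symm ▸ x.2⟩, V'.ι.isOpenEmbedding.injective ?_⟩
    rw [← Scheme.Hom.comp_apply, morphismRestrict_ι]
    exact hzx⟩
  exact (isIso_iff_isOpenImmersion_and_surjective _).2 ⟨inferInstance, inferInstance⟩

/-- The connected components of a normal Noetherian scheme are its irreducible components. -/
theorem card_connectedComponents_normal {Y : Scheme.{u}} [IsNoetherian Y] (hY : Pi1.IsNormalScheme Y) :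
    Nat.card (_root_.ConnectedComponents Y) = Nat.card (irreducibleComponents (Y : Type u)) := by
  let ι := irreducibleComponents (Y : Type u)
  haveI : Finite ι := Set.finite_coe_iff.2 NoetherianSpace.finite_irreducibleComponents
  have h := GeomComp5.card_connectedComponents (T := Y) (Z := fun i : ι => i.1)
    (fun i => isClosed_of_mem_irreducibleComponents _ i.2) (fun i => i.2.1)
    (by rw [← Set.sUnion_eq_iUnion]; exact sUnion_irreducibleComponents)
  have hbij : Function.Bijective (Quot.mk (GeomComp5.Meet fun i : ι => i.1)) := by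
    refine ⟨fun i j hij => ?_, Quot.mk_surjective⟩
    have : ∀ a b : ι, Relation.EqvGen (GeomComp5.Meet fun i : ι => i.1) a b → a = b := fun a b hab => by
      induction hab with
      | rel a b hm =>
        obtain ⟨x, hxa, hxb⟩ := hm
        haveI : IsDomain (Y.presheaf.stalk x) := (hY x).1
        exact Subtype.ext (SchTop.irreducibleComponents_eq x a.2 b.2 hxa hxb)
      | refl a => rfl
      | symm a b _ ih => exact ih.symm
      | trans a b c _ _ ih ih' => exact ih.trans ih'
    exact this i j (Quot.eqvGen_exact hij)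
  haveI : Finite (Quot (GeomComp5.Meet fun i : ι => i.1)) := Finite.of_surjective _ hbij.2
  rw [← ENat.card_congr (Equiv.ofBijective _ hbij), ENat.card_eq_coe_natCard ι] at h
  haveI : Finite (_root_.ConnectedComponents Y) := ENat.card_lt_top.1 (h ▸ ENat.natCast_lt_top _)
  rw [ENat.card_eq_coe_natCard] at h
  exact_mod_cast h

/-- A local ring has at least one and at most as many branches as geometric branches. -/
theorem numBranches_bounds (A : Type u) [CommRing A] [IsLocalRing A] [IsNoetherianRing A] :
    Brnch.numBranches A ≤ Brnch.numGeomBranches A ∧ 1 ≤ Brnch.numBranches A := by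
  have hfin := minimalPrimes.finite_of_isNoetherianRing A
  rw [Brnch.numGeomBranches, if_pos hfin, Brnch.numBranches, if_pos hfin]
  refine ⟨?_, ?_⟩
  · exact ENat.card_le_card_of_injective
      (f := fun m => (⟨m, ((BrnchLib.subsingleton_emb_iff A m).1).some⟩ : Σ m : MaximalSpectrum (CAlg2.normRed A), Brnch.Emb A m))
      fun a b h => congrArg Sigma.fst h
  · haveI : Nontrivial (CAlg2.red A) := Ideal.Quotient.nontrivial_iff.2 (by
      intro h
      exact not_isNilpotent_one (show (1 : A) ∈ nilradical A from h ▸ trivial))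
    haveI : Nonempty (MaximalSpectrum (CAlg2.normRed A)) := inferInstance
    exact ENat.one_le_card_iff_nonempty _ |>.2 inferInstance

variable (k : Type u) [Field k] [IsAlgClosed k] {X Y : Scheme.{u}} [X.Over (Spec (CommRingCat.of k))]
  [IsProper (X ↘ Spec (CommRingCat.of k))]

open Classical in
/-- The unipotent rank vanishes exactly when all closed points are ordinary multiple points. -/
theorem unipotent_iff [AlgebraicGeometry.IsReduced X]
    (hequi : ∀ Z ∈ irreducibleComponents (X : Type u), topologicalKrullDim Z = 1) [ConnectedSpace X]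
    (π : Y ⟶ X) [IsFinite π] (hY : Pi1.IsNormalScheme Y)
    (hbij : Set.BijOn π (genericPoints (Y : Type u)) (genericPoints (X : Type u)))
    (hres : ∀ y ∈ genericPoints (Y : Type u), Function.Bijective (π.residueFieldMap y).hom) :
    letI : Y.Over (Spec (CommRingCat.of k)) := ⟨π ≫ (X ↘ (Spec (CommRingCat.of k)))⟩
    ((Curv2.genus k X : ℤ) = (Curv2.genus k Y : ℤ) +
        (∑ᶠ x : X, (if IsClosed ({x} : Set X) then (((Brnch.numBranchesAt X x).toNat : ℤ) - 1) else 0)) -
        (Nat.card (irreducibleComponents (X : Type u)) : ℤ) + 1) ↔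
      ∀ x : X, IsClosed ({x} : Set X) → Curv2.deltaInv (X.presheaf.stalk x) + 1 = Brnch.numBranchesAt X x := by
  letI : Y.Over (Spec (CommRingCat.of k)) := ⟨π ≫ (X ↘ (Spec (CommRingCat.of k)))⟩
  haveI : IsProper (Y ↘ Spec (CommRingCat.of k)) :=
    inferInstanceAs (IsProper (π ≫ (X ↘ (Spec (CommRingCat.of k)))))
  haveI := CurveCohLib.isNoetherian_of_proper (k := k) (X := X)
  haveI := CurveCohLib.isNoetherian_of_proper (k := k) (X := Y)
  haveI : ∀ y : Y, _root_.IsReduced (Y.presheaf.stalk y) := fun y => by
    haveI := (hY y).1; infer_instance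
  haveI : AlgebraicGeometry.IsReduced Y := isReduced_of_isReduced_stalk Y
  obtain ⟨V, hV, hV', hVI⟩ := exists_dense_isIso π hbij hres
  haveI := hVI
  obtain ⟨x₀⟩ : Nonempty X := inferInstance
  have hdim : topologicalKrullDim X = 1 := le_antisymm (TFOneX.dim_le_one hequi) (by
    have hC := irreducibleComponent_mem_irreducibleComponents x₀
    rw [← hequi _ hC]
    exact topologicalKrullDim_subspace_le _ _)
  have hdimY : topologicalKrullDim Y ≤ 1 := by
    rw [VarDim.topologicalKrullDim_eq_iSup_deg (Y ↘ Spec (CommRingCat.of k))]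
    refine iSup_le fun y => le_trans ?_ hdim.le
    rw [VarDim.topologicalKrullDim_eq_iSup_deg (X ↘ Spec (CommRingCat.of k))]
    obtain ⟨η, hη, hs⟩ := GenusLe.exists_generization_mem_dense (X := Y) hV' y
    let j := (π ∣_ V) ≫ V.ι
    refine le_iSup_of_le (j ⟨η, hη⟩) ?_
    have h1 : VarDim.deg (Y ↘ Spec (CommRingCat.of k)) η = VarDim.deg (X ↘ Spec (CommRingCat.of k)) (j ⟨η, hη⟩) := by
      rw [← VarDim.deg_comp (X ↘ Spec (CommRingCat.of k)) j ⟨η, hη⟩]
      refine (VarDim.deg_comp (Y ↘ Spec (CommRingCat.of k)) (π ⁻¹ᵁ V).ι ⟨η, hη⟩).symm.trans ?_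
      congr 1
      exact (morphismRestrict_ι_assoc π V _).symm.trans (Category.assoc _ _ _).symm
    rw [← h1]
    exact_mod_cast VarDim.deg_le_of_specializes (Y ↘ Spec (CommRingCat.of k)) hs
  -- the local inequality
  let δ : X → ℕ := fun x => (Curv2.deltaInv (X.presheaf.stalk x)).toNat
  let m : X → ℕ := fun x => (Brnch.numBranchesAt X x).toNat
  have hloc : ∀ x : X, IsClosed ({x} : Set X) → Curv2.deltaInv (X.presheaf.stalk x) = δ x ∧
      Brnch.numBranchesAt X x = m x ∧ 1 ≤ m x ∧ m x ≤ δ x + 1 := fun x hx => by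
    obtain ⟨hred, hN, -, hd, -⟩ := Multi.stalk_data k hequi hx
    haveI := hred
    haveI := hN.1
    have hδ : Curv2.deltaInv (X.presheaf.stalk x) = δ x :=
      (ENat.natCast_toNat (S7652.result _ hN hd).2.2.ne).symm
    have h := (numBranches_bounds (X.presheaf.stalk x)).1.trans (S7655.result _ hN hd)
    rw [hδ] at h
    have hm : Brnch.numBranchesAt X x = m x := by
      refine (ENat.natCast_toNat fun htop => ?_).symm
      rw [Brnch.numBranchesAt] at htop
      rw [htop] at h
      exact ENat.natCast_ne_top (δ x + 1) (top_le_iff.1 (by exact_mod_cast h))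
    have h1 := (numBranches_bounds (X.presheaf.stalk x)).2
    have hm' : Brnch.numBranches (X.presheaf.stalk x) = m x := hm
    rw [hm'] at h h1
    exact ⟨hδ, hm, by exact_mod_cast h1, by exact_mod_cast h⟩
  -- away from finitely many points nothing happens
  have hcl : ∀ x ∈ (V : Set X)ᶜ, IsClosed ({x} : Set X) := fun x hx =>
    GenusLe.isClosed_of_notMem_dense hdim.le hV hx
  have hfin : ((V : Set X)ᶜ).Finite := CurveCohLib.finite_of_closedPoints V.2.isClosed_compl hcl
  have hzero : ∀ x ∈ V, δ x = 0 := fun x hx => by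
    obtain ⟨y, hy⟩ := (π ∣_ V).surjective ⟨x, hx⟩
    have hyx : π y.1 = x := (morphismRestrict_base_coe π V y).symm.trans (congrArg Subtype.val hy)
    subst hyx
    haveI : IsIso ((π ∣_ V).stalkMap y) := inferInstance
    haveI : IsIso (π.stalkMap y.1) :=
      ((MorphismProperty.isomorphisms _).arrow_mk_iso_iff (morphismRestrictStalkMap π V y)).1
        (show MorphismProperty.isomorphisms _ ((π ∣_ V).stalkMap y) from ‹_›)
    obtain ⟨hdom, hic⟩ := hY y.1
    let e := (asIso (π.stalkMap y.1)).commRingCatIsoToRingEquiv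
    haveI : IsDomain (X.presheaf.stalk (π y.1)) := MulEquiv.isDomain _ e.toMulEquiv
    haveI := hic
    haveI : IsIntegrallyClosed (X.presheaf.stalk (π y.1)) := IsIntegrallyClosed.of_equiv e.symm
    show (Curv2.deltaInv _).toNat = 0
    rw [show Curv2.deltaInv (X.presheaf.stalk (π y.1)) = 0 from ?_]
    · rfl
    rw [Curv2.deltaInv, Module.length_eq_zero_iff, Submodule.Quotient.subsingleton_iff, LinearMap.range_eq_top]
    intro z
    obtain ⟨a, ha⟩ := IsIntegrallyClosed.isIntegral_iff.1 z.2
    exact ⟨a, Subtype.ext ha⟩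
  let cls : Finset X := hfin.toFinset
  have hsum1 : (∑ᶠ x : X, (if IsClosed ({x} : Set X) then
      ((Module.finrank k (X.residueField x) : ℤ) * (δ x : ℤ)) else 0)) = ∑ x ∈ cls, (δ x : ℤ) := by
    rw [finsum_eq_sum_of_support_subset _ (s := cls) fun x hx => ?_]
    · refine Finset.sum_congr rfl fun x hx => ?_
      have hxc := hcl x (hfin.mem_toFinset.1 hx)
      rw [if_pos hxc]
      have hb : Function.Bijective (Algebra.linearMap k (X.residueField x)) :=
        ⟨(Curv2.resMap k X x).injective, CurveSection.surjective_resMap k hxc⟩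
      rw [← (LinearEquiv.ofBijective _ hb).finrank_eq, Module.finrank_self, Nat.cast_one, one_mul]
    · refine hfin.mem_toFinset.2 fun hxV => hx ?_
      show (if IsClosed ({x} : Set X) then _ else 0) = 0
      rw [hzero x hxV, Nat.cast_zero, mul_zero, ite_self]
  have hsum2 : (∑ᶠ x : X, (if IsClosed ({x} : Set X) then ((m x : ℤ) - 1) else 0)) =
      ∑ x ∈ cls, ((m x : ℤ) - 1) := by
    rw [finsum_eq_sum_of_support_subset _ (s := cls) fun x hx => ?_]
    · exact Finset.sum_congr rfl fun x hx => if_pos (hcl x (hfin.mem_toFinset.1 hx))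
    · refine hfin.mem_toFinset.2 fun hxV => hx ?_
      by_cases hxc : IsClosed ({x} : Set X)
      · obtain ⟨-, -, h1, h2⟩ := hloc x hxc
        rw [hzero x hxV] at h2
        show (if IsClosed ({x} : Set X) then _ else 0) = 0
        rw [if_pos hxc]
        omega
      · exact if_neg hxc
  -- Euler characteristics
  have he := S11569.euler_normalization_field (k := k) hdim.le π rfl hY hV hV'
  have hc : Nat.card (_root_.ConnectedComponents Y) = Nat.card (irreducibleComponents (X : Type u)) := by
    rw [card_connectedComponents_normal hY]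
    refine (Nat.card_congr (genericPoints.equiv (α := (Y : Type u)))).symm.trans
      ((Nat.card_congr (Equiv.ofBijective _ hbij.bijective)).trans (Nat.card_congr (genericPoints.equiv (α := (X : Type u)))))
  have hY0 := (finrank_globalFunctions (X := Y) k).2
  have hX0 := (finrank_globalFunctions (X := X) k).2
  rw [NefH1.euler_eq k hdim.le QCoh.isQCoh_structureModule, NefH1.euler_eq k hdimY QCoh.isQCoh_structureModule,
    hX0, hY0, hsum1, hc, show Nat.card (_root_.ConnectedComponents X) = 1 from Nat.card_unique] at he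
  change ((Curv2.genus k X : ℤ) = (Curv2.genus k Y : ℤ) +
        (∑ᶠ x : X, (if IsClosed ({x} : Set X) then ((m x : ℤ) - 1) else 0)) -
        (Nat.card (irreducibleComponents (X : Type u)) : ℤ) + 1) ↔ _
  rw [hsum2]
  simp only [Curv2.genus] at *
  constructor
  · intro h x hxc
    obtain ⟨hδ, hm, h1, h2⟩ := hloc x hxc
    rw [hδ, hm]
    have heq : ∑ x ∈ cls, ((m x : ℤ) - 1) = ∑ x ∈ cls, (δ x : ℤ) := by push_cast at he; omega
    have hpt : δ x + 1 = m x := by
      by_cases hxV : x ∈ V
      · rw [hzero x hxV] at h2 ⊢; omega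
      · have := (Finset.sum_eq_sum_iff_of_le fun y hy => by
          obtain ⟨-, -, -, h⟩ := hloc y (hcl y (hfin.mem_toFinset.1 hy))
          omega).1 heq x (hfin.mem_toFinset.2 hxV)
        omega
    exact_mod_cast hpt
  · intro h
    have heq : ∑ x ∈ cls, ((m x : ℤ) - 1) = ∑ x ∈ cls, (δ x : ℤ) := Finset.sum_congr rfl fun x hx => by
      have hxc := hcl x (hfin.mem_toFinset.1 hx)
      have h' := h x hxc
      obtain ⟨hδ, hm, -, -⟩ := hloc x hxc
      rw [hδ, hm] at h'
      have : δ x + 1 = m x := by exact_mod_cast h'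
      omega
    push_cast at he
    omega

end Groth.Agent.CurveGor.Unipotent
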